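import Mathlib
import Cfsg.Prelude

/-!
Groups with the three-local structure of the alternating group of degree nine: the models and the
data.

Points are `0, …, 8`; `z = (0 1 2)`, `z2 = (3 4 5)`, `z3 = (6 7 8)`, `y = z z2`, `x = z z2 z3`,
`p = (0 3 6)(1 4 7)(2 5 8)`, `τ = (0 3)(1 4)(2 5)(6 7)`.
-/

set_option autoImplicit false

namespace CfsgLib.ANineThree

open Equiv Subgroup

universe u

/-- Permutations of nine letters. -/
abbrev P9 := Perm (Fin 9)

/-- The stabilizer of the partition into three blocks in the alternating group. -/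
def Hm : Subgroup P9 where
  carrier := {σ | Perm.sign σ = 1 ∧ ∀ i j : Fin 9, (σ i).1 / 3 = (σ j).1 / 3 ↔ i.1 / 3 = j.1 / 3}
  one_mem' := ⟨map_one _, fun _ _ => Iff.rfl⟩
  mul_mem' := fun {a b} ha hb => ⟨by rw [map_mul, ha.1, hb.1, one_mul],
    fun i j => (ha.2 (b i) (b j)).trans (hb.2 i j)⟩
  inv_mem' := fun {a} ha => ⟨by rw [Perm.sign_inv, ha.1],
    fun i j => by
      have h := ha.2 (a⁻¹ i) (a⁻¹ j)
      simpa using h.symm⟩

/-- The stabilizer of the first block in the alternating group. -/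
def K : Subgroup P9 where
  carrier := {σ | Perm.sign σ = 1 ∧ ∀ i : Fin 9, (σ i).1 < 3 ↔ i.1 < 3}
  one_mem' := ⟨map_one _, fun _ => Iff.rfl⟩
  mul_mem' := fun {a b} ha hb => ⟨by rw [map_mul, ha.1, hb.1, one_mul],
    fun i => (ha.2 (b i)).trans (hb.2 i)⟩
  inv_mem' := fun {a} ha => ⟨by rw [Perm.sign_inv, ha.1],
    fun i => by
      have h := ha.2 (a⁻¹ i)
      simpa using h.symm⟩

theorem mem_Hm {σ : P9} : σ ∈ Hm ↔
    Perm.sign σ = 1 ∧ ∀ i j : Fin 9, (σ i).1 / 3 = (σ j).1 / 3 ↔ i.1 / 3 = j.1 / 3 := Iff.rfl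

theorem mem_K {σ : P9} : σ ∈ K ↔ Perm.sign σ = 1 ∧ ∀ i : Fin 9, (σ i).1 < 3 ↔ i.1 < 3 := Iff.rfl

instance : DecidablePred (· ∈ Hm) := fun _ => decidable_of_iff' _ mem_Hm

instance : DecidablePred (· ∈ K) := fun _ => decidable_of_iff' _ mem_K

/-- `(0 1 2)` -/
def z : P9 := swap 0 1 * swap 1 2
/-- `(3 4 5)` -/
def z2 : P9 := swap 3 4 * swap 4 5
/-- `(6 7 8)` -/
def z3 : P9 := swap 6 7 * swap 7 8
/-- `(0 1 2)(3 4 5)` -/
def y : P9 := z * z2
/-- `(0 1 2)(3 4 5)(6 7 8)` -/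
def x : P9 := z * z2 * z3
/-- `(0 3 6)(1 4 7)(2 5 8)` -/
def p : P9 := swap 0 3 * swap 3 6 * (swap 1 4 * swap 4 7) * (swap 2 5 * swap 5 8)
/-- `(0 3)(1 4)(2 5)(6 7)` -/
def τ : P9 := swap 0 3 * swap 1 4 * swap 2 5 * swap 6 7
/-- `(1 2)(4 5)` -/
def t : P9 := swap 1 2 * swap 4 5
/-- `(0 1)(3 8)` -/
def r : P9 := swap 0 1 * swap 3 8
/-- `(0 1)(3 4 5 6)`; `cA * τ` moves the first block to `{4, 5, 6}`. -/
def cA : P9 := swap 0 1 * (swap 3 4 * swap 4 5 * swap 5 6)
/-- `(4 5)(6 7)` -/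
def w1 : P9 := swap 4 5 * swap 6 7
/-- `(4 6)(5 7)` -/
def w2 : P9 := swap 4 6 * swap 5 7

def zH : Hm := ⟨z, by decide +kernel⟩
def z2H : Hm := ⟨z2, by decide +kernel⟩
def z3H : Hm := ⟨z3, by decide +kernel⟩
def yH : Hm := ⟨y, by decide +kernel⟩
def xH : Hm := ⟨x, by decide +kernel⟩
def pH : Hm := ⟨p, by decide +kernel⟩
def τH : Hm := ⟨τ, by decide +kernel⟩
def tH : Hm := ⟨t, by decide +kernel⟩

def zK : K := ⟨z, by decide +kernel⟩
def rK : K := ⟨r, by decide +kernel⟩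
def cK : K := ⟨cA, by decide +kernel⟩
def w1K : K := ⟨w1, by decide +kernel⟩
def w2K : K := ⟨w2, by decide +kernel⟩
/-- `(3 4)(5 7)`, carried by `cA * τ` to `(0 1)(2 3)` -/
def p3K : K := ⟨swap 3 4 * swap 5 7, by decide +kernel⟩
/-- `(3 4)(5 6)`, carried by `cA * τ` to `(0 1)(2 7)` -/
def p7K : K := ⟨swap 3 4 * swap 5 6, by decide +kernel⟩

theorem lab_facts : cA * τ * (p3K : P9) * τ * cA⁻¹ = swap 0 1 * swap 2 3 ∧
    cA * τ * (p7K : P9) * τ * cA⁻¹ = swap 0 1 * swap 2 7 ∧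
    cA * τ * z * τ * cA⁻¹ = swap 4 5 * swap 5 6 ∧ τ * τ = 1 := by decide +kernel

/-- The element lies in the product of the three lines. -/
def InJ (h : Hm) : Prop := (h : P9) ^ 3 = 1 ∧ ∀ i : Fin 9, ((h : P9) i).1 / 3 = i.1 / 3

instance : DecidablePred InJ := fun h => inferInstanceAs (Decidable (_ ∧ _))

/-- The data: a monomorphism of the model onto the normalizer of `J`. -/
structure Data (G : Type u) [Group G] where
  e : Hm →* G
  inj : Function.Injective e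
  range_eq : e.range = normalizer ((closure {e zH, e z2H, e z3H} : Subgroup G) : Set G)
  cores : ∀ h : Hm, orderOf h = 3 → Cfsg.pPrimeCore 3 (centralizer ({e h} : Set G)) = ⊥

variable {G : Type u} [Group G]

/-- The subgroup of order 27. -/
def Data.J (S : Data G) : Subgroup G := closure {S.e zH, S.e z2H, S.e z3H}

/-- The element exchanging the first two lines. -/
def Data.g (S : Data G) : G := S.e τH

/-- The basic local facts. -/
structure Local (S : Data G) : Prop where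
  not_dvd : ¬ 243 ∣ Nat.card G
  cent_J : centralizer (S.J : Set G) = S.J
  fusion : ∀ a b : Hm, InJ a → InJ b → IsConj (S.e a) (S.e b) → IsConj a b
  weakly_closed : ∀ g : G, ∀ T : Subgroup G, IsPGroup 3 T → S.J ≤ T →
    S.J.map (MulAut.conj g).toMonoidHom ≤ T → S.J.map (MulAut.conj g).toMonoidHom = S.J
  cent_y : centralizer ({S.e yH} : Set G) ≤ S.e.range
  cent_x : centralizer ({S.e xH} : Set G) ≤ S.e.range
  signalizer : ∀ W : Subgroup G, (Nat.card W).Coprime 3 →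
    (∀ j ∈ S.J, ∀ w ∈ W, j * w * j⁻¹ ∈ W) → W = ⊥

/-- The normalizer of the first line is the stabilizer of the first block. -/
structure Glue (S : Data G) where
  ψ : K →* G
  inj : Function.Injective ψ
  range_eq : ψ.range = normalizer (zpowers (S.e zH) : Set G)
  agree : ∀ (h : Hm) (hk : (h : P9) ∈ K), ψ ⟨h, hk⟩ = S.e h

theorem mem_Hm_of_K {σ : P9} (h : σ ∈ K) (h' : τ * σ * τ ∈ K) : σ ∈ Hm := by
  have key : ∀ i : Fin 9, (i.1 / 3 = 0 ↔ i.1 < 3) ∧ (i.1 / 3 = 1 ↔ (τ i).1 < 3) ∧ i.1 / 3 < 3 := by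
    decide +kernel
  have hb : ∀ i, (σ i).1 / 3 = i.1 / 3 := fun i => by
    have h1 := (mem_K.1 h).2 i
    have h2 := (mem_K.1 h').2 (τ i)
    have hτ : τ (τ i) = i := by
      rw [← Perm.mul_apply, lab_facts.2.2.2, Perm.one_apply]
    simp only [Perm.mul_apply, hτ] at h2
    have k1 := key i
    have k2 := key (σ i)
    omega
  exact mem_Hm.2 ⟨(mem_K.1 h).1, fun i j => by rw [hb i, hb j]⟩

variable {S : Data G}

/-- The label of a point permutation in the normalizer moved by `ψ c * g`. -/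
def Glue.lab (T : Glue S) (c : K) (k : K) : G := T.ψ c * S.g * T.ψ k * S.g * (T.ψ c)⁻¹

theorem Data.g_mul_g (S : Data G) : S.g * S.g = 1 := by
  rw [Data.g, ← map_mul, show τH * τH = 1 from Subtype.ext lab_facts.2.2.2, map_one]

/-- The labels agree with `ψ` where both are defined. -/
theorem Glue.lab_eq (T : Glue S) {c k q : K} (h : (q : P9) = c * τ * k * τ * (c : P9)⁻¹) :
    T.lab c k = T.ψ q := by
  have hm : τ * (k : P9) * τ = (c⁻¹ * q * c : K) := by
    simp only [coe_mul, coe_inv, h]; group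
  have hK : τ * (k : P9) * τ ∈ K := by rw [hm]; exact (c⁻¹ * q * c : K).2
  have hH : (k : P9) ∈ Hm := mem_Hm_of_K k.2 hK
  have hq : c⁻¹ * q * c = (⟨_, hK⟩ : K) := Subtype.ext hm.symm
  have key : T.ψ ⟨_, hK⟩ = S.g * T.ψ k * S.g := by
    have e1 : T.ψ k = S.e ⟨k, hH⟩ := T.agree ⟨k, hH⟩ k.2
    have hτv : (τH : P9) = τ := rfl
    obtain ⟨m, hm'⟩ : ∃ m : Hm, m = τH * ⟨k, hH⟩ * τH := ⟨_, rfl⟩
    have hv : (m : P9) = τ * (k : P9) * τ := by
      rw [hm', coe_mul, coe_mul, hτv]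
    have hk2 : (m : P9) ∈ K := hv.symm ▸ hK
    have e3 : (⟨τ * (k : P9) * τ, hK⟩ : K) = ⟨(m : P9), hk2⟩ := Subtype.ext hv.symm
    rw [e3, T.agree m hk2, hm', Data.g, map_mul, map_mul, ← e1]
  rw [← hq, map_mul, map_mul, map_inv] at key
  calc T.lab c k = T.ψ c * (S.g * T.ψ k * S.g) * (T.ψ c)⁻¹ := by simp only [Glue.lab]; group
    _ = T.ψ q := by rw [← key]; group

/-- `(0 1)(2 3)` in the normalizer of `⟨(4 5 6)⟩` -/
def Glue.v3 (T : Glue S) : G := T.lab cK p3K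

/-- `(0 1)(2 7)` in the normalizer of `⟨(4 5 6)⟩` -/
def Glue.v7 (T : Glue S) : G := T.lab cK p7K

/-- The centralizer of the four-group on `4, …, 7`. -/
def Glue.L (T : Glue S) : Subgroup G := centralizer ({T.ψ w1K, T.ψ w2K} : Set G)

/-- `(0 1 2)` in the alternating group -/
def z9 : alternatingGroup (Fin 9) := ⟨z, Perm.mem_alternatingGroup.2 (by decide +kernel)⟩
/-- `(0 1 2)(3 4 5)` in the alternating group -/
def y9 : alternatingGroup (Fin 9) := ⟨y, Perm.mem_alternatingGroup.2 (by decide +kernel)⟩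
/-- `(0 1 2)(3 4 5)(6 7 8)` in the alternating group -/
def x9 : alternatingGroup (Fin 9) := ⟨x, Perm.mem_alternatingGroup.2 (by decide +kernel)⟩
/-- `(0 1)(2 3)` in the alternating group -/
def t9 : alternatingGroup (Fin 9) :=
  ⟨swap 0 1 * swap 2 3, Perm.mem_alternatingGroup.2 (by decide +kernel)⟩
/-- `(0 2)(1 3)` in the alternating group -/
def a9 : alternatingGroup (Fin 9) :=
  ⟨swap 0 2 * swap 1 3, Perm.mem_alternatingGroup.2 (by decide +kernel)⟩

/-- An alternating subgroup of degree nine containing the crucial centralizers. -/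
structure Emb (G : Type u) [Group G] where
  ι : alternatingGroup (Fin 9) →* G
  inj : Function.Injective ι
  cent_z : centralizer ({ι z9} : Set G) ≤ ι.range
  cent_y : centralizer ({ι y9} : Set G) ≤ ι.range
  cent_x : centralizer ({ι x9} : Set G) ≤ ι.range
  cent_V : centralizer ({ι t9, ι a9} : Set G) ≤ ι.range
  not_dvd : ¬ 243 ∣ Nat.card G

end CfsgLib.ANineThree
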