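import Cfsg.Agent.Lib.ANineThree.Interface
import Cfsg.Agent.Lib.Recog.CarmichaelPresentation

/-!
The alternating group of degree nine inside the group.
-/

set_option autoImplicit false
set_option linter.style.haveILetI false
set_option linter.unusedSectionVars false
set_option maxRecDepth 100000

namespace CfsgLib.ANineThree

open Equiv Subgroup CfsgLib.Recog

universe u

/-- The generators lying in the stabilizer of the first block. -/
def genK (i : Fin 7) : P9 := if i = 1 then 1 else carmichaelGen 7 i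

theorem genK_mem : ∀ i, genK i ∈ K := by decide +kernel

/-- The generators as elements of `K`. -/
def gensK (i : Fin 7) : K := ⟨genK i, genK_mem i⟩

theorem gensK_rels : ∀ i j : Fin 7, i ≠ 1 → j ≠ 1 →
    (i.1 = 0 → gensK i ^ 3 = 1) ∧ (1 ≤ i.1 → gensK i ^ 2 = 1) ∧
    (j.1 = i.1 + 1 → (gensK i * gensK j) ^ 3 = 1) ∧
    (i.1 + 1 < j.1 → (gensK i * gensK j) ^ 2 = 1) := by decide +kernel

/-- The generators in the alternating group. -/
def gens9 (i : Fin 7) : alternatingGroup (Fin 9) :=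
  ⟨carmichaelGen 7 i, carmichaelGen_mem 7 i⟩

/-- `(3 4 5)` in the stabilizer. -/
def z2K : K := ⟨z2, by decide +kernel⟩
/-- `(6 7 8)` in the stabilizer. -/
def z3K : K := ⟨z3, by decide +kernel⟩

/-- The element exchanging the outer lines. -/
def hH : Hm := ⟨swap 0 6 * swap 1 7 * swap 2 8 * swap 3 4, by decide +kernel⟩

/-- The element exchanging the last two lines. -/
def sH : Hm := ⟨swap 3 6 * swap 4 7 * swap 5 8 * swap 1 2, by decide +kernel⟩

theorem hH_mul : hH * hH = 1 ∧ hH * zH * hH⁻¹ = z3H ∧ τH * τH = 1 ∧ τH * zH * τH⁻¹ = z2H ∧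
    sH * sH = 1 := by decide +kernel

theorem sH_mem : (sH : P9) ∈ K := by decide +kernel

theorem gens_prod : gensK 2 * gensK 3 = z2K ∧ gensK 5 * gensK 6 = z3K ∧
    gensK 3 * gensK 5 = w1K ∧ gensK 4 * w1K * gensK 4 = w2K ∧ gensK 0 = zK ∧
    gensK 3 * w1K = gensK 5 := by decide +kernel

/-- Elements of the alternating group needed below. -/
def τ9 : alternatingGroup (Fin 9) := ⟨τ, Perm.mem_alternatingGroup.2 (by decide +kernel)⟩
/-- `(0 4)(1 5)(2 6)(3 7)` -/
def c9 : alternatingGroup (Fin 9) :=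
  ⟨swap 0 4 * swap 1 5 * swap 2 6 * swap 3 7, Perm.mem_alternatingGroup.2 (by decide +kernel)⟩

theorem gens9_facts : gens9 0 = z9 ∧ z9 * (gens9 2 * gens9 3) = y9 ∧
    z9 * (gens9 2 * gens9 3) * (gens9 5 * gens9 6) = x9 ∧
    τ9 * z9 * τ9⁻¹ = gens9 2 * gens9 3 ∧
    c9 * t9 * c9⁻¹ = gens9 3 * gens9 5 ∧
    c9 * a9 * c9⁻¹ = gens9 4 * (gens9 3 * gens9 5) * gens9 4 := by decide +kernel

/-- The preimages under the label of the generators in the intersection. -/
theorem lab_pre : ((gensK 0 : K) : P9) = cA * τ * (z2K⁻¹ : K) * τ * cA⁻¹ ∧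
    ((gensK 3 : K) : P9) = cA * τ * (gensK 2 : K) * τ * cA⁻¹ := by decide +kernel

/-- `(3 4)(1 2)` -/
def k56 : K := ⟨swap 3 4 * swap 1 2, by decide +kernel⟩
/-- `(3 4)(6 8)` -/
def k78 : K := ⟨swap 3 4 * swap 6 8, by decide +kernel⟩

theorem lab_pre' : ((gensK 4 : K) : P9) = cA * τ * (k56 : K) * τ * cA⁻¹ ∧
    ((gensK 6 : K) : P9) = cA * τ * (k78 : K) * τ * cA⁻¹ := by decide +kernel

theorem p3_rels : p3K * p3K = 1 ∧ (z2K⁻¹ * p3K) ^ 3 = 1 ∧ p3K * gensK 2 = gensK 2 * p3K ∧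
    p3K * k56 = k56 * p3K ∧ p3K * k78 = k78 * p3K := by decide +kernel

/-- The generators pulled back by `hH`. -/
theorem h_pre : ∀ i : Fin 7, i = 0 ∨ i = 2 ∨ i = 3 ∨ i = 5 →
    ((gensK i : K) : P9) ∈ Hm ∧ (hH : P9) * (gensK i : K) * (hH : P9)⁻¹ ∈ K := by decide +kernel

/-- `(4 8)(6 7)` -/
def k0 : K := ⟨swap 4 8 * swap 6 7, by decide +kernel⟩

theorem k0_rel : ((k0 : P9) * ((hH : P9) * (gensK 2 : K) * (hH : P9)⁻¹)) ^ 3 = 1 := by
  decide +kernel

/-- The candidates. -/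
def cand (b : Bool × Bool × Bool) : P9 :=
  (if b.1 then swap 6 7 else 1) * (if b.2.1 then swap 3 5 else 1) * (if b.2.2 then swap 4 8 else 1)

theorem cand_eq : ∀ b, Perm.sign (cand b) = 1 → (z3 * cand b) ^ 3 = 1 → cand b ≠ 1 →
    cand b = (k0 : P9) := by
  decide +kernel

theorem conj_z_facts : ∀ a b c : Fin 3, a ≠ b → b ≠ c → a ≠ c →
    (swap (Fin.castLE (by omega) a) (Fin.castLE (by omega) b) *
      swap (Fin.castLE (by omega) b) (Fin.castLE (by omega) c) : P9) = z ∨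
    (swap (Fin.castLE (by omega) a) (Fin.castLE (by omega) b) *
      swap (Fin.castLE (by omega) b) (Fin.castLE (by omega) c) : P9) = z⁻¹ := by decide +kernel

theorem K.conj_z {k : P9} (hk : k ∈ K) : k * z * k⁻¹ = z ∨ k * z * k⁻¹ = z⁻¹ := by
  have hlt : ∀ i : Fin 9, i.1 < 3 → (k i).1 < 3 := fun i => ((mem_K.1 hk).2 i).2
  have e : k * z * k⁻¹ = swap (k 0) (k 1) * swap (k 1) (k 2) := by
    rw [swap_apply_apply, swap_apply_apply, z]; group
  have cast : ∀ (i : Fin 9) (h : (k i).1 < 3), Fin.castLE (by omega) (⟨(k i).1, h⟩ : Fin 3) = k i :=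
    fun i h => Fin.ext rfl
  have := conj_z_facts ⟨(k 0).1, hlt 0 (by decide)⟩ ⟨(k 1).1, hlt 1 (by decide)⟩
    ⟨(k 2).1, hlt 2 (by decide)⟩
    (fun h => absurd (k.injective (Fin.ext (Fin.mk.inj_iff.1 h : (k 0).1 = (k 1).1))) (by decide))
    (fun h => absurd (k.injective (Fin.ext (Fin.mk.inj_iff.1 h : (k 1).1 = (k 2).1))) (by decide))
    (fun h => absurd (k.injective (Fin.ext (Fin.mk.inj_iff.1 h : (k 0).1 = (k 2).1))) (by decide))
  rw [cast, cast, cast] at this
  rwa [e]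

theorem pair67 : ∀ a b : Fin 9, 3 ≤ a.1 → a ≠ b → (swap 6 7 * swap 0 1 : P9) a = b →
    a = 6 ∧ b = 7 ∨ a = 7 ∧ b = 6 := by decide +kernel

theorem pair35 : ∀ a b : Fin 9, 3 ≤ a.1 → a ≠ 6 → a ≠ 7 → a ≠ b →
    (swap 3 5 * swap 6 7 : P9) a = b → a = 3 ∧ b = 5 ∨ a = 5 ∧ b = 3 := by decide +kernel

theorem pair48 : ∀ a b : Fin 9, 3 ≤ a.1 → 3 ≤ b.1 → a ≠ b → a ≠ 6 → a ≠ 7 → a ≠ 3 → a ≠ 5 →
    b ≠ 6 → b ≠ 7 → b ≠ 3 → b ≠ 5 → a = 4 ∧ b = 8 ∨ a = 8 ∧ b = 4 := by decide +kernel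

/-- The only possible pullback of the crucial involution. -/
theorem eq_k0 {k : P9} (hk : k ∈ K) (h2 : k * k = 1) (hz : Commute k z)
    (h67 : Commute k (swap 6 7 * swap 0 1)) (h35 : Commute k (swap 3 5 * swap 6 7))
    (h3 : (z3 * k) ^ 3 = 1) (hne : k ≠ 1) : k = (k0 : P9) := by
  have hlt : ∀ i : Fin 9, (k i).1 < 3 ↔ i.1 < 3 := (mem_K.1 hk).2
  have hkk : ∀ i, k (k i) = i := fun i => by rw [← Perm.mul_apply, h2, Perm.one_apply]
  have cz : ∀ i, k (z i) = z (k i) := fun i => by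
    rw [← Perm.mul_apply, hz.eq, Perm.mul_apply]
  have c1 : ∀ i, k ((swap 6 7 * swap 0 1 : P9) i) = (swap 6 7 * swap 0 1 : P9) (k i) := fun i => by
    rw [← Perm.mul_apply, h67.eq, Perm.mul_apply]
  have c2 : ∀ i, k ((swap 3 5 * swap 6 7 : P9) i) = (swap 3 5 * swap 6 7 : P9) (k i) := fun i => by
    rw [← Perm.mul_apply, h35.eq, Perm.mul_apply]
  have h0 : k 0 = 0 := by
    have hz0 : ∀ a : Fin 9, a.1 < 3 → (a = 0 ∨ a = z 0 ∨ a = z (z 0)) := by decide +kernel
    have hzz : z (z 0) ≠ 0 ∧ z (z (z (z 0))) = z 0 ∧ z (z 0) ≠ z (z (z (z 0))) ∧ z 0 ≠ 0 := by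
      decide +kernel
    rcases hz0 (k 0) ((hlt 0).2 (by decide)) with e | e | e
    · exact e
    · exfalso
      have := hkk 0
      rw [e, cz, e] at this
      exact hzz.1 this
    · exfalso
      have := hkk 0
      rw [e, cz, cz, e] at this
      exact hzz.2.2.2 (hzz.2.1.symm.trans this)
  have h1 : k 1 = 1 := by
    have e : z 0 = 1 := by decide +kernel
    rw [← e, cz, h0]
  have h2' : k 2 = 2 := by
    have e : z (z 0) = 2 := by decide +kernel
    rw [← e, cz, cz, h0]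
  have hge : ∀ i : Fin 9, 3 ≤ i.1 → 3 ≤ (k i).1 := fun i hi => by
    by_contra hc
    exact absurd ((hlt i).1 (by omega)) (by omega)
  have inj : ∀ i j : Fin 9, i ≠ j → k i ≠ k j := fun i j h e => h (k.injective e)
  have e67 := pair67 (k 6) (k 7) (hge 6 (by decide)) (inj 6 7 (by decide)) (by
    rw [← c1]; exact congrArg k (by decide +kernel))
  have n6 : ∀ i : Fin 9, i ≠ 6 → i ≠ 7 → k i ≠ 6 ∧ k i ≠ 7 := by
    intro i a b
    rcases e67 with ⟨u, v⟩ | ⟨u, v⟩
    · exact ⟨fun e => inj i 6 a (e.trans u.symm), fun e => inj i 7 b (e.trans v.symm)⟩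
    · exact ⟨fun e => inj i 7 b (e.trans v.symm), fun e => inj i 6 a (e.trans u.symm)⟩
  have e35 := pair35 (k 3) (k 5) (hge 3 (by decide)) (n6 3 (by decide) (by decide)).1
    (n6 3 (by decide) (by decide)).2 (inj 3 5 (by decide)) (by
    rw [← c2]; exact congrArg k (by decide +kernel))
  have n3 : ∀ i : Fin 9, i ≠ 3 → i ≠ 5 → k i ≠ 3 ∧ k i ≠ 5 := by
    intro i a b
    rcases e35 with ⟨u, v⟩ | ⟨u, v⟩
    · exact ⟨fun e => inj i 3 a (e.trans u.symm), fun e => inj i 5 b (e.trans v.symm)⟩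
    · exact ⟨fun e => inj i 5 b (e.trans v.symm), fun e => inj i 3 a (e.trans u.symm)⟩
  have e48 := pair48 (k 4) (k 8) (hge 4 (by decide)) (hge 8 (by decide)) (inj 4 8 (by decide))
    (n6 4 (by decide) (by decide)).1 (n6 4 (by decide) (by decide)).2
    (n3 4 (by decide) (by decide)).1 (n3 4 (by decide) (by decide)).2
    (n6 8 (by decide) (by decide)).1 (n6 8 (by decide) (by decide)).2
    (n3 8 (by decide) (by decide)).1 (n3 8 (by decide) (by decide)).2
  have hex : ∃ b, k = cand b := by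
    rcases e67 with ⟨a6, a7⟩ | ⟨a6, a7⟩ <;> rcases e35 with ⟨a3, a5⟩ | ⟨a3, a5⟩ <;>
      rcases e48 with ⟨a4, a8⟩ | ⟨a4, a8⟩
    all_goals refine ⟨(k 6 != 6, k 3 != 3, k 4 != 4), Equiv.ext fun i => ?_⟩
    all_goals simp only [a6, a3, a4]
    all_goals fin_cases i <;> simp [h0, h1, h2', a3, a4, a5, a6, a7, a8, cand, swap_apply_def]
  obtain ⟨b, rfl⟩ := hex
  exact cand_eq b (mem_K.1 hk).1 h3 hne

variable {G : Type u} [Group G] {S : Data G}

theorem Glue.lab_mul (T : Glue S) (c k k' : K) : T.lab c (k * k') = T.lab c k * T.lab c k' := by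
  simp only [Glue.lab, map_mul]
  have h := S.g_mul_g
  calc T.ψ c * S.g * (T.ψ k * T.ψ k') * S.g * (T.ψ c)⁻¹
      = T.ψ c * S.g * T.ψ k * (S.g * S.g) * T.ψ k' * S.g * (T.ψ c)⁻¹ := by rw [h]; group
    _ = _ := by group

theorem Glue.lab_one (T : Glue S) (c : K) : T.lab c 1 = 1 := by
  have h := T.lab_mul c 1 1
  rw [mul_one] at h
  exact left_eq_mul.1 h

/-- The label of `k` by `hH`. -/
def Glue.lab3 (T : Glue S) (k : K) : G := S.e hH * T.ψ k * (S.e hH)⁻¹

theorem Glue.lab3_mul (T : Glue S) (k k' : K) : T.lab3 (k * k') = T.lab3 k * T.lab3 k' := by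
  simp only [Glue.lab3, map_mul]; group

theorem Glue.lab3_inj (T : Glue S) {k k' : K} (h : T.lab3 k = T.lab3 k') : k = k' :=
  T.inj (mul_left_cancel (mul_right_cancel h))

/-- The generators in the intersection pulled back by `hH`. -/
theorem Glue.lab3_gen (T : Glue S) {i : Fin 7} (hi : i = 0 ∨ i = 2 ∨ i = 3 ∨ i = 5) :
    T.lab3 ⟨_, (h_pre i hi).2⟩ = T.ψ (gensK i) := by
  have hH' : ((gensK i : K) : P9) ∈ Hm := (h_pre i hi).1
  set m : Hm := hH * ⟨_, hH'⟩ * hH⁻¹ with hm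
  have e1 : T.ψ (⟨_, (h_pre i hi).2⟩ : K) = S.e m := T.agree m (h_pre i hi).2
  have e2 : T.ψ (gensK i) = S.e ⟨_, hH'⟩ := T.agree ⟨_, hH'⟩ (gensK i).2
  rw [Glue.lab3, e1, e2, ← map_mul, ← map_inv, ← map_mul]
  refine congrArg S.e ?_
  rw [hm, show hH⁻¹ = hH from inv_eq_of_mul_eq_one_right hH_mul.1]
  have h := hH_mul.1
  calc hH * (hH * (⟨_, hH'⟩ : Hm) * hH) * hH = hH * hH * ⟨_, hH'⟩ * (hH * hH) := by group
    _ = _ := by rw [h, one_mul, mul_one]

set_option maxHeartbeats 1000000 in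
/-- The relations of the crucial involution. -/
theorem Glue.v3_facts (T : Glue S) (hv : T.v3 ∈ T.L) :
    T.v3 * T.v3 = 1 ∧ (T.ψ (gensK 0) * T.v3) ^ 3 = 1 ∧ (T.v3 * T.ψ (gensK 2)) ^ 3 = 1 ∧
    ∀ i : Fin 7, 2 < i.1 → Commute T.v3 (T.ψ (gensK i)) := by
  obtain ⟨r1, r2, r3, r4, r5⟩ := p3_rels
  have l0 : T.lab cK z2K⁻¹ = T.ψ (gensK 0) := T.lab_eq lab_pre.1
  have l3 : T.lab cK (gensK 2) = T.ψ (gensK 3) := T.lab_eq lab_pre.2
  have l4 : T.lab cK k56 = T.ψ (gensK 4) := T.lab_eq lab_pre'.1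
  have l6 : T.lab cK k78 = T.ψ (gensK 6) := T.lab_eq lab_pre'.2
  have hsq : T.v3 * T.v3 = 1 := by rw [Glue.v3, ← T.lab_mul, r1, T.lab_one]
  have c3 : Commute T.v3 (T.ψ (gensK 3)) := by
    rw [← l3]
    show T.lab cK p3K * T.lab cK (gensK 2) = T.lab cK (gensK 2) * T.lab cK p3K
    rw [← T.lab_mul, ← T.lab_mul, r3]
  have c4 : Commute T.v3 (T.ψ (gensK 4)) := by
    rw [← l4]
    show T.lab cK p3K * T.lab cK k56 = T.lab cK k56 * T.lab cK p3K
    rw [← T.lab_mul, ← T.lab_mul, r4]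
  have c6 : Commute T.v3 (T.ψ (gensK 6)) := by
    rw [← l6]
    show T.lab cK p3K * T.lab cK k78 = T.lab cK k78 * T.lab cK p3K
    rw [← T.lab_mul, ← T.lab_mul, r5]
  have c5 : Commute T.v3 (T.ψ (gensK 5)) := by
    have hw : Commute T.v3 (T.ψ w1K) := (mem_centralizer_iff.1 hv (T.ψ w1K) (Set.mem_insert _ _)).symm
    rw [← gens_prod.2.2.2.2.2, map_mul]
    exact c3.mul_right hw
  have hz3 : (T.ψ (gensK 0) * T.v3) ^ 3 = 1 := by
    rw [← l0, Glue.v3, ← T.lab_mul, pow_succ, pow_succ, pow_one, ← T.lab_mul, ← T.lab_mul,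
      show z2K⁻¹ * p3K * (z2K⁻¹ * p3K) * (z2K⁻¹ * p3K) = 1 by
        rw [← r2]; simp only [pow_succ, pow_zero, one_mul, mul_assoc], T.lab_one]
  refine ⟨hsq, hz3, ?_, ?_⟩
  swap
  · intro i hi
    obtain ⟨i, hi'⟩ := i
    interval_cases i
    exacts [c3, c4, c5, c6]
  -- pull back to the normalizer of the third line
  have cb : Commute T.v3 (S.e z3H) := by
    have e : S.e z3H = T.ψ (gensK 5) * T.ψ (gensK 6) := by
      rw [← map_mul, gens_prod.2.1]
      exact (T.agree z3H z3K.2).symm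
    rw [e]
    exact c5.mul_right c6
  have cz : Commute ((S.e hH)⁻¹ * T.v3 * S.e hH) (S.e zH) := by
    have e : S.e z3H = S.e hH * S.e zH * (S.e hH)⁻¹ := by
      rw [← map_mul, ← map_inv, ← map_mul, hH_mul.2.1]
    rw [e] at cb
    show _ * _ = _ * _
    calc (S.e hH)⁻¹ * T.v3 * S.e hH * S.e zH
        = (S.e hH)⁻¹ * (T.v3 * (S.e hH * S.e zH * (S.e hH)⁻¹)) * S.e hH := by group
      _ = _ := by rw [cb.eq]; group
  obtain ⟨k, hk⟩ : (S.e hH)⁻¹ * T.v3 * S.e hH ∈ T.ψ.range := by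
    rw [T.range_eq]
    exact centralizer_le_normalizer _ (mem_centralizer_iff.2 fun y hy => by
      obtain ⟨n, rfl⟩ := mem_zpowers_iff.1 hy
      exact (cz.zpow_right n).eq.symm)
  have hvk : T.lab3 k = T.v3 := by rw [Glue.lab3, hk]; group
  have hkk : k * k = 1 := T.lab3_inj (by
    rw [T.lab3_mul, hvk, hsq, Glue.lab3, map_one, mul_one, mul_inv_cancel])
  have hkz : Commute k zK := by
    have e : T.ψ zK = S.e zH := T.agree zH zK.2
    refine T.inj ?_
    rw [map_mul, map_mul, hk, e]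
    exact cz.eq
  have hcomm : ∀ (i : Fin 7) (hi : i = 0 ∨ i = 2 ∨ i = 3 ∨ i = 5),
      Commute T.v3 (T.ψ (gensK i)) → Commute k ⟨_, (h_pre i hi).2⟩ := fun i hi hc => T.lab3_inj (by
    rw [T.lab3_mul, T.lab3_mul, hvk, T.lab3_gen hi]; exact hc.eq)
  have hval : ∀ {a b : K}, Commute a b → Commute (a : P9) (b : P9) :=
    fun h => congrArg Subtype.val h.eq
  have e0 : (hH : P9) * (gensK 0 : K) * (hH : P9)⁻¹ = z3 ∧
      (hH : P9) * ((gensK 5 : K) : P9) * (hH : P9)⁻¹ = (swap 6 7 * swap 0 1 : P9) ∧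
      (hH : P9) * ((gensK 3 : K) : P9) * (hH : P9)⁻¹ = (swap 3 5 * swap 6 7 : P9) := by decide +kernel
  have hcommP : ∀ (i : Fin 7) (hi : i = 0 ∨ i = 2 ∨ i = 3 ∨ i = 5),
      Commute T.v3 (T.ψ (gensK i)) →
        Commute (k : P9) ((hH : P9) * ((gensK i : K) : P9) * (hH : P9)⁻¹) :=
    fun i hi hc => hval (hcomm i hi hc)
  obtain ⟨e00, e05, e03⟩ := e0
  have hvne : T.v3 ≠ 1 := fun h => by
    have h' : T.ψ p3K = 1 := by
      have e : T.v3 = T.ψ cK * S.g * T.ψ p3K * S.g * (T.ψ cK)⁻¹ := rfl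
      rw [h, eq_comm, mul_inv_eq_one] at e
      have hg := S.g_mul_g
      calc T.ψ p3K = (T.ψ cK * S.g)⁻¹ * (T.ψ cK * S.g * T.ψ p3K * S.g) * S.g⁻¹ := by group
        _ = S.g⁻¹ * S.g⁻¹ := by rw [e]; group
        _ = 1 := by rw [← mul_inv_rev, hg, inv_one]
    exact absurd (T.inj (h'.trans (map_one T.ψ).symm)) (by decide +kernel)
  have hk1 : (k : P9) ≠ 1 := fun h => hvne (by
    rw [← hvk, show k = 1 from Subtype.ext h, Glue.lab3, map_one, mul_one, mul_inv_cancel])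
  have hk0 : (k : P9) = (k0 : P9) := by
    have hkk' : (k : P9) * (k : P9) = 1 := by
      rw [← Subgroup.coe_mul, hkk, Subgroup.coe_one]
    refine eq_k0 k.2 hkk' (hval hkz) ?_ ?_ ?_ hk1
    · have h' := hcommP 5 (Or.inr (Or.inr (Or.inr rfl))) c5
      rw [e05] at h'
      exact h'
    · have h' := hcommP 3 (Or.inr (Or.inr (Or.inl rfl))) c3
      rw [e03] at h'
      exact h'
    · have hk3 : ((⟨_, (h_pre 0 (by decide)).2⟩ : K) * k) ^ 3 = 1 := T.lab3_inj (by
        rw [pow_succ, pow_succ, pow_one, T.lab3_mul, T.lab3_mul, T.lab3_mul, hvk,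
          T.lab3_gen (i := 0) (by decide), Glue.lab3, map_one, mul_one, mul_inv_cancel, ← hz3]
        simp only [pow_succ, pow_zero, one_mul, mul_assoc])
      have h' := congrArg Subtype.val hk3
      rw [SubmonoidClass.coe_pow, Subgroup.coe_mul, Subgroup.coe_one] at h'
      rw [← e00]
      exact h'
  have hk2 : (k * ⟨_, (h_pre 2 (by decide)).2⟩) ^ 3 = 1 := Subtype.ext (by
    rw [SubmonoidClass.coe_pow, Subgroup.coe_mul, hk0]; exact k0_rel)
  have := congrArg T.lab3 hk2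
  rw [pow_succ, pow_succ, pow_one, T.lab3_mul, T.lab3_mul, T.lab3_mul, hvk,
    T.lab3_gen (i := 2) (by decide), Glue.lab3, map_one, mul_one, mul_inv_cancel] at this
  rw [← this]; simp only [pow_succ, pow_zero, one_mul, mul_assoc]

/-- The stabilizer inside the alternating group. -/
def K9 : K →* alternatingGroup (Fin 9) where
  toFun k := ⟨k, Perm.mem_alternatingGroup.2 (mem_K.1 k.2).1⟩
  map_one' := rfl
  map_mul' _ _ := rfl

set_option maxHeartbeats 1000000 in
/-- The alternating subgroup exists. -/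
theorem exists_emb : StmtEmb.{u} := by
  intro G _ _ S T hL hv hLle
  classical
  obtain ⟨hvv, hzv, hvs, hcomm⟩ := T.v3_facts hv
  set x : Fin 7 → G := fun i => if i = 1 then T.v3 else T.ψ (gensK i) with hx
  have hK : ∀ i, i ≠ 1 → x i = T.ψ (gensK i) := fun i h => by simp [hx, h]
  have hxv : x 1 = T.v3 := by simp [hx]
  have hrel : ∀ r ∈ carmichaelRelators 7, FreeGroup.lift x r = 1 := by
    have key := gensK_rels
    rintro r (((⟨i, hi, rfl⟩ | ⟨i, hi, rfl⟩) | ⟨i, j, hij, rfl⟩) | ⟨i, j, hij, rfl⟩) <;>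
      simp only [map_pow, map_mul, FreeGroup.lift_apply_of]
    · have h1 : i ≠ 1 := fun h => by simp [h] at hi
      rw [hK i h1, ← map_pow, (key i i h1 h1).1 hi, map_one]
    · by_cases h1 : i = 1
      · rw [h1, hxv, sq, hvv]
      · rw [hK i h1, ← map_pow, (key i i h1 h1).2.1 hi, map_one]
    · by_cases h1 : i = 1
      · subst h1
        have hj : j = 2 := Fin.ext hij
        rw [hxv, hj, hK 2 (by decide)]
        exact hvs
      · by_cases h2 : j = 1
        · subst h2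
          have hi : i = 0 := Fin.ext (show i.val = 0 by simpa using hij.symm)
          rw [hxv, hi, hK 0 (by decide)]
          exact hzv
        · rw [hK i h1, hK j h2, ← map_mul, ← map_pow, (key i j h1 h2).2.2.1 hij, map_one]
    · have h2 : j ≠ 1 := fun h => by simp [h] at hij
      by_cases h1 : i = 1
      · subst h1
        have hc : Commute T.v3 (x j) := by
          rw [hK j h2]; exact hcomm j (by simpa using hij)
        have hxj : (gensK j) ^ 2 = 1 :=
          (key j j h2 h2).2.1 (by simp only [Fin.val_one] at hij; omega)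
        rw [hxv, hc.mul_pow, sq T.v3, hvv, one_mul, hK j h2, ← map_pow, hxj, map_one]
      · rw [hK i h1, hK j h2, ← map_mul, ← map_pow, (key i j h1 h2).2.2.2 hij, map_one]
  set φ : PresentedGroup (carmichaelRelators 7) →* alternatingGroup (Fin 9) :=
    PresentedGroup.toGroup (f := gens9) (fun r hr => by
      refine Subtype.ext ?_
      have e : (alternatingGroup (Fin 9)).subtype.comp (FreeGroup.lift gens9) =
          FreeGroup.lift (fun i => carmichaelGen 7 i) := FreeGroup.ext_hom _ _ fun i => by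
        simp [gens9]
      rw [show ((FreeGroup.lift gens9 r : alternatingGroup (Fin 9)) : P9) =
        ((alternatingGroup (Fin 9)).subtype.comp (FreeGroup.lift gens9)) r from rfl, e,
        lift_carmichaelGen_eq_one 7 r hr]
      rfl) with hφ
  have hφs : Function.Surjective φ := by
    rintro ⟨g, hg⟩
    have hle : closure (Set.range (carmichaelGen 7)) ≤
        φ.range.map (alternatingGroup (Fin 9)).subtype := by
      rw [closure_le]
      rintro _ ⟨i, rfl⟩
      exact ⟨gens9 i, ⟨PresentedGroup.of i, PresentedGroup.toGroup.of _⟩, rfl⟩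
    obtain ⟨w, ⟨p, rfl⟩, hp⟩ := hle (alternatingGroup_le_closure 7 (by norm_num) hg)
    exact ⟨p, Subtype.ext hp⟩
  obtain ⟨e0⟩ := presentation_alternating 7 (by norm_num)
  haveI : Finite (PresentedGroup (carmichaelRelators 7)) := Finite.of_equiv _ e0.symm.toEquiv
  have hbij : Function.Bijective φ :=
    (Nat.bijective_iff_surjective_and_card φ).2 ⟨hφs, Nat.card_congr e0.toEquiv⟩
  set ι : alternatingGroup (Fin 9) →* G :=
    (PresentedGroup.toGroup hrel).comp (MulEquiv.ofBijective φ hbij).symm.toMonoidHom with hι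
  have hgen : ∀ i, i ≠ 1 → ι (gens9 i) = T.ψ (gensK i) := fun i h1 => by
    have e : (MulEquiv.ofBijective φ hbij).symm (gens9 i) = PresentedGroup.of i := by
      rw [MulEquiv.symm_apply_eq]
      show gens9 i = φ (PresentedGroup.of i)
      rw [hφ, PresentedGroup.toGroup.of]
    show (PresentedGroup.toGroup hrel) ((MulEquiv.ofBijective φ hbij).symm (gens9 i)) = _
    rw [e, PresentedGroup.toGroup.of, hK i h1]
  have hιz : ι z9 = T.ψ zK := by
    rw [← gens9_facts.1, hgen 0 (by decide), gens_prod.2.2.2.2.1]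
  have hinj : Function.Injective ι := by
    haveI : IsSimpleGroup (alternatingGroup (Fin 9)) := alternatingGroup.isSimpleGroup (by simp)
    rw [← MonoidHom.ker_eq_bot_iff]
    refine ((inferInstance : ι.ker.Normal).eq_bot_or_eq_top).resolve_right fun e => ?_
    have h : ι z9 = 1 := MonoidHom.mem_ker.1 (e ▸ Subgroup.mem_top _)
    rw [hιz] at h
    exact absurd (T.inj (h.trans (map_one T.ψ).symm)) (by decide +kernel)
  have hψz : T.ψ zK = S.e zH := T.agree zH zK.2
  -- the image of the stabilizer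
  have hKle : (ι.comp K9).range ≤ T.ψ.range := by
    rintro _ ⟨k, rfl⟩
    have hk : ι (K9 k) * T.ψ zK * (ι (K9 k))⁻¹ ∈ zpowers (T.ψ zK) := by
      rw [← hιz, ← map_inv, ← map_mul, ← map_mul]
      rcases K.conj_z k.2 with e | e
      · rw [show K9 k * z9 * (K9 k)⁻¹ = z9 from Subtype.ext e]; exact mem_zpowers _
      · rw [show K9 k * z9 * (K9 k)⁻¹ = z9⁻¹ from Subtype.ext e, map_inv]
        exact inv_mem (mem_zpowers _)
    rw [T.range_eq, ← hψz]
    refine mem_normalizer_fintype (fun n hn => ?_)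
    obtain ⟨m, rfl⟩ := mem_zpowers_iff.1 hn
    rw [← conj_zpow]
    exact zpow_mem hk m
  have hψle : T.ψ.range ≤ ι.range := by
    have hi : Function.Injective (ι.comp K9) :=
      hinj.comp fun a b h => Subtype.ext (congrArg Subtype.val h :)
    have hc : Nat.card T.ψ.range ≤ Nat.card (ι.comp K9).range := by
      rw [← Nat.card_congr (MonoidHom.ofInjective T.inj).toEquiv,
        ← Nat.card_congr (MonoidHom.ofInjective hi).toEquiv]
    rw [← eq_of_le_of_card_ge hKle hc]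
    rintro _ ⟨k, rfl⟩
    exact ⟨K9 k, rfl⟩
  have h23 : ι (gens9 2 * gens9 3) = S.e z2H := by
    rw [map_mul, hgen 2 (by decide), hgen 3 (by decide), ← map_mul, gens_prod.1]
    exact T.agree z2H z2K.2
  have hgmem : S.g ∈ ι.range := by
    have h1 : (ι τ9)⁻¹ * S.g ∈ T.ψ.range := by
      rw [T.range_eq]
      refine centralizer_le_normalizer _ (mem_centralizer_iff.2 fun y hy => ?_)
      obtain ⟨n, rfl⟩ := mem_zpowers_iff.1 hy
      have e1 : ι τ9 * S.e zH * (ι τ9)⁻¹ = S.e z2H := by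
        rw [← hψz, ← hιz, ← map_inv, ← map_mul, ← map_mul, gens9_facts.2.2.2.1, h23]
      have e2 : S.g * S.e zH * S.g⁻¹ = S.e z2H := by
        rw [Data.g, ← map_inv, ← map_mul, ← map_mul, hH_mul.2.2.2.1]
      have hc : Commute ((ι τ9)⁻¹ * S.g) (S.e zH) := by
        show _ * _ = _ * _
        calc (ι τ9)⁻¹ * S.g * S.e zH = (ι τ9)⁻¹ * (S.g * S.e zH * S.g⁻¹) * S.g := by group
          _ = _ := by rw [e2, ← e1]; group
      exact (hc.zpow_right n).eq.symm
    have h2 := mul_mem (⟨τ9, rfl⟩ : ι τ9 ∈ ι.range) (hψle h1)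
    rwa [mul_inv_cancel_left] at h2
  have hHle : S.e.range ≤ ι.range := by
    have hblock : ∀ h : Hm, ((h : P9) 0).1 / 3 = 0 → S.e h ∈ ι.range := by
      intro h h0
      have hk : (h : P9) ∈ K := mem_K.2 ⟨(mem_Hm.1 h.2).1, fun i => by
        have := (mem_Hm.1 h.2).2 i 0
        rw [h0] at this
        have e : ((0 : Fin 9) : ℕ) = 0 := rfl
        rw [e] at this
        omega⟩
      rw [← T.agree h hk]
      exact hψle ⟨_, rfl⟩
    have hcases : ∀ i : Fin 9, i.1 / 3 = 0 ∨ ((τ i).1 / 3 = 0) ∨ ((τ ((sH : P9) i)).1 / 3 = 0) := by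
      decide +kernel
    rintro _ ⟨h, rfl⟩
    rcases hcases ((h : P9) 0) with e | e | e
    · exact hblock h e
    · have := mul_mem hgmem (hblock (τH * h) e)
      rwa [Data.g, ← map_mul, ← mul_assoc, hH_mul.2.2.1, one_mul] at this
    · have hs : S.e sH ∈ ι.range := by
        rw [← T.agree sH sH_mem]; exact hψle ⟨_, rfl⟩
      have := mul_mem hs (mul_mem hgmem (hblock (τH * (sH * h)) e))
      rwa [Data.g, ← map_mul, ← mul_assoc τH, hH_mul.2.2.1, one_mul, ← map_mul, ← mul_assoc,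
        hH_mul.2.2.2.2, one_mul] at this
  have hy : ι y9 = S.e yH := by
    rw [← gens9_facts.2.1, map_mul, h23, hιz, hψz, ← map_mul]
    exact congrArg S.e (by decide +kernel)
  have hxx : ι x9 = S.e xH := by
    rw [← gens9_facts.2.2.1, map_mul, gens9_facts.2.1, hy, map_mul, hgen 5 (by decide),
      hgen 6 (by decide), ← map_mul T.ψ, gens_prod.2.1,
      show T.ψ z3K = S.e z3H from T.agree z3H z3K.2, ← map_mul]
    exact congrArg S.e (by decide +kernel)
  refine ⟨⟨ι, hinj, ?_, ?_, ?_, ?_, hL.not_dvd⟩⟩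
  · intro g hg
    refine hψle ?_
    rw [T.range_eq, ← hψz]
    refine centralizer_le_normalizer _ (mem_centralizer_iff.2 fun y hy => ?_)
    obtain ⟨n, rfl⟩ := mem_zpowers_iff.1 hy
    rw [hιz] at hg
    exact (Commute.zpow_left (mem_centralizer_iff.1 hg _ rfl) n).eq
  · rw [hy]; exact hL.cent_y.trans hHle
  · rw [hxx]; exact hL.cent_x.trans hHle
  · intro g hg
    have hle : T.L ≤ ι.range := by
      refine hLle.trans (sup_le hψle ?_)
      rintro _ ⟨w, hw, rfl⟩
      have hm : T.ψ cK * S.g ∈ ι.range := mul_mem (hψle ⟨_, rfl⟩) hgmem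
      exact mul_mem (mul_mem hm (hψle hw)) (inv_mem hm)
    have hmem : ι c9 * g * (ι c9)⁻¹ ∈ T.L := by
      refine mem_centralizer_iff.2 fun y hy => ?_
      have key : ∀ s ∈ ({ι t9, ι a9} : Set G),
          ι c9 * s * (ι c9)⁻¹ * (ι c9 * g * (ι c9)⁻¹) =
            ι c9 * g * (ι c9)⁻¹ * (ι c9 * s * (ι c9)⁻¹) := fun s hs => by
        calc _ = ι c9 * (s * g) * (ι c9)⁻¹ := by group
          _ = ι c9 * (g * s) * (ι c9)⁻¹ := by rw [mem_centralizer_iff.1 hg s hs]
          _ = _ := by group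
      have e1 : ι (gens9 3 * gens9 5) = T.ψ w1K := by
        rw [map_mul, hgen 3 (by decide), hgen 5 (by decide), ← map_mul, gens_prod.2.2.1]
      rcases hy with rfl | rfl
      · have := key (ι t9) (Set.mem_insert _ _)
        rwa [← map_inv, ← map_mul, ← map_mul, gens9_facts.2.2.2.2.1, e1, map_inv] at this
      · have := key (ι a9) (Set.mem_insert_of_mem _ rfl)
        rw [← map_inv, ← map_mul, ← map_mul, gens9_facts.2.2.2.2.2, map_mul, map_mul, e1,
          hgen 4 (by decide), ← map_mul T.ψ, ← map_mul T.ψ, gens_prod.2.2.2.1, map_inv] at this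
        exact this
    have := mul_mem (mul_mem (inv_mem (⟨c9, rfl⟩ : ι c9 ∈ ι.range)) (hle hmem))
      (⟨c9, rfl⟩ : ι c9 ∈ ι.range)
    rwa [show (ι c9)⁻¹ * (ι c9 * g * (ι c9)⁻¹) * ι c9 = g by group] at this

end CfsgLib.ANineThree
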