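import Cfsg.Agent.Lib.ANineThree.Interface
import Cfsg.Agent.S3702

/-!
The classes of `p` and `x` separate only in the trivial case: the subgroup `J` is then strongly
closed in its normalizer, which contains the centralizers of its nontrivial elements, so the
recognition of `3³ : S₄` applies.
-/

set_option autoImplicit false
set_option linter.style.haveILetI false
set_option maxRecDepth 100000

namespace CfsgLib.ANineThree

open Equiv Subgroup

universe u

open CfsgLib.CubeSFour (comp nib idc cpow cconj inK inJ KL JL)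
open Cfsg.Agent.S3702 (enc Kgrp)

namespace CaseB

/-- The codes of the representatives. -/
def zC : ℕ := 36344967201

theorem gen_mem_Hm : Kgrp ≤ Hm := by
  rw [Kgrp, Subgroup.closure_le]
  intro σ hσ
  simp only [Set.mem_insert_iff, Set.mem_singleton_iff] at hσ
  rcases hσ with rfl | rfl | rfl | rfl <;> (show (_ : P9) ∈ Hm) <;> decide +kernel

/-- The value of a block map: `b` on the blocks, a translation and a multiplier in each block. -/
def wr (b r : Fin 3 → Fin 3) (d : Fin 3 → Fin 3) (i : Fin 9) : ℕ :=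
  3 * (b ⟨i.val / 3, by omega⟩).val +
    ((r ⟨i.val / 3, by omega⟩).val + (d ⟨i.val / 3, by omega⟩).val * (i.val % 3)) % 3

/-- The code of nine values. -/
def encF (f : Fin 9 → ℕ) : ℕ :=
  f 0 + f 1 * 16 + f 2 * 256 + f 3 * 4096 + f 4 * 65536 +
    f 5 * 1048576 + f 6 * 16777216 + f 7 * 268435456 + f 8 * 4294967296

/-- The transposition of the first two points. -/
def s01 : P9 := swap 0 1

theorem wr_cover : ∀ b₀ b₁ b₂ r₀ r₁ r₂ : Fin 3, b₀ ≠ b₁ → b₀ ≠ b₂ → b₁ ≠ b₂ → ∀ d₀ d₁ d₂ : Fin 2,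
    inK (encF (wr ![b₀, b₁, b₂] ![r₀, r₁, r₂] ![d₀.succ, d₁.succ, d₂.succ])) = true ∨
      inK (encF (fun i => wr ![b₀, b₁, b₂] ![r₀, r₁, r₂] ![d₀.succ, d₁.succ, d₂.succ] (s01 i)))
        = true := by
  decide +kernel

theorem inj_affine : ∀ f : Fin 3 → Fin 3, Function.Injective f →
    ∃ d : Fin 2, ∀ k, (f k).val = ((f 0).val + (d.succ : Fin 3).val * k.val) % 3 := by
  decide +kernel

theorem enc_eq_encF (σ : P9) : enc σ = encF (fun i => (σ i).val) := by
  have h : ∀ i : Fin 9, CfsgLib.CubeSFour.nib (enc σ) i.val = (σ i).val :=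
    Cfsg.Agent.S3702.nib_enc σ
  unfold enc
  rfl

theorem enc_mem_KL {σ : P9} (hσ : σ ∈ Hm) : enc σ ∈ KL := by
  obtain ⟨hs, hblk⟩ := mem_Hm.1 hσ
  let bl : Fin 3 → Fin 3 := fun j => ⟨(σ ⟨3 * j.val, by omega⟩).val / 3, by omega⟩
  let po : Fin 3 → Fin 3 → Fin 3 := fun j k =>
    ⟨(σ ⟨3 * j.val + k.val, by omega⟩).val % 3, Nat.mod_lt _ (by norm_num)⟩
  have hb : ∀ i : Fin 9, (σ i).val / 3 = (bl ⟨i.val / 3, by omega⟩).val := fun i =>
    (hblk i ⟨3 * (i.val / 3), by omega⟩).2 (by simp only; omega)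
  have hbinj : Function.Injective bl := fun a c e => Fin.ext (by
    have := (hblk ⟨3 * a.val, by omega⟩ ⟨3 * c.val, by omega⟩).1 (congrArg Fin.val e)
    simp only at this; omega)
  have hpinj : ∀ j, Function.Injective (po j) := fun j a c e => by
    have h1 : (σ ⟨3 * j.val + a.val, by omega⟩).val / 3 =
        (σ ⟨3 * j.val + c.val, by omega⟩).val / 3 :=
      (hblk _ _).2 (by simp only; omega)
    have h2 : (σ ⟨3 * j.val + a.val, by omega⟩).val % 3 =
        (σ ⟨3 * j.val + c.val, by omega⟩).val % 3 := congrArg Fin.val e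
    have h3 := congrArg Fin.val (σ.injective (Fin.ext (by omega) :
      σ ⟨3 * j.val + a.val, by omega⟩ = σ ⟨3 * j.val + c.val, by omega⟩))
    exact Fin.ext (by simp only at h3; omega)
  choose d hd using fun j => inj_affine (po j) (hpinj j)
  have hval : (fun i => (σ i).val) =
      wr ![bl 0, bl 1, bl 2] ![po 0 0, po 1 0, po 2 0] ![(d 0).succ, (d 1).succ, (d 2).succ] := by
    funext i
    have e : ∀ (g : Fin 3 → Fin 3) (j : Fin 3), ![g 0, g 1, g 2] j = g j := fun g j => by
      fin_cases j <;> rfl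
    have h1 := hd ⟨i.val / 3, by omega⟩ ⟨i.val % 3, Nat.mod_lt _ (by norm_num)⟩
    have h2 : (po ⟨i.val / 3, by omega⟩ ⟨i.val % 3, Nat.mod_lt _ (by norm_num)⟩).val =
        (σ i).val % 3 := by
      simp only [po]
      congr 2
      exact congrArg σ (Fin.ext (by simp only; omega))
    have h3 := hb i
    simp only [wr, e bl, e (fun j => po j 0), e (fun j => (d j).succ)]
    rw [h2] at h1
    simp only at h1
    omega
  rcases wr_cover (bl 0) (bl 1) (bl 2) (po 0 0) (po 1 0) (po 2 0)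
    (hbinj.ne (by decide)) (hbinj.ne (by decide)) (hbinj.ne (by decide)) (d 0) (d 1) (d 2)
    with h | h
  · rw [← hval, ← enc_eq_encF] at h
    exact CfsgLib.CubeSFour.mem_of_inK h
  · exfalso
    rw [← hval] at h
    have e : encF (fun i => (σ (s01 i)).val) = enc (σ * s01) := (enc_eq_encF (σ * s01)).symm
    rw [e] at h
    obtain ⟨x, hx, ex⟩ := Cfsg.Agent.S3702.enc_surj (CfsgLib.CubeSFour.mem_of_inK h)
    have hσs := gen_mem_Hm hx
    rw [Cfsg.Agent.S3702.enc_injective ex] at hσs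
    have h1 := (mem_Hm.1 hσs).1
    rw [map_mul, hs, one_mul, s01, Perm.sign_swap (by decide)] at h1
    exact absurd h1 (by decide)

theorem Kgrp_eq : Kgrp = Hm := by
  refine le_antisymm gen_mem_Hm fun σ hσ => ?_
  obtain ⟨x, hx, ex⟩ := Cfsg.Agent.S3702.enc_surj (enc_mem_KL hσ)
  rwa [← Cfsg.Agent.S3702.enc_injective ex]

theorem codes : enc z = zC ∧ enc (y : P9) = enc (z * z2) ∧ inJ (enc x) = true ∧
    inJ (enc p) = false := by
  decide +kernel

/-- A code fixes the blocks. -/
def fixB (a : ℕ) : Bool := (List.range 9).all fun i => nib a i / 3 == i / 3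

theorem J_blocks : JL.all (fun a => fixB a) = true := by decide +kernel

theorem blocks_J : KL.all (fun a => !(cpow a 3 == idc && fixB a) || inJ a) = true := by
  decide +kernel

/-- The three representatives. -/
def reps : List ℕ := [enc z, enc y, enc x]

theorem J_reps : JL.all (fun a => a == idc || KL.any (fun k => reps.contains (cconj k a))) = true :=
  by decide +kernel

theorem out_reps : KL.all (fun a => !(cpow a 3 == idc) || inJ a ||
    KL.any (fun k => cconj k a == enc p)) = true := by decide +kernel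

theorem cent_reps : KL.all (fun a => !(cpow a 3 == idc) ||
    !(comp a (enc z) == comp (enc z) a || comp a (enc y) == comp (enc y) a) || inJ a) = true := by
  decide +kernel

theorem inJ_iff_InJ (h : Hm) : inJ (enc (h : P9)) = true ↔ InJ h := by
  have hK : (h : P9) ∈ Kgrp := Kgrp_eq.symm ▸ h.2
  have hfix : fixB (enc (h : P9)) = true ↔ ∀ i : Fin 9, ((h : P9) i).val / 3 = i.val / 3 := by
    simp only [fixB, List.all_eq_true, List.mem_range, beq_iff_eq]
    constructor
    · intro hh i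
      rw [← Cfsg.Agent.S3702.nib_enc]
      exact hh i.val i.isLt
    · intro hh i hi
      rw [show i = (⟨i, hi⟩ : Fin 9).val from rfl, Cfsg.Agent.S3702.nib_enc]
      exact hh _
  constructor
  · intro hJ
    exact ⟨Cfsg.Agent.S3702.J_cube hJ, hfix.1
      (List.all_eq_true.mp J_blocks _ ((CfsgLib.CubeSFour.inJ_iff _).mp hJ))⟩
  · rintro ⟨h3, hb⟩
    have h := List.all_eq_true.mp blocks_J _ (Cfsg.Agent.S3702.enc_mem hK)
    rw [← Cfsg.Agent.S3702.enc_pow, h3, Cfsg.Agent.S3702.enc_one, beq_self_eq_true, hfix.2 hb,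
      Bool.and_self, Bool.not_true, Bool.false_or] at h
    exact h

theorem exists_conj_code {a : Hm} {k : ℕ} (hk : k ∈ KL) :
    ∃ c : Hm, enc ((c * a * c⁻¹ : Hm) : P9) = cconj k (enc (a : P9)) := by
  obtain ⟨q, hq, eq⟩ := Cfsg.Agent.S3702.enc_surj hk
  refine ⟨⟨q, gen_mem_Hm hq⟩, ?_⟩
  rw [Subgroup.coe_mul, Subgroup.coe_mul, Subgroup.coe_inv, Cfsg.Agent.S3702.enc_conj hq, eq]

variable {G : Type u} [Group G] [Finite G]

/-- `p` is not conjugate to `z` or `y`. -/
theorem not_conj_p {S : Data G} (L : Local S) {j : Hm} (hj : j = zH ∨ j = yH)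
    (hc : centralizer ({S.e j} : Set G) ≤ S.e.range) {g : G} :
    g * S.e pH * g⁻¹ ≠ S.e j := by
  intro hg
  have hcm : Commute (S.e xH) (S.e pH) := by
    rw [Commute, SemiconjBy, ← map_mul, ← map_mul,
      show xH * pH = pH * xH from decide_eq_true_iff.1 (by decide +kernel)]
  have hcj : Commute (g * S.e xH * g⁻¹) (S.e j) := hg ▸ (hcm.map (MulAut.conj g).toMonoidHom)
  obtain ⟨h, hh⟩ := hc (mem_centralizer_singleton_iff.2 hcj.eq)
  have hx3 : (xH : Hm) ^ 3 = 1 := decide_eq_true_iff.1 (by decide +kernel)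
  have h3 : h ^ 3 = 1 := S.inj (by
    rw [map_pow, hh, conj_pow, ← map_pow, hx3, map_one, mul_one, mul_inv_cancel])
  have hhj : h * j = j * h := S.inj (by rw [map_mul, map_mul, hh]; exact hcj.eq)
  have hInJ : InJ h := by
    refine (inJ_iff_InJ h).1 ?_
    have hK : (h : P9) ∈ Kgrp := Kgrp_eq.symm ▸ h.2
    have hr := List.all_eq_true.mp cent_reps _ (Cfsg.Agent.S3702.enc_mem hK)
    rw [← Cfsg.Agent.S3702.enc_pow, show (h : P9) ^ 3 = 1 from congrArg Subtype.val h3,
      Cfsg.Agent.S3702.enc_one, beq_self_eq_true, Bool.not_true, Bool.false_or] at hr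
    have hv : (h : P9) * (j : P9) = (j : P9) * (h : P9) := congrArg Subtype.val hhj
    rcases hj with rfl | rfl
    · rw [← Cfsg.Agent.S3702.enc_mul, ← Cfsg.Agent.S3702.enc_mul,
        show (h : P9) * z = z * h from hv, beq_self_eq_true] at hr
      simpa using hr
    · rw [← Cfsg.Agent.S3702.enc_mul (h : P9) y, ← Cfsg.Agent.S3702.enc_mul y (h : P9),
        show (h : P9) * y = y * h from hv, beq_self_eq_true] at hr
      simpa using hr
  have hxJ : InJ xH := decide_eq_true_iff.1 (by decide +kernel)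
  obtain ⟨k, hk⟩ := isConj_iff.1 (L.fusion xH h hxJ hInJ (isConj_iff.2 ⟨g, hh.symm⟩))
  have hgr : (S.e k)⁻¹ * g ∈ S.e.range := by
    refine L.cent_x (mem_centralizer_singleton_iff.2 ?_)
    have e : g * S.e xH * g⁻¹ = S.e k * S.e xH * (S.e k)⁻¹ := by
      rw [← hh, ← hk, map_mul, map_mul, map_inv]
    calc (S.e k)⁻¹ * g * S.e xH = (S.e k)⁻¹ * (g * S.e xH * g⁻¹) * g := by group
      _ = S.e xH * ((S.e k)⁻¹ * g) := by rw [e]; group
  have hg' : g ∈ S.e.range := by
    simpa using mul_mem (⟨k, rfl⟩ : S.e k ∈ S.e.range) hgr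
  obtain ⟨q, rfl⟩ := hg'
  rw [← map_inv, ← map_mul, ← map_mul] at hg
  have hq : q * pH * q⁻¹ = j := S.inj hg
  have hjJ : InJ j := by
    rcases hj with rfl | rfl <;> exact decide_eq_true_iff.1 (by decide +kernel)
  have hp : ¬ InJ pH := by decide +kernel
  apply hp
  refine ⟨by rw [show (pH : P9) = p from rfl]; exact decide_eq_true_iff.1 (by decide +kernel),
    fun i => ?_⟩
  have e : (pH : P9) i = ((q : P9)⁻¹ * (j : P9) * (q : P9)) i := by
    rw [show pH = q⁻¹ * j * q by rw [← hq]; group]; rfl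
  have hb := (mem_Hm.1 q.2).2 ((q : P9)⁻¹ ((j : P9) ((q : P9) i))) i
  rw [← Perm.mul_apply (q : P9) (q : P9)⁻¹, mul_inv_cancel, Perm.one_apply] at hb
  rw [e]
  exact hb.1 (hjJ.2 _)

end CaseB

open CaseB in
/-- The classes of `p` and `x` separate only in the trivial case. -/
theorem case_b : StmtCaseB.{u} := by
  intro G _ _ S L hcz hpx
  classical
  haveI := Fintype.ofFinite G
  obtain ⟨code, hcode⟩ : ∃ code : G → ℕ, ∀ h : Hm, code (S.e h) = enc (h : P9) :=
    ⟨fun g => enc ((Function.invFun S.e g : Hm) : P9), fun h => by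
      show enc ((Function.invFun S.e (S.e h) : Hm) : P9) = _
      rw [Function.leftInverse_invFun S.inj h]⟩
  have hreps : ∀ a : Hm, InJ a → a ≠ 1 → ∃ c : Hm,
      c * a * c⁻¹ = zH ∨ c * a * c⁻¹ = yH ∨ c * a * c⁻¹ = xH := by
    intro a ha ha1
    have h := List.all_eq_true.mp J_reps _
      ((CfsgLib.CubeSFour.inJ_iff _).mp ((inJ_iff_InJ a).2 ha))
    rw [Bool.or_eq_true] at h
    rcases h with h | h
    · exfalso
      rw [beq_iff_eq, ← Cfsg.Agent.S3702.enc_one] at h
      exact ha1 (Subtype.ext (Cfsg.Agent.S3702.enc_injective h))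
    · obtain ⟨k, hk, hk'⟩ := List.any_eq_true.mp h
      obtain ⟨c, hc⟩ := exists_conj_code (a := a) hk
      rw [← hc, List.contains_iff_mem] at hk'
      simp only [reps, List.mem_cons, List.not_mem_nil, or_false] at hk'
      refine ⟨c, ?_⟩
      rcases hk' with e | e | e
      · exact Or.inl (Subtype.ext (Cfsg.Agent.S3702.enc_injective e))
      · exact Or.inr (Or.inl (Subtype.ext (Cfsg.Agent.S3702.enc_injective e)))
      · exact Or.inr (Or.inr (Subtype.ext (Cfsg.Agent.S3702.enc_injective e)))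
  refine CfsgLib.CubeSFour.Config.eq_top (H := S.e.range)
    { code := code
      mem_KL := by
        rintro _ ⟨h, rfl⟩
        rw [hcode]; exact enc_mem_KL h.2
      surj := fun a ha => by
        obtain ⟨q, hq, eq⟩ := Cfsg.Agent.S3702.enc_surj ha
        exact ⟨_, ⟨⟨q, gen_mem_Hm hq⟩, rfl⟩, (hcode _).trans eq⟩
      inj := by
        rintro _ ⟨a, rfl⟩ _ ⟨b, rfl⟩ e
        rw [hcode, hcode] at e
        rw [Subtype.ext (Cfsg.Agent.S3702.enc_injective e)]
      code_mul := by
        rintro _ ⟨a, rfl⟩ _ ⟨b, rfl⟩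
        rw [← map_mul, hcode, hcode, hcode, Subgroup.coe_mul, Cfsg.Agent.S3702.enc_mul]
      cent := ?_
      closed := ?_ }
  · rintro g _ ⟨a, rfl⟩ hJ ha1 hga
    rw [hcode] at hJ
    obtain ⟨c, hc⟩ := hreps a ((inJ_iff_InJ a).1 hJ) (fun e => ha1 (by rw [e, map_one]))
    have hm : S.e c * g * (S.e c)⁻¹ ∈ centralizer ({S.e (c * a * c⁻¹)} : Set G) := by
      refine mem_centralizer_singleton_iff.2 ?_
      rw [map_mul, map_mul, map_inv]
      calc S.e c * g * (S.e c)⁻¹ * (S.e c * S.e a * (S.e c)⁻¹)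
          = S.e c * (g * S.e a) * (S.e c)⁻¹ := by group
        _ = S.e c * (S.e a * g) * (S.e c)⁻¹ := by rw [hga]
        _ = S.e c * S.e a * (S.e c)⁻¹ * (S.e c * g * (S.e c)⁻¹) := by group
    have hr : S.e c * g * (S.e c)⁻¹ ∈ S.e.range := by
      rcases hc with e | e | e <;> rw [e] at hm
      · exact hcz hm
      · exact L.cent_y hm
      · exact L.cent_x hm
    have hcr : S.e c ∈ S.e.range := ⟨c, rfl⟩
    have h := mul_mem (mul_mem (inv_mem hcr) hr) hcr
    simpa [mul_assoc] using h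
  · rintro g _ ⟨a, rfl⟩ hJ ⟨b, hb⟩
    rw [hcode] at hJ
    rw [← hb, hcode]
    by_contra hbJ
    have ha := (inJ_iff_InJ a).1 hJ
    have hb3 : (b : P9) ^ 3 = 1 := by
      have e : b ^ 3 = 1 := S.inj (by
        rw [map_pow, hb, conj_pow, ← map_pow, show a ^ 3 = 1 from Subtype.ext ha.1, map_one,
          mul_one, mul_inv_cancel])
      exact congrArg Subtype.val e
    have h := List.all_eq_true.mp out_reps _ (enc_mem_KL b.2)
    rw [← Cfsg.Agent.S3702.enc_pow, hb3, Cfsg.Agent.S3702.enc_one, beq_self_eq_true,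
      Bool.not_true, Bool.false_or, Bool.eq_false_iff.2 hbJ, Bool.false_or] at h
    obtain ⟨k, hk, hk'⟩ := List.any_eq_true.mp h
    obtain ⟨d, hd⟩ := exists_conj_code (a := b) hk
    have hdp : d * b * d⁻¹ = pH :=
      Subtype.ext (Cfsg.Agent.S3702.enc_injective (hd.trans (beq_iff_eq.mp hk')))
    have ha1 : a ≠ 1 := by
      rintro rfl
      rw [map_one, mul_one, mul_inv_cancel] at hb
      have : b = 1 := S.inj (by rw [hb, map_one])
      rw [this] at hdp
      exact absurd hdp.symm (fun e => decide_eq_false_iff_not.1 (by decide +kernel :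
        decide (pH = (1 : Hm)) = false) (by simpa using e))
    obtain ⟨c, hc⟩ := hreps a ha ha1
    -- the element carrying `p` to the representative
    have e : (S.e c * g⁻¹ * (S.e d)⁻¹) * S.e pH * (S.e c * g⁻¹ * (S.e d)⁻¹)⁻¹ =
        S.e (c * a * c⁻¹) := by
      rw [← hdp, map_mul, map_mul, map_inv, hb, map_mul, map_mul, map_inv]
      group
    rcases hc with hc | hc | hc <;> rw [hc] at e
    · exact not_conj_p L (Or.inl rfl) hcz e
    · exact not_conj_p L (Or.inr rfl) L.cent_y e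
    · exact hpx (isConj_iff.2 ⟨_, e⟩)

end CfsgLib.ANineThree
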