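import Cfsg.Agent.Lib.ANineThree.Interface
import Cfsg.Agent.Lib.Chars.Induction

/-!
The six virtual characters of the local model used in the fused local case: statement.

Order of the indices: `0 = p`, `1 = q`, `2 = f`, `3 = g`, `4 = f₅`, `5 = f₈`; in the numbering of
`tools/a9/tab.py` they are `χ₈ - χ₇`, `χ₁ - χ₃`, `χ₃ - χ₇ + χ₁₁`, `χ₃ - χ₁₂ - χ₁₃`,
`χ₀ - χ₇ - χ₉ + χ₁₂`, `χ₄ - χ₇ - χ₉ - χ₁₂`.
-/

set_option autoImplicit false

namespace CfsgLib.ANineThree.CaseC

open Equiv Subgroup Cfsg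

/-- The special set: elements of order divisible by three outside the class of `p`. -/
def InD (h : Hm) : Prop := (h : P9) ^ 4 ≠ 1 ∧ ¬ ((h : P9) ^ 3 = 1 ∧ ¬ InJ h)

instance : DecidablePred InD := fun h => inferInstanceAs (Decidable (_ ∧ _))

/-- The number of fixed letters. -/
def fixCard (h : Hm) : ℕ := (Finset.univ.filter fun i => (h : P9) i = i).card

/-- The two classes of involutions: five fixed letters, or one. -/
def InvCls (k : Fin 2) (h : Hm) : Prop :=
  (h : P9) * (h : P9) = 1 ∧ fixCard h = if k = 0 then 5 else 1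

instance (k : Fin 2) : DecidablePred (InvCls k) := fun h => inferInstanceAs (Decidable (_ ∧ _))

/-- The number of ordered pairs in the two classes with product `h`. -/
noncomputable def pairs (k l : Fin 2) (h : Hm) : ℕ :=
  Nat.card {v : Hm // InvCls k v ∧ InvCls l (v * h)}

/-- The inner products. -/
def gram : Fin 6 → Fin 6 → ℤ :=
  ![![2, 0, 1, 0, 1, 1], ![0, 2, -1, -1, 0, 0], ![1, -1, 3, 1, 1, 1], ![0, -1, 1, 3, -1, 1],
    ![1, 0, 1, -1, 4, 1], ![1, 0, 1, 1, 1, 4]]

/-- The inner products with the principal character. -/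
def principalPart : Fin 6 → ℤ := ![0, 0, 0, 0, -1, -1]

/-- The weighted numbers of pairs of involutions. -/
def pairSum (i : Fin 6) (k l : Fin 2) : ℚ :=
  if k = 0 ∧ l = 0 then ![0, 0, 3, 0, 0, -3 / 2] i
  else if k = 1 ∧ l = 1 then ![0, 0, 0, -3, -3, -9 / 2] i
  else ![0, 0, 0, 0, -3, -3 / 2] i

/-- The six virtual characters exist. -/
def StmtModel : Prop := ∀ [Fintype Hm], ∃ ψ : Fin 6 → Hm → ℂ,
  (∀ i, IsGeneralizedCharacter Hm (ψ i)) ∧
  (∀ i h, ¬ InD h → ψ i h = 0) ∧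
  (∀ i j, classInner (ψ i) (ψ j) = (gram i j : ℂ)) ∧
  (∀ i, classInner (ψ i) (fun _ => 1) = (principalPart i : ℂ)) ∧
  (∀ i k l, classInner (fun h => (pairs k l h : ℂ)) (ψ i) = (pairSum i k l : ℂ))

end CfsgLib.ANineThree.CaseC
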