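import Cfsg.Agent.Lib.ANineThree.CaseB
import Cfsg.Agent.Lib.ANineThree.CaseCDefs

/-!
Fusion facts for the fused local case: the two classes of involutions, the normal subgroups
containing the first involution, and the trivial intersection set of singular elements.
-/

set_option autoImplicit false
set_option linter.style.haveILetI false
set_option maxRecDepth 100000

namespace CfsgLib.ANineThree.CaseC

open Equiv Subgroup CfsgLib.ANineThree.CaseB

open CfsgLib.CubeSFour (comp idc cpow cconj inJ KL JL)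
open Cfsg.Agent.S3702 (enc)

universe u

/-- The element of `(1 2)(4 5)(7 8)·(0 3)(1 4)(2 5)` inverting `x`. -/
def vH : Hm := ⟨swap 0 3 * swap 1 5 * swap 2 4 * swap 7 8, by decide +kernel⟩

theorem J_reps' : JL.all (fun a => a == idc || KL.any (fun k => reps.contains (cconj k a))) = true :=
  J_reps

theorem y_tau : KL.all (fun a => !(cpow a 9 == idc) || !(comp a (enc y) == comp (enc y) a) ||
    !(comp a (enc τ) == comp (enc τ) a) || [idc, enc y, cpow (enc y) 2].contains a) = true := by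
  decide +kernel

theorem z3_not_y : KL.all (fun k => !(cconj k (enc z3) == enc y) &&
    !(cconj k (enc z3) == cpow (enc y) 2)) = true := by decide +kernel

theorem cent_xp : KL.all (fun a => !(comp a (enc x) == comp (enc x) a) ||
    !(comp a (enc p) == comp (enc p) a) ||
    (List.range 3).any (fun i => (List.range 3).any fun j =>
      a == comp (cpow (enc x) i) (cpow (enc p) j))) = true := by decide +kernel

theorem cent_x_mem : KL.all (fun a => !(comp a (enc x) == comp (enc x) a) ||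
    (List.range 3).any (fun i => inJ (comp a (cpow (enc p) i)))) = true := by decide +kernel

/-- `z z2⁻¹`. -/
def cH : Hm := zH * z2H⁻¹

theorem transvection : KL.all (fun a => !(cpow a 3 == idc) || !(comp a (enc x) == comp (enc x) a) ||
    inJ a || [1, 2].any (fun i => cconj (enc (cH : P9)) a == comp a (cpow (enc x) i))) = true := by
  decide +kernel

theorem singular : KL.all (fun a => cpow a 4 == idc || (cpow a 3 == idc && !inJ a) ||
    ((cpow a 12 == idc && inJ (cpow a 4)) || (!(cpow a 12 == idc) && inJ (cpow a 12)))) = true := by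
  decide +kernel

theorem tau_v : KL.any (fun k => cconj k (enc (vH : P9)) == enc τ) = true := by decide +kernel

theorem small_facts : tH * z3H = z3H * tH ∧ τH * yH = yH * τH ∧ tH * tH = 1 ∧
    cH * pH * cH⁻¹ = pH * xH ∧ cH * xH * cH⁻¹ = xH ∧ vH * xH * vH⁻¹ = xH⁻¹ ∧ InJ cH ∧ InJ xH ∧
    InJ yH ∧ InJ z3H ∧ ¬ InJ pH ∧ xH ^ 3 = 1 ∧ pH ^ 3 = 1 ∧ xH * pH = pH * xH ∧
    tH * zH * tH⁻¹ * zH⁻¹ = zH ∧ tH * z2H * tH⁻¹ * z2H⁻¹ = z2H ∧ pH * z2H * pH⁻¹ = z3H := by
  decide +kernel

theorem J_gen : JL.all (fun a => (List.range 3).any fun i => (List.range 3).any fun j =>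
    (List.range 3).any fun k =>
      a == comp (cpow (enc z) i) (comp (cpow (enc z2) j) (cpow (enc z3) k))) = true := by
  decide +kernel

theorem enc_eq {a b : Hm} (h : enc (a : P9) = enc (b : P9)) : a = b :=
  Subtype.ext (Cfsg.Agent.S3702.enc_injective h)

theorem enc_comm {a b : Hm} (h : a * b = b * a) :
    comp (enc (a : P9)) (enc (b : P9)) = comp (enc (b : P9)) (enc (a : P9)) := by
  rw [← Cfsg.Agent.S3702.enc_mul, ← Cfsg.Agent.S3702.enc_mul]
  exact congrArg enc (congrArg Subtype.val h)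

theorem enc_hpow (a : Hm) (n : ℕ) : enc ((a ^ n : Hm) : P9) = cpow (enc (a : P9)) n := by
  rw [SubgroupClass.coe_pow, Cfsg.Agent.S3702.enc_pow]

theorem cpow_eq_idc {a : Hm} {n : ℕ} (h : a ^ n = 1) : cpow (enc (a : P9)) n = idc := by
  rw [← enc_hpow, h, OneMemClass.coe_one, Cfsg.Agent.S3702.enc_one]

/-- The elements of `J`. -/
theorem inJ_exists_pow {a : Hm} (h : InJ a) :
    ∃ i j k : ℕ, a = zH ^ i * (z2H ^ j * z3H ^ k) := by
  have h' := List.all_eq_true.mp J_gen _ ((CfsgLib.CubeSFour.inJ_iff _).mp ((inJ_iff_InJ a).2 h))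
  obtain ⟨i, -, h'⟩ := List.any_eq_true.mp h'
  obtain ⟨j, -, h'⟩ := List.any_eq_true.mp h'
  obtain ⟨k, -, h'⟩ := List.any_eq_true.mp h'
  refine ⟨i, j, k, enc_eq ?_⟩
  rw [Subgroup.coe_mul, Subgroup.coe_mul, SubgroupClass.coe_pow, SubgroupClass.coe_pow,
    SubgroupClass.coe_pow, Cfsg.Agent.S3702.enc_mul, Cfsg.Agent.S3702.enc_mul,
    Cfsg.Agent.S3702.enc_pow, Cfsg.Agent.S3702.enc_pow, Cfsg.Agent.S3702.enc_pow]
  exact beq_iff_eq.mp h'

theorem exists_rep {a : Hm} (ha : InJ a) (ha1 : a ≠ 1) :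
    ∃ c : Hm, c * a * c⁻¹ = zH ∨ c * a * c⁻¹ = yH ∨ c * a * c⁻¹ = xH := by
  have h := List.all_eq_true.mp J_reps' _
    ((CfsgLib.CubeSFour.inJ_iff _).mp ((inJ_iff_InJ a).2 ha))
  rw [Bool.or_eq_true] at h
  rcases h with h | h
  · exfalso
    rw [beq_iff_eq, ← Cfsg.Agent.S3702.enc_one] at h
    exact ha1 (Subtype.ext (Cfsg.Agent.S3702.enc_injective h))
  · obtain ⟨k, hk, hk'⟩ := List.any_eq_true.mp h
    obtain ⟨c, hc⟩ := exists_conj_code (a := a) hk
    rw [← hc, List.contains_iff_mem] at hk'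
    simp only [reps, List.mem_cons, List.not_mem_nil, or_false] at hk'
    refine ⟨c, ?_⟩
    rcases hk' with e | e | e
    · exact Or.inl (enc_eq e)
    · exact Or.inr (Or.inl (enc_eq e))
    · exact Or.inr (Or.inr (enc_eq e))

variable {G : Type u} [Group G] [Finite G] (S : Data G)

theorem cent_J_elem (hL : Local S) (hz : centralizer ({S.e zH} : Set G) ≤ S.e.range) {a : Hm}
    (ha : InJ a) (ha1 : a ≠ 1) : centralizer ({S.e a} : Set G) ≤ S.e.range := by
  intro g hg
  obtain ⟨c, hc⟩ := exists_rep ha ha1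
  have hga := mem_centralizer_singleton_iff.1 hg
  have hm : S.e c * g * (S.e c)⁻¹ ∈ centralizer ({S.e (c * a * c⁻¹)} : Set G) := by
    refine mem_centralizer_singleton_iff.2 ?_
    rw [map_mul, map_mul, map_inv]
    calc S.e c * g * (S.e c)⁻¹ * (S.e c * S.e a * (S.e c)⁻¹)
        = S.e c * (g * S.e a) * (S.e c)⁻¹ := by group
      _ = S.e c * (S.e a * g) * (S.e c)⁻¹ := by rw [hga]
      _ = S.e c * S.e a * (S.e c)⁻¹ * (S.e c * g * (S.e c)⁻¹) := by group
  have hr : S.e c * g * (S.e c)⁻¹ ∈ S.e.range := by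
    rcases hc with e | e | e <;> rw [e] at hm
    · exact hz hm
    · exact hL.cent_y hm
    · exact hL.cent_x hm
  have hcr : S.e c ∈ S.e.range := ⟨c, rfl⟩
  have h := mul_mem (mul_mem (inv_mem hcr) hr) hcr
  simpa [mul_assoc] using h

omit [Finite G] in
/-- The `3`-elements commuting with one of order three are its powers: every element of order three
of a finite group is then conjugate to it or its inverse. -/
theorem exists_conj_of_three {C : Type u} [Group C] [Finite C] {a b : C} (ha : orderOf a = 3)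
    (hb : orderOf b = 3) (hself : ∀ c : C, (∃ n, c ^ 3 ^ n = 1) → c * a = a * c → c ∈ zpowers a) :
    ∃ g : C, g * b * g⁻¹ = a ∨ g * b * g⁻¹ = a ^ 2 := by
  haveI := Fact.mk Nat.prime_three
  have hpa : IsPGroup 3 (zpowers a) := IsPGroup.of_card (n := 1) (by rw [Nat.card_zpowers, ha, pow_one])
  have hpb : IsPGroup 3 (zpowers b) := IsPGroup.of_card (n := 1) (by rw [Nat.card_zpowers, hb, pow_one])
  obtain ⟨P, hP⟩ := hpa.exists_le_sylow
  have haP : a ∈ (P : Subgroup C) := hP (mem_zpowers a)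
  haveI : Nontrivial (P : Subgroup C) := by
    refine ⟨⟨⟨a, haP⟩, 1, fun e => ?_⟩⟩
    have : a = 1 := congrArg Subtype.val e
    rw [this, orderOf_one] at ha
    omega
  haveI : Nontrivial (center (P : Subgroup C)) := P.isPGroup'.center_nontrivial
  obtain ⟨⟨c, hc⟩, hc1⟩ := exists_ne (1 : center (P : Subgroup C))
  have hmem : ∀ d : (P : Subgroup C), (d : C) * a = a * d → (d : C) ∈ zpowers a := fun d hd => by
    obtain ⟨n, hn⟩ := P.isPGroup' d
    exact hself d ⟨n, congrArg Subtype.val hn⟩ hd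
  have hca : (c : C) ∈ zpowers a := hmem c
    (congrArg Subtype.val (mem_center_iff.1 hc ⟨a, haP⟩)).symm
  have hPeq : ∀ d ∈ (P : Subgroup C), d ∈ zpowers a := by
    intro d hd
    refine hmem ⟨d, hd⟩ ?_
    have hcd : Commute d (c : C) := congrArg Subtype.val (mem_center_iff.1 hc ⟨d, hd⟩)
    have hne : (c : C) ≠ 1 := fun e => hc1 (Subtype.ext (Subtype.ext e))
    have hac : a ∈ zpowers (c : C) := by
      have e : zpowers (c : C) = zpowers a := by
        refine eq_of_le_of_card_ge (zpowers_le.2 hca) ?_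
        rw [Nat.card_zpowers, Nat.card_zpowers]
        rcases (Nat.dvd_prime Nat.prime_three).1 (ha ▸ orderOf_dvd_of_mem_zpowers hca) with e | e
        · exact absurd (orderOf_eq_one_iff.1 e) hne
        · rw [e, ha]
      exact e ▸ mem_zpowers a
    obtain ⟨i, hi⟩ := mem_zpowers_iff.1 hac
    exact hi ▸ (hcd.zpow_right i).eq
  obtain ⟨Q, hQ⟩ := hpb.exists_le_sylow
  obtain ⟨g, hg⟩ := MulAction.exists_smul_eq C Q P
  refine ⟨g, ?_⟩
  have h1 : g * b * g⁻¹ ∈ (P : Subgroup C) := by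
    rw [← hg, Sylow.coe_subgroup_smul]
    exact ⟨b, hQ (mem_zpowers b), rfl⟩
  obtain ⟨i, hi⟩ := mem_zpowers_iff.1 (hPeq _ h1)
  have hne : g * b * g⁻¹ ≠ 1 := fun e => by
    have : b = 1 := by simpa using e
    rw [this, orderOf_one] at hb
    omega
  rw [← hi, ← zpow_mod_orderOf, ha] at hne ⊢
  rcases (show i % 3 = 0 ∨ i % 3 = 1 ∨ i % 3 = 2 by omega) with e | e | e <;>
    (push_cast at hne ⊢; rw [e] at hne ⊢)
  · exact absurd (zpow_zero a) hne
  · exact Or.inl (zpow_one a)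
  · exact Or.inr (zpow_natCast a 2)

/-- The two classes of involutions are not fused. -/
theorem not_isConj_invol (hL : Local S) (hz : centralizer ({S.e zH} : Set G) ≤ S.e.range) :
    ¬ IsConj (S.e tH) (S.e τH) := by
  intro hf
  obtain ⟨g, hg⟩ := isConj_iff.1 hf
  set C := centralizer ({S.e τH} : Set G)
  have hyC : S.e yH ∈ C := mem_centralizer_singleton_iff.2 (by
    rw [← map_mul, ← map_mul, small_facts.2.1])
  have hzC : g * S.e z3H * g⁻¹ ∈ C := mem_centralizer_singleton_iff.2 (by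
    rw [← hg]
    have e : S.e z3H * S.e tH = S.e tH * S.e z3H := by rw [← map_mul, ← map_mul, small_facts.1]
    calc g * S.e z3H * g⁻¹ * (g * S.e tH * g⁻¹) = g * (S.e z3H * S.e tH) * g⁻¹ := by group
      _ = g * (S.e tH * S.e z3H) * g⁻¹ := by rw [e]
      _ = _ := by group)
  have hord : ∀ a : Hm, a ^ 3 = 1 → a ≠ 1 → orderOf (S.e a) = 3 := fun a h3 h1 => by
    haveI := Fact.mk Nat.prime_three
    exact orderOf_eq_prime (by rw [← map_pow, h3, map_one]) (fun e => h1 (S.inj (e.trans (map_one S.e).symm)))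
  have hy3 : (yH : Hm) ^ 3 = 1 := by decide +kernel
  have hz3 : (z3H : Hm) ^ 3 = 1 := by decide +kernel
  have ho1 : orderOf (⟨S.e yH, hyC⟩ : C) = 3 := by
    rw [← Subgroup.orderOf_coe]; exact hord _ hy3 (by decide +kernel)
  have ho2 : orderOf (⟨g * S.e z3H * g⁻¹, hzC⟩ : C) = 3 := by
    rw [← Subgroup.orderOf_coe]
    show orderOf (MulAut.conj g (S.e z3H)) = 3
    rw [MulEquiv.orderOf_eq]
    exact hord _ hz3 (by decide +kernel)
  obtain ⟨d, hd⟩ := exists_conj_of_three ho1 ho2 (by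
    rintro ⟨c, hcC⟩ ⟨n, hn⟩ hcy
    have hcy' : c * S.e yH = S.e yH * c := congrArg Subtype.val hcy
    obtain ⟨h, rfl⟩ := cent_J_elem S hL hz small_facts.2.2.2.2.2.2.2.2.1 (by decide +kernel)
      (mem_centralizer_singleton_iff.2 hcy')
    have hhy : h * yH = yH * h := S.inj (by rw [map_mul, map_mul]; exact hcy')
    have hht : h * τH = τH * h := S.inj (by
      rw [map_mul, map_mul]; exact mem_centralizer_singleton_iff.1 hcC)
    have hn' : h ^ 3 ^ n = 1 := S.inj (by
      rw [map_pow, map_one]; exact congrArg Subtype.val hn)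
    have h36 : h ^ 36 = 1 := enc_eq (by
      rw [enc_hpow, OneMemClass.coe_one, Cfsg.Agent.S3702.enc_one]
      exact beq_iff_eq.mp (List.all_eq_true.mp CfsgLib.CubeSFour.KL_pow _ (enc_mem_KL h.2)))
    have h9 : h ^ 9 = 1 := by
      refine orderOf_dvd_iff_pow_eq_one.mp (Nat.Coprime.dvd_of_dvd_mul_left (k := orderOf h)
        (m := 4) ?_ (orderOf_dvd_of_pow_eq_one h36))
      exact Nat.Coprime.coprime_dvd_left (orderOf_dvd_of_pow_eq_one hn')
        (Nat.Coprime.pow_left n (by decide))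
    have hh := List.all_eq_true.mp y_tau _ (enc_mem_KL h.2)
    rw [cpow_eq_idc h9, show comp (enc (h : P9)) (enc y) = comp (enc y) (enc (h : P9)) from
      enc_comm hhy, show comp (enc (h : P9)) (enc τ) = comp (enc τ) (enc (h : P9)) from
      enc_comm hht] at hh
    simp only [beq_self_eq_true, Bool.not_true, Bool.false_or, List.contains_iff_mem,
      List.mem_cons, List.not_mem_nil, or_false] at hh
    rcases hh with e | e | e
    · have : h = 1 := enc_eq (by rw [e, OneMemClass.coe_one, Cfsg.Agent.S3702.enc_one])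
      subst this
      exact (show (⟨S.e 1, hcC⟩ : C) = 1 from Subtype.ext (map_one S.e)) ▸ one_mem _
    · obtain rfl : h = yH := enc_eq e
      exact mem_zpowers _
    · obtain rfl : h = yH ^ 2 := enc_eq (by rw [e, enc_hpow]; rfl)
      refine mem_zpowers_iff.2 ⟨2, Subtype.ext ?_⟩
      show (S.e yH) ^ (2 : ℤ) = S.e (yH ^ 2)
      rw [map_pow, zpow_two, pow_two])
  obtain ⟨k, hk⟩ : ∃ k : Hm, k * z3H * k⁻¹ = yH ∨ k * z3H * k⁻¹ = yH ^ 2 := by
    have hy2J : InJ (yH ^ 2) := by decide +kernel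
    rcases hd with e | e
    · obtain ⟨k, hk⟩ := isConj_iff.1 (hL.fusion z3H yH small_facts.2.2.2.2.2.2.2.2.2.1
        small_facts.2.2.2.2.2.2.2.2.1 (isConj_iff.2 ⟨(d : G) * g, by
          refine Eq.trans ?_ (congrArg Subtype.val e)
          show (d : G) * g * S.e z3H * ((d : G) * g)⁻¹ = (d : G) * (g * S.e z3H * g⁻¹) * (d : G)⁻¹
          group⟩))
      exact ⟨k, Or.inl hk⟩
    · obtain ⟨k, hk⟩ := isConj_iff.1 (hL.fusion z3H (yH ^ 2) small_facts.2.2.2.2.2.2.2.2.2.1
        hy2J (isConj_iff.2 ⟨(d : G) * g, by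
          rw [map_pow]
          refine Eq.trans ?_ (congrArg Subtype.val e)
          show (d : G) * g * S.e z3H * ((d : G) * g)⁻¹ = (d : G) * (g * S.e z3H * g⁻¹) * (d : G)⁻¹
          group⟩))
      exact ⟨k, Or.inr hk⟩
  have h := List.all_eq_true.mp z3_not_y _ (enc_mem_KL k.2)
  have hc : enc ((k * z3H * k⁻¹ : Hm) : P9) = cconj (enc (k : P9)) (enc z3) := by
    rw [Subgroup.coe_mul, Subgroup.coe_mul, Subgroup.coe_inv,
      Cfsg.Agent.S3702.enc_conj (CaseB.Kgrp_eq.symm ▸ k.2)]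
    rfl
  rcases hk with e | e <;> rw [e] at hc <;> rw [← hc] at h <;>
    simp [enc_hpow, Cfsg.Agent.S3702.enc_pow, show ((yH : Hm) : P9) = y from rfl] at h

/-- A normal subgroup containing the first involution contains the second. -/
theorem mem_normal (hL : Local S) (hf : IsConj (S.e pH) (S.e xH)) (N : Subgroup G) (hN : N.Normal)
    (ht : S.e tH ∈ N) : S.e τH ∈ N := by
  obtain ⟨-, -, -, hcp, hcx, hvx, -, hxJ, -, -, hpJ, hx3, hp3, hxp, htz, htz2, hpz⟩ := small_facts
  obtain ⟨g, hg⟩ := isConj_iff.1 hf.symm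
  -- `J` lies in `N`
  have hcomm : ∀ a : Hm, S.e (tH * a * tH⁻¹ * a⁻¹) ∈ N := fun a => by
    rw [map_mul, map_mul, map_mul, map_inv, map_inv, mul_assoc, mul_assoc]
    exact N.mul_mem ht (by rw [← mul_assoc]; exact hN.conj_mem _ (N.inv_mem ht) _)
  have hzN : S.e zH ∈ N := htz ▸ hcomm zH
  have hz2N : S.e z2H ∈ N := htz2 ▸ hcomm z2H
  have hz3N : S.e z3H ∈ N := by
    rw [← hpz, map_mul, map_mul, map_inv]
    exact hN.conj_mem _ hz2N _
  have hJN : ∀ a : Hm, InJ a → S.e a ∈ N := fun a ha => by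
    obtain ⟨i, j, k, rfl⟩ := inJ_exists_pow ha
    rw [map_mul, map_mul, map_pow, map_pow, map_pow]
    exact N.mul_mem (N.pow_mem hzN i) (N.mul_mem (N.pow_mem hz2N j) (N.pow_mem hz3N k))
  have hpN : S.e pH ∈ N := hg ▸ hN.conj_mem _ (hJN xH hxJ) g
  have hCx : ∀ h : Hm, h * xH = xH * h → S.e h ∈ N := by
    intro h hh
    have hr := List.all_eq_true.mp cent_x_mem _ (enc_mem_KL h.2)
    rw [show comp (enc (h : P9)) (enc x) = comp (enc x) (enc (h : P9)) from enc_comm hh,
      beq_self_eq_true, Bool.not_true, Bool.false_or] at hr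
    obtain ⟨i, -, hi⟩ := List.any_eq_true.mp hr
    have e : enc ((h * pH ^ i : Hm) : P9) = comp (enc (h : P9)) (cpow (enc p) i) := by
      rw [Subgroup.coe_mul, Cfsg.Agent.S3702.enc_mul, enc_hpow]
      rfl
    have h1 := hJN _ ((inJ_iff_InJ (h * pH ^ i)).1 (e ▸ hi))
    rw [map_mul, map_pow] at h1
    simpa using N.mul_mem h1 (N.inv_mem (N.pow_mem hpN i))
  -- `x` is the transform of an element `h` outside `J`
  have hxp' : Commute (S.e xH) (S.e pH) := by
    rw [Commute, SemiconjBy, ← map_mul, ← map_mul, hxp]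
  have hC : g⁻¹ * S.e xH * g ∈ centralizer ({S.e xH} : Set G) := mem_centralizer_singleton_iff.2 (by
    have e : S.e xH = g⁻¹ * S.e pH * g := by rw [← hg]; group
    calc g⁻¹ * S.e xH * g * S.e xH = g⁻¹ * S.e xH * g * (g⁻¹ * S.e pH * g) := by rw [← e]
      _ = g⁻¹ * (S.e xH * S.e pH) * g := by group
      _ = g⁻¹ * (S.e pH * S.e xH) * g := by rw [hxp'.eq]
      _ = g⁻¹ * S.e pH * g * (g⁻¹ * S.e xH * g) := by group
      _ = _ := by rw [← e])
  obtain ⟨h, hh⟩ := hL.cent_x hC
  have hhx : h * xH = xH * h := S.inj (by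
    rw [map_mul, map_mul, hh]; exact mem_centralizer_singleton_iff.1 hC)
  have hh3 : h ^ 3 = 1 := S.inj (by
    rw [map_pow, hh, show g⁻¹ * S.e xH * g = g⁻¹ * S.e xH * g⁻¹⁻¹ by rw [inv_inv], conj_pow,
      ← map_pow, hx3, map_one, mul_one, mul_inv_cancel])
  have hxg : S.e xH = g * S.e h * g⁻¹ := by rw [hh]; group
  have hhJ : ¬ InJ h := by
    intro hJ
    -- `J` would map into the centralizer of `x` and `p`, of order nine
    have key : ∀ v : Fin 3 × Fin 3 × Fin 3, ∃ w : Fin 3 × Fin 3,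
        g * S.e (zH ^ v.1.val * (z2H ^ v.2.1.val * z3H ^ v.2.2.val)) * g⁻¹ =
          S.e (xH ^ w.1.val * pH ^ w.2.val) := by
      intro v
      obtain ⟨a, ha⟩ : ∃ a, a = zH ^ v.1.val * (z2H ^ v.2.1.val * z3H ^ v.2.2.val) := ⟨_, rfl⟩
      rw [← ha]
      have hJcomm : ∀ b : Hm, InJ b → a * b = b * a := by
        intro b hb
        obtain ⟨i, j, k, rfl⟩ := inJ_exists_pow hb
        have c1 : Commute zH z2H := (show zH * z2H = z2H * zH by decide +kernel)
        have c2 : Commute zH z3H := (show zH * z3H = z3H * zH by decide +kernel)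
        have c3 : Commute z2H z3H := (show z2H * z3H = z3H * z2H by decide +kernel)
        subst ha
        have hz' : ∀ m : ℕ, Commute (zH ^ m) (zH ^ i * (z2H ^ j * z3H ^ k)) := fun m =>
          ((Commute.refl zH).pow_pow m i).mul_right
            ((c1.pow_pow m j).mul_right (c2.pow_pow m k))
        have hz2' : ∀ m : ℕ, Commute (z2H ^ m) (zH ^ i * (z2H ^ j * z3H ^ k)) := fun m =>
          (c1.symm.pow_pow m i).mul_right
            (((Commute.refl z2H).pow_pow m j).mul_right (c3.pow_pow m k))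
        have hz3' : ∀ m : ℕ, Commute (z3H ^ m) (zH ^ i * (z2H ^ j * z3H ^ k)) := fun m =>
          (c2.symm.pow_pow m i).mul_right
            ((c3.symm.pow_pow m j).mul_right ((Commute.refl z3H).pow_pow m k))
        exact ((hz' _).mul_left ((hz2' _).mul_left (hz3' _))).eq
      have hcp' : Commute (g * S.e a * g⁻¹) (S.e pH) := by
        rw [← hg]
        refine Commute.map (show Commute (S.e a) (S.e xH) from ?_) (MulAut.conj g).toMonoidHom
        rw [Commute, SemiconjBy, ← map_mul, ← map_mul, hJcomm _ hxJ]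
      have hcx' : Commute (g * S.e a * g⁻¹) (S.e xH) := by
        rw [hxg]
        refine Commute.map (show Commute (S.e a) (S.e h) from ?_) (MulAut.conj g).toMonoidHom
        rw [Commute, SemiconjBy, ← map_mul, ← map_mul, hJcomm _ hJ]
      obtain ⟨q, hq⟩ := hL.cent_x (mem_centralizer_singleton_iff.2 hcx'.eq)
      have hqx : q * xH = xH * q := S.inj (by rw [map_mul, map_mul, hq]; exact hcx'.eq)
      have hqp : q * pH = pH * q := S.inj (by rw [map_mul, map_mul, hq]; exact hcp'.eq)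
      have hr := List.all_eq_true.mp cent_xp _ (enc_mem_KL q.2)
      rw [show comp (enc (q : P9)) (enc x) = comp (enc x) (enc (q : P9)) from enc_comm hqx,
        show comp (enc (q : P9)) (enc p) = comp (enc p) (enc (q : P9)) from enc_comm hqp,
        beq_self_eq_true, beq_self_eq_true, Bool.not_true, Bool.false_or, Bool.false_or] at hr
      obtain ⟨i, hi, hr⟩ := List.any_eq_true.mp hr
      obtain ⟨j, hj, hr⟩ := List.any_eq_true.mp hr
      refine ⟨(⟨i, List.mem_range.1 hi⟩, ⟨j, List.mem_range.1 hj⟩), hq.symm.trans (congrArg S.e ?_)⟩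
      apply enc_eq
      rw [Subgroup.coe_mul, Cfsg.Agent.S3702.enc_mul, enc_hpow, enc_hpow]
      exact beq_iff_eq.mp hr
    choose w hw using key
    have hinj : Function.Injective w := by
      intro a b e
      have e1 := (hw a).trans ((congrArg (fun w : Fin 3 × Fin 3 =>
        S.e (xH ^ w.1.val * pH ^ w.2.val)) e).trans (hw b).symm)
      have e2 := S.inj (mul_left_cancel (mul_right_cancel e1))
      have inj27 : ∀ a b : Fin 3 × Fin 3 × Fin 3,
          zH ^ a.1.val * (z2H ^ a.2.1.val * z3H ^ a.2.2.val) =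
            zH ^ b.1.val * (z2H ^ b.2.1.val * z3H ^ b.2.2.val) → a = b := by decide +kernel
      exact inj27 a b e2
    exact absurd (Fintype.card_le_of_injective w hinj) (by simp)
  -- the transvections
  obtain ⟨m, hm, hch⟩ : ∃ m : ℕ, (m = 1 ∨ m = 2) ∧ cH * h * cH⁻¹ = h * xH ^ m := by
    have hr := List.all_eq_true.mp transvection _ (enc_mem_KL h.2)
    rw [cpow_eq_idc hh3, show comp (enc (h : P9)) (enc x) = comp (enc x) (enc (h : P9)) from
      enc_comm hhx, beq_self_eq_true, beq_self_eq_true, Bool.not_true, Bool.false_or,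
      Bool.false_or, Bool.eq_false_iff.2 (fun e => hhJ ((inJ_iff_InJ h).1 e)), Bool.false_or] at hr
    obtain ⟨m, hm, hr⟩ := List.any_eq_true.mp hr
    refine ⟨m, by simpa using hm, enc_eq ?_⟩
    rw [Subgroup.coe_mul, Subgroup.coe_mul, Subgroup.coe_inv,
      Cfsg.Agent.S3702.enc_conj (CaseB.Kgrp_eq.symm ▸ cH.2), Subgroup.coe_mul,
      Cfsg.Agent.S3702.enc_mul, enc_hpow]
    exact beq_iff_eq.mp hr
  set A := S.e cH ^ m
  set B := g * S.e cH * g⁻¹
  have hAN : A ∈ N := N.pow_mem (hJN cH small_facts.2.2.2.2.2.2.1) m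
  have hBN : B ∈ N := hN.conj_mem _ (hJN cH small_facts.2.2.2.2.2.2.1) g
  have hBx : B * S.e xH * B⁻¹ = S.e xH * S.e pH ^ m := by
    have e : S.e cH * S.e h * (S.e cH)⁻¹ = S.e h * S.e xH ^ m := by
      rw [← map_inv, ← map_mul, ← map_mul, hch, map_mul, map_pow]
    calc B * S.e xH * B⁻¹ = g * (S.e cH * S.e h * (S.e cH)⁻¹) * g⁻¹ := by
          rw [hxg]; simp only [B]; group
      _ = g * S.e h * g⁻¹ * (g * S.e xH ^ m * g⁻¹) := by rw [e]; group
      _ = S.e xH * S.e pH ^ m := by rw [← hxg, ← conj_pow, hg]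
  have hBp : B * S.e pH * B⁻¹ = S.e pH := by
    have e : S.e cH * S.e xH * (S.e cH)⁻¹ = S.e xH := by
      rw [← map_inv, ← map_mul, ← map_mul, hcx]
    calc B * S.e pH * B⁻¹ = g * (S.e cH * S.e xH * (S.e cH)⁻¹) * g⁻¹ := by
          rw [← hg]; simp only [B]; group
      _ = S.e pH := by rw [e, hg]
  have hAx : A * S.e xH * A⁻¹ = S.e xH := by
    simp only [A]
    rw [← map_pow, ← map_inv, ← map_mul, ← map_mul]
    refine congrArg S.e ?_
    rcases hm with rfl | rfl <;> decide +kernel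
  have hAp : A * S.e pH * A⁻¹ = S.e pH * S.e xH ^ m := by
    simp only [A]
    rw [← map_pow, ← map_pow, ← map_inv, ← map_mul, ← map_mul, ← map_mul]
    refine congrArg S.e ?_
    rcases hm with rfl | rfl <;> decide +kernel
  set w := B * A * B
  have hwN : w ∈ N := N.mul_mem (N.mul_mem hBN hAN) hBN
  have hfin : w * S.e xH * w⁻¹ = S.e xH⁻¹ := by
    have h1 : A * (S.e xH * S.e pH ^ m) * A⁻¹ = S.e xH * (S.e pH * S.e xH ^ m) ^ m := by
      rw [show A * (S.e xH * S.e pH ^ m) * A⁻¹ =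
        A * S.e xH * A⁻¹ * (A * S.e pH ^ m * A⁻¹) by group, hAx, ← conj_pow, hAp]
    have h2 : B * (S.e xH * (S.e pH * S.e xH ^ m) ^ m) * B⁻¹ =
        S.e xH * S.e pH ^ m * (S.e pH * (S.e xH * S.e pH ^ m) ^ m) ^ m := by
      rw [show B * (S.e xH * (S.e pH * S.e xH ^ m) ^ m) * B⁻¹ =
        B * S.e xH * B⁻¹ * (B * (S.e pH * S.e xH ^ m) ^ m * B⁻¹) by group, hBx, ← conj_pow,
        show B * (S.e pH * S.e xH ^ m) * B⁻¹ = B * S.e pH * B⁻¹ * (B * S.e xH ^ m * B⁻¹) by group,
        hBp, ← conj_pow, hBx]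
    calc w * S.e xH * w⁻¹ = B * (A * (B * S.e xH * B⁻¹) * A⁻¹) * B⁻¹ := by
          simp only [w]; group
      _ = S.e (xH * pH ^ m * (pH * (xH * pH ^ m) ^ m) ^ m) := by
          rw [hBx, h1, h2]; simp only [map_mul, map_pow]
      _ = S.e xH⁻¹ := by
          refine congrArg S.e ?_
          rcases hm with rfl | rfl <;> decide +kernel
  have hvC : (S.e vH)⁻¹ * w ∈ centralizer ({S.e xH} : Set G) := by
    refine mem_centralizer_singleton_iff.2 ?_
    have e : w * S.e xH * w⁻¹ = S.e vH * S.e xH * (S.e vH)⁻¹ := by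
      rw [hfin, ← map_inv S.e vH, ← map_mul, ← map_mul, hvx]
    calc (S.e vH)⁻¹ * w * S.e xH = (S.e vH)⁻¹ * (w * S.e xH * w⁻¹) * w := by group
      _ = S.e xH * ((S.e vH)⁻¹ * w) := by rw [e]; group
  obtain ⟨q, hq⟩ := hL.cent_x hvC
  have hqN : S.e q ∈ N := hCx q (S.inj (by
    rw [map_mul, map_mul, hq]; exact mem_centralizer_singleton_iff.1 hvC))
  have hvN : S.e vH ∈ N := by
    rw [show S.e vH = w * (S.e q)⁻¹ by rw [hq]; group]
    exact N.mul_mem hwN (N.inv_mem hqN)
  obtain ⟨k, hk, hk'⟩ := List.any_eq_true.mp tau_v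
  obtain ⟨c, hc⟩ := exists_conj_code (a := vH) hk
  rw [show τH = c * vH * c⁻¹ from (enc_eq (hc.trans (beq_iff_eq.mp hk'))).symm, map_mul, map_mul,
    map_inv]
  exact hN.conj_mem _ hvN _

/-- The special set has trivial intersections with its conjugates. -/
theorem ti_inD (hL : Local S) (hz : centralizer ({S.e zH} : Set G) ≤ S.e.range) :
    ∀ h : Hm, InD h → ∀ g : G, (∃ k : Hm, InD k ∧ g * S.e h * g⁻¹ = S.e k) → g ∈ S.e.range := by
  rintro h hh g ⟨k, hk, hgk⟩
  have hsing : ∀ a : Hm, InD a → (a ^ 12 = 1 → InJ (a ^ 4) ∧ a ^ 4 ≠ 1) ∧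
      (a ^ 12 ≠ 1 → InJ (a ^ 12)) := by
    intro a ha
    have hr := List.all_eq_true.mp singular _ (enc_mem_KL a.2)
    have e4 : (cpow (enc (a : P9)) 4 == idc) = false := by
      rw [beq_eq_false_iff_ne, ← Cfsg.Agent.S3702.enc_pow, ← Cfsg.Agent.S3702.enc_one]
      exact fun e => ha.1 (Cfsg.Agent.S3702.enc_injective e)
    have e3 : (cpow (enc (a : P9)) 3 == idc && !inJ (enc (a : P9))) = false := by
      rw [Bool.eq_false_iff]
      intro e
      simp only [Bool.and_eq_true, beq_iff_eq, Bool.not_eq_true'] at e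
      refine ha.2 ⟨Cfsg.Agent.S3702.enc_injective ?_, fun hJ => ?_⟩
      · rw [Cfsg.Agent.S3702.enc_pow, e.1, Cfsg.Agent.S3702.enc_one]
      · rw [(inJ_iff_InJ a).2 hJ] at e
        simp at e
    rw [e4, e3, Bool.false_or, Bool.false_or, ← enc_hpow, ← enc_hpow] at hr
    simp only [Bool.or_eq_true, Bool.and_eq_true, beq_iff_eq, Bool.not_eq_true',
      beq_eq_false_iff_ne] at hr
    constructor
    · intro h12
      rcases hr with ⟨-, h⟩ | ⟨h, -⟩
      · exact ⟨(inJ_iff_InJ _).1 h, fun e => ha.1 (congrArg Subtype.val e)⟩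
      · exact absurd (by rw [h12, OneMemClass.coe_one, Cfsg.Agent.S3702.enc_one]) h
    · intro h12
      rcases hr with ⟨h, -⟩ | ⟨-, h⟩
      · exact absurd (enc_eq (by rw [h, OneMemClass.coe_one, Cfsg.Agent.S3702.enc_one])) h12
      · exact (inJ_iff_InJ _).1 h
  have hp : ∀ n : ℕ, g * S.e (h ^ n) * g⁻¹ = S.e (k ^ n) := fun n => by
    rw [map_pow, map_pow, ← hgk, conj_pow]
  have key : ∀ a b : Hm, InJ a → a ≠ 1 → InJ b → g * S.e a * g⁻¹ = S.e b → g ∈ S.e.range := by
    intro a b ha ha1 hb hab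
    obtain ⟨c, hc⟩ := isConj_iff.1 (hL.fusion a b ha hb (isConj_iff.2 ⟨g, hab⟩))
    have hm : (S.e c)⁻¹ * g ∈ S.e.range := by
      refine cent_J_elem S hL hz ha ha1 (mem_centralizer_singleton_iff.2 ?_)
      have e : g * S.e a * g⁻¹ = S.e c * S.e a * (S.e c)⁻¹ := by
        rw [hab, ← hc, map_mul, map_mul, map_inv]
      calc (S.e c)⁻¹ * g * S.e a = (S.e c)⁻¹ * (g * S.e a * g⁻¹) * g := by group
        _ = S.e a * ((S.e c)⁻¹ * g) := by rw [e]; group
    simpa using mul_mem (⟨c, rfl⟩ : S.e c ∈ S.e.range) hm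
  by_cases h12 : h ^ 12 = 1
  · have k12 : k ^ 12 = 1 := S.inj (by rw [← hp, h12, map_one, mul_one, mul_inv_cancel])
    exact key _ _ ((hsing h hh).1 h12).1 ((hsing h hh).1 h12).2 ((hsing k hk).1 k12).1 (hp 4)
  · have k12 : k ^ 12 ≠ 1 := fun e => h12 (S.inj (by
      have h1 := hp 12
      rw [e, map_one, mul_inv_eq_one, mul_eq_left] at h1
      rw [h1, map_one]))
    exact key _ _ ((hsing h hh).2 h12) h12 ((hsing k hk).2 k12) (hp 12)

end CfsgLib.ANineThree.CaseC
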