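import Cfsg.Agent.Lib.ANineThree.CaseB
import Cfsg.Agent.Lib.ANineThree.CaseCDefs

/-!
The fused local case: the involutions of the model and the special set.
-/

set_option autoImplicit false
set_option maxRecDepth 100000

namespace CfsgLib.ANineThree.CaseC

open Equiv
open CfsgLib.CubeSFour (comp idc cpow cconj KL)
open Cfsg.Agent.S3702 (enc Kgrp)

theorem invol_reps : KL.all (fun a => !(cpow a 2 == idc) || a == idc ||
    KL.any (fun k => cconj k (enc t) == a || cconj k (enc τ) == a)) = true := by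
  decide +kernel

theorem fix_reps : fixCard tH = 5 ∧ fixCard τH = 1 ∧ (tH : P9) * tH = 1 ∧ (τH : P9) * τH = 1 := by
  decide +kernel

theorem fixCard_conj (c a : Hm) : fixCard (c * a * c⁻¹) = fixCard a := by
  refine Finset.card_bij' (fun i _ => (c : P9)⁻¹ i) (fun i _ => (c : P9) i) ?_ ?_ ?_ ?_
  · intro i hi
    have h : ((c : P9) * (a : P9) * (c : P9)⁻¹) i = i := (Finset.mem_filter.1 hi).2
    refine Finset.mem_filter.2 ⟨Finset.mem_univ _, ?_⟩
    simp only [Perm.mul_apply] at h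
    exact Perm.eq_inv_iff_eq.2 h
  · intro i hi
    refine Finset.mem_filter.2 ⟨Finset.mem_univ _, ?_⟩
    show ((c : P9) * (a : P9) * (c : P9)⁻¹) ((c : P9) i) = (c : P9) i
    simp [Perm.mul_apply, (Finset.mem_filter.1 hi).2]
  · intro i _
    simp
  · intro i _
    simp

theorem invol_cases : ∀ v : Hm, v * v = 1 →
    v = 1 ∨ (InvCls 0 v ∧ IsConj tH v) ∨ (InvCls 1 v ∧ IsConj τH v) := by
  intro v hv
  have hv' : (v : P9) * (v : P9) = 1 := congrArg Subtype.val hv
  have h := List.all_eq_true.mp invol_reps _ (CaseB.enc_mem_KL v.2)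
  rw [← Cfsg.Agent.S3702.enc_pow, pow_two, hv', Cfsg.Agent.S3702.enc_one, beq_self_eq_true,
    Bool.not_true, Bool.false_or, Bool.or_eq_true] at h
  rcases h with h | h
  · rw [beq_iff_eq, ← Cfsg.Agent.S3702.enc_one] at h
    exact Or.inl (Subtype.ext (Cfsg.Agent.S3702.enc_injective h))
  · obtain ⟨k, hk, hk'⟩ := List.any_eq_true.mp h
    rw [Bool.or_eq_true, beq_iff_eq, beq_iff_eq] at hk'
    right
    rcases hk' with e | e
    · obtain ⟨c, hc⟩ := CaseB.exists_conj_code (a := tH) hk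
      have hcv : c * tH * c⁻¹ = v :=
        Subtype.ext (Cfsg.Agent.S3702.enc_injective (hc.trans e))
      refine Or.inl ⟨⟨hv', ?_⟩, isConj_iff.2 ⟨c, hcv⟩⟩
      rw [← hcv, fixCard_conj, fix_reps.1]
      rfl
    · obtain ⟨c, hc⟩ := CaseB.exists_conj_code (a := τH) hk
      have hcv : c * τH * c⁻¹ = v :=
        Subtype.ext (Cfsg.Agent.S3702.enc_injective (hc.trans e))
      refine Or.inr ⟨⟨hv', ?_⟩, isConj_iff.2 ⟨c, hcv⟩⟩
      rw [← hcv, fixCard_conj, fix_reps.2.1]
      rfl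

theorem inD_inv : ∀ h : Hm, InD h → InD h⁻¹ := by
  rintro h ⟨h4, h3⟩
  refine ⟨?_, ?_⟩
  · rwa [Subgroup.coe_inv, inv_pow, ne_eq, inv_eq_one]
  · rintro ⟨he, hn⟩
    rw [Subgroup.coe_inv, inv_pow, inv_eq_one] at he
    refine h3 ⟨he, fun hJ => hn ⟨?_, fun i => ?_⟩⟩
    · rw [Subgroup.coe_inv, inv_pow, he, inv_one]
    · have hb := hJ.2 ((h : P9)⁻¹ i)
      rw [← Perm.mul_apply, mul_inv_cancel, Perm.one_apply] at hb
      rw [Subgroup.coe_inv]
      exact hb.symm

end CfsgLib.ANineThree.CaseC
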