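import Cfsg.Agent.Lib.ANineThree.CaseCGroup
import Cfsg.Agent.Lib.ANineThree.CaseCFusion
import Cfsg.Agent.Lib.ANineThree.CaseCInvol
import Cfsg.Agent.Lib.ThreeLocalChars.Tools

/-!
The local case with fused classes does not occur, given the virtual characters of the model.
-/

set_option autoImplicit false

namespace CfsgLib.ANineThree

open Cfsg Subgroup

universe u

/-- The fused local case does not occur. -/
theorem case_c_of (hmodel : CaseC.StmtModel) : StmtCaseC.{u} := by
  intro G _ _ S hL hz hf
  obtain ⟨χ, ht, hu⟩ := CaseC.exists_separating S hmodel CaseC.invol_cases CaseC.inD_inv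
    (CaseC.ti_inD S hL hz) (CaseC.not_isConj_invol S hL hz)
  obtain ⟨N, hN, hmem⟩ := CfsgLib.ThreeLocalChars.exists_kernel χ
  exact hu ((hmem _).1 (CaseC.mem_normal S hL hf N hN ((hmem _).2 ht)))

end CfsgLib.ANineThree
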