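import Mathlib

/-!
The fused local case: the arithmetic of the six virtual characters.

`ι` stands for the irreducible characters, `deg` for the degrees, `a` and `b` for the values at
the two classes of involutions divided by the degree, minus one.  Six integer vectors with the
given inner products whose weighted power sums are the given ones force an irreducible character
of degree two which is trivial on the first class and not on the second.
-/

set_option autoImplicit false
set_option linter.unusedSectionVars false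

namespace CfsgLib.ANineThree.CaseC

/-- An integer vector with sum of squares at most three on a set is signed there. -/
theorem small_sum_sq {ι : Type*} {s : Finset ι} {c : ι → ℤ} {n : ℤ} (hn : n ≤ 3)
    (h : ∑ x ∈ s, c x * c x = n) :
    (∀ x ∈ s, c x ≠ 0 → c x = 1 ∨ c x = -1) ∧
      (((s.filter fun x => c x ≠ 0).card : ℤ) = n) := by
  classical
  have h1 : ∀ x ∈ s, c x ≠ 0 → c x = 1 ∨ c x = -1 := by
    intro x hx h0
    have hle : c x * c x ≤ 3 :=
      le_trans (Finset.single_le_sum (fun i _ => mul_self_nonneg (c i)) hx) (h ▸ hn)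
    have h5 : -1 ≤ c x := by nlinarith
    have h6 : c x ≤ 1 := by nlinarith
    omega
  refine ⟨h1, ?_⟩
  rw [← h, ← Finset.sum_filter_of_ne (p := fun x => c x ≠ 0)
    (fun x _ hne h0 => hne (by rw [h0, mul_zero])), Finset.card_eq_sum_ones]
  push_cast
  refine Finset.sum_congr rfl fun x hx => ?_
  obtain ⟨hx, h0⟩ := Finset.mem_filter.1 hx
  rcases h1 x hx h0 with e | e <;> rw [e] <;> norm_num

/-- The number of terms of a signed sum has the parity of the sum. -/
theorem sign_sum_parity {ι : Type*} {s : Finset ι} {e : ι → ℤ}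
    (h : ∀ x ∈ s, e x = 1 ∨ e x = -1) : (∑ x ∈ s, e x) % 2 = (s.card : ℤ) % 2 := by
  classical
  induction s using Finset.induction_on with
  | empty => simp
  | insert x t hx ih =>
    rw [Finset.sum_insert hx, Finset.card_insert_of_notMem hx]
    have := ih fun y hy => h y (Finset.mem_insert_of_mem hy)
    push_cast
    rcases h x (Finset.mem_insert_self x t) with e' | e' <;> rw [e'] <;> omega

/-- Three weights of sum zero with vanishing first and second power sums carry equal values. -/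
theorem all_eq_of_power_sums {w₁ w₂ w₃ x₁ x₂ x₃ : ℚ} (h1 : w₁ ≠ 0) (h2 : w₂ ≠ 0) (h3 : w₃ ≠ 0)
    (hw : w₁ + w₂ + w₃ = 0) (hl : w₁ * x₁ + w₂ * x₂ + w₃ * x₃ = 0)
    (hq : w₁ * x₁ * x₁ + w₂ * x₂ * x₂ + w₃ * x₃ * x₃ = 0) : x₁ = x₃ ∧ x₂ = x₃ := by
  have e1 : w₁ * w₂ * (x₁ - x₂) * (x₁ - x₂) = 0 := by
    have e2 : w₃ = -(w₁ + w₂) := by linarith
    subst e2
    linear_combination (w₁ + w₂) * hq - (w₁ * x₁ + w₂ * x₂ + (w₁ + w₂) * x₃) * hl
  have e3 : x₁ = x₂ := by
    rcases mul_eq_zero.1 e1 with e | e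
    · rcases mul_eq_zero.1 e with e' | e'
      · exact absurd e' (mul_ne_zero h1 h2)
      · exact sub_eq_zero.1 e'
    · exact sub_eq_zero.1 e
  subst e3
  have e4 : w₃ * (x₃ - x₁) = 0 := by linear_combination hl - x₁ * hw
  have e5 := sub_eq_zero.1 ((mul_eq_zero.1 e4).resolve_left h3)
  exact ⟨e5.symm, e5.symm⟩

/-- The second combination `(4a)`. -/
theorem combA {B A A' E : ℤ} {P Q Z α α' m l β : ℚ} (hE : E ≠ 0) (hP : P ≠ 0) (hQ : Q ≠ 0)
    (hZ : Z * Z = P * Q) (hw : (B : ℚ) + A + A' = 0) (hw8 : (A' : ℚ) + E - A = 1)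
    (la : (B : ℚ) * m + A * α + A' * α' = 0) (la8 : (A' : ℚ) * α' + E * m - A * α = 0)
    (lb8 : (A' : ℚ) * l + E * β - A * l = 0)
    (qt : (B : ℚ) * m * m + A * α * α + A' * α' * α' = 3 * P)
    (qt8 : (A' : ℚ) * α' * α' + E * m * m - A * α * α = -3 / 2 * P)
    (qtu8 : (A' : ℚ) * α' * l + E * m * β - A * α * l = -3 / 2 * Z)
    (quu8 : (A' : ℚ) * l * l + E * β * β - A * l * l = -9 / 2 * Q) : False := by
  have hEq : (E : ℚ) ≠ 0 := by exact_mod_cast hE
  have hml : m * l = 3 / 2 * Z := by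
    linear_combination (-1) * qtu8 + l * la8 + m * lb8 - m * l * hw8
  have huu : (1 - (E : ℚ)) * l * l = -9 / 2 * Q * E := by
    linear_combination (E : ℚ) * quu8 + ((1 - (E : ℚ)) * l - E * β) * lb8
      - l * l * hw8 + (E : ℚ) * l * β * hw8
  have hEm : 2 * (E : ℚ) * m * m = P * (E - 1) := by
    apply mul_left_cancel₀ hQ
    linear_combination (4 / 9 : ℚ) * m * m * huu
      - (4 / 9 : ℚ) * (1 - (E : ℚ)) * (m * l + 3 / 2 * Z) * hml - (1 - (E : ℚ)) * hZ
  set D : ℚ := (E : ℚ) - B with hD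
  have h2A : 2 * (A : ℚ) = D - 1 := by rw [hD]; linear_combination hw - hw8
  have h2Aα : 2 * (A : ℚ) * α = D * m := by rw [hD]; linear_combination la - la8
  have h2Aα2 : 2 * (A : ℚ) * α * α = 9 / 2 * P + D * m * m := by
    rw [hD]; linear_combination qt - qt8
  have hDm : D * m * m = 9 / 2 * P * (D - 1) := by
    linear_combination (-(2 * (A : ℚ) * α + D * m)) * h2Aα
      + 2 * (A : ℚ) * h2Aα2 + (9 / 2 * P + D * m * m) * h2A
  have key : D * (8 * E + 1) = 9 * E := by
    apply mul_left_cancel₀ hP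
    linear_combination (-2 : ℚ) * (E : ℚ) * hDm + D * hEm
  have hint : (8 * E + 1) * (9 - 8 * (E - B)) = 9 := by
    have : ((8 * E + 1) * (9 - 8 * (E - B)) : ℚ) = 9 := by
      rw [← hD]; linear_combination (-8 : ℚ) * key
    exact_mod_cast this
  have hdvd : (8 * E + 1) ∣ 9 := ⟨_, hint.symm⟩
  have hle : 8 * E + 1 ≤ 9 := Int.le_of_dvd (by norm_num) hdvd
  have hge : -9 ≤ 8 * E + 1 := by
    have := Int.le_of_dvd (by norm_num) (neg_dvd.2 hdvd)
    omega
  obtain rfl | rfl : E = 1 ∨ E = -1 := by omega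
  · push_cast at huu
    rw [show (1 - (1 : ℚ)) = 0 by norm_num, zero_mul, zero_mul] at huu
    exact hQ (by linarith)
  · omega

/-- The second combination `(4b)`. -/
theorem combB {B A A' E : ℤ} {P Q Z α α' m l β : ℚ} (hE : E ≠ 0) (hP : P ≠ 0) (hQ : Q ≠ 0)
    (hZ : Z * Z = P * Q) (hw : (B : ℚ) + A + A' = 0) (hw5 : (A : ℚ) + E - A' = 1)
    (la : (B : ℚ) * m + A * α + A' * α' = 0) (la5 : (A : ℚ) * α + E * m - A' * α' = 0)
    (lb5 : (A : ℚ) * l + E * β - A' * l = 0)
    (qt : (B : ℚ) * m * m + A * α * α + A' * α' * α' = 3 * P)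
    (qt5 : (A : ℚ) * α * α + E * m * m - A' * α' * α' = 0)
    (qtu5 : (A : ℚ) * α * l + E * m * β - A' * α' * l = -3 * Z)
    (quu5 : (A : ℚ) * l * l + E * β * β - A' * l * l = -3 * Q) : False := by
  have hEq : (E : ℚ) ≠ 0 := by exact_mod_cast hE
  have hml : m * l = 3 * Z := by
    linear_combination (-1) * qtu5 + l * la5 + m * lb5 - m * l * hw5
  have huu : (1 - (E : ℚ)) * l * l = -3 * Q * E := by
    linear_combination (E : ℚ) * quu5 + ((1 - (E : ℚ)) * l - E * β) * lb5
      - l * l * hw5 + (E : ℚ) * l * β * hw5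
  have hEm : (E : ℚ) * m * m = 3 * P * (E - 1) := by
    apply mul_left_cancel₀ hQ
    linear_combination (1 / 3 : ℚ) * m * m * huu
      - (1 / 3 : ℚ) * (1 - (E : ℚ)) * (m * l + 3 * Z) * hml - 3 * (1 - (E : ℚ)) * hZ
  set S : ℚ := (B : ℚ) + E with hS
  have h2A : 2 * (A : ℚ) = 1 - S := by rw [hS]; linear_combination hw + hw5
  have h2Aα : 2 * (A : ℚ) * α = -(S * m) := by rw [hS]; linear_combination la + la5
  have h2Aα2 : 2 * (A : ℚ) * α * α = 3 * P - S * m * m := by
    rw [hS]; linear_combination qt + qt5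
  have hSm : S * m * m = 3 * P * (1 - S) := by
    linear_combination (-(2 * (A : ℚ) * α - S * m)) * h2Aα
      + 2 * (A : ℚ) * h2Aα2 + (3 * P - S * m * m) * h2A
  have key : S * (2 * E - 1) = E := by
    apply mul_left_cancel₀ (mul_ne_zero (by norm_num : (3 : ℚ) ≠ 0) hP)
    linear_combination (E : ℚ) * hSm - S * hEm
  have hint : (2 * E - 1) * (2 * (B + E) - 1) = 1 := by
    have : ((2 * E - 1) * (2 * (B + E) - 1) : ℚ) = 1 := by
      rw [← hS]; linear_combination (2 : ℚ) * key
    exact_mod_cast this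
  rcases Int.eq_one_or_neg_one_of_mul_eq_one hint with e | e
  · obtain rfl : E = 1 := by omega
    push_cast at huu
    rw [show (1 - (1 : ℚ)) = 0 by norm_num, zero_mul, zero_mul] at huu
    exact hQ (by linarith)
  · exact hE (by omega)

/-- The principal combination. -/
theorem combMain {B A A' E H H' C : ℚ} {P Q Z α α' m l β h k h' k' γ : ℚ}
    (hA : A ≠ 0) (hE : E ≠ 0) (hB : B ≠ 0) (hH : H ≠ 0) (hH' : H' ≠ 0) (hC : C ≠ 0)
    (hP : P ≠ 0) (hQ : Q ≠ 0) (hZ : Z * Z = P * Q)
    (hw5 : A + E + H = 1) (hw8 : A - E + H' = 1) (hwf : B + A + A' = 0) (hwg : B - E + C = 0)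
    (la5 : A * α + E * m + H * h = 0) (lb5 : A * l + E * β + H * k = 0)
    (tt5 : A * α * α + E * m * m + H * h * h = 0)
    (tu5 : A * α * l + E * m * β + H * h * k = -3 * Z)
    (uu5 : A * l * l + E * β * β + H * k * k = -3 * Q)
    (la8 : A * α - E * m + H' * h' = 0) (lb8 : A * l - E * β + H' * k' = 0)
    (tt8 : A * α * α - E * m * m + H' * h' * h' = -3 / 2 * P)
    (tu8 : A * α * l - E * m * β + H' * h' * k' = -3 / 2 * Z)
    (uu8 : A * l * l - E * β * β + H' * k' * k' = -9 / 2 * Q)
    (laf : B * m + A * α + A' * α' = 0)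
    (ttf : B * m * m + A * α * α + A' * α' * α' = 3 * P)
    (lbg : B * l - E * β + C * γ = 0)
    (uug : B * l * l - E * β * β + C * γ * γ = -3 * Q) :
    A' = 2 ∧ α' = 0 ∧ l ≠ 0 := by
  -- eliminating the third terms
  have T5 : H * (A * α * α + E * m * m) + (A * α + E * m) * (A * α + E * m) = 0 := by
    linear_combination H * tt5 + (A * α + E * m - H * h) * la5
  have M5 : H * (A * α * l + E * m * β) + (A * α + E * m) * (A * l + E * β) = -3 * Z * H := by
    linear_combination H * tu5 + (A * α + E * m) * lb5 - H * k * la5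
  have U5 : H * (A * l * l + E * β * β) + (A * l + E * β) * (A * l + E * β) = -3 * Q * H := by
    linear_combination H * uu5 + (A * l + E * β - H * k) * lb5
  have T8 : H' * (A * α * α - E * m * m) + (A * α - E * m) * (A * α - E * m) =
      -3 / 2 * P * H' := by
    linear_combination H' * tt8 + (A * α - E * m - H' * h') * la8
  have M8 : H' * (A * α * l - E * m * β) + (A * α - E * m) * (A * l - E * β) =
      -3 / 2 * Z * H' := by
    linear_combination H' * tu8 + (A * α - E * m) * lb8 - H' * k' * la8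
  have U8 : H' * (A * l * l - E * β * β) + (A * l - E * β) * (A * l - E * β) =
      -9 / 2 * Q * H' := by
    linear_combination H' * uu8 + (A * l - E * β - H' * k') * lb8
  -- the two determinants
  have hH5 : H = 1 - A - E := by linarith
  have hH8 : H' = 1 - A + E := by linarith
  have D5 : A * E * (α * β - m * l) * (α * β - m * l) = -9 * P * Q * H := by
    apply mul_left_cancel₀ hH
    have e : H * (A * E * (α * β - m * l) * (α * β - m * l)) * (A + E + H) =
        0 * (-3 * Q * H) - (-3 * Z * H) * (-3 * Z * H) := by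
      rw [← T5, ← M5, ← U5]; ring
    rw [hw5] at e
    linear_combination e - 9 * H * H * hZ
  have D8 : A * E * (α * β - m * l) * (α * β - m * l) = -9 / 2 * P * Q * H' := by
    apply mul_left_cancel₀ hH'
    have e : H' * (A * (-E) * (α * β - m * l) * (α * β - m * l)) * (A + -E + H') =
        (-3 / 2 * P * H') * (-9 / 2 * Q * H') - (-3 / 2 * Z * H') * (-3 / 2 * Z * H') := by
      rw [← T8, ← M8, ← U8]; ring
    rw [show A + -E + H' = 1 by linarith] at e
    linear_combination (-1 : ℚ) * e + 9 / 4 * H' * H' * hZ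
  have hH2 : H' = 2 * H := by
    apply mul_left_cancel₀ (mul_ne_zero hP hQ)
    linear_combination (2 / 9 : ℚ) * D8 - (2 / 9 : ℚ) * D5
  have hAE : A + 3 * E = 1 := by linarith
  have hA' : A = 1 - 3 * E := by linarith
  have hHE : H = 2 * E := by linarith
  have hHE' : H' = 4 * E := by linarith
  rw [hHE] at T5 M5 U5
  rw [hHE'] at T8 M8 U8
  have hAa : A * α * α = -3 * E * P := by
    apply mul_left_cancel₀ (by norm_num : (4 : ℚ) ≠ 0)
    rw [hA'] at T5 T8 ⊢
    linear_combination 2 * T5 + 2 * T8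
  have hAl : A * l * l = -12 * E * Q := by
    apply mul_left_cancel₀ (by norm_num : (4 : ℚ) ≠ 0)
    rw [hA'] at U5 U8 ⊢
    linear_combination 2 * U5 + 2 * U8
  have hAal : A * α * l = -6 * E * Z := by
    apply mul_left_cancel₀ (by norm_num : (4 : ℚ) ≠ 0)
    rw [hA'] at M5 M8 ⊢
    linear_combination 2 * M5 + 2 * M8
  have hα : α ≠ 0 := by
    rintro rfl
    exact mul_ne_zero (mul_ne_zero (by norm_num : (-3 : ℚ) ≠ 0) hE) hP
      (by linear_combination (-1 : ℚ) * hAa)
  have hl : l ≠ 0 := by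
    rintro rfl
    exact mul_ne_zero (mul_ne_zero (by norm_num : (-12 : ℚ) ≠ 0) hE) hQ
      (by linear_combination (-1 : ℚ) * hAl)
  -- the parameter
  obtain ⟨μ, rfl⟩ : ∃ μ, m = μ * α := ⟨m / α, by field_simp⟩
  obtain ⟨ν, rfl⟩ : ∃ ν, β = ν * l / 2 := ⟨2 * β / l, by field_simp⟩
  obtain ⟨σ, hσ⟩ : ∃ σ, σ = 3 * E * μ + A := ⟨_, rfl⟩
  have hσ2 : σ * σ = -2 * A := by
    apply mul_left_cancel₀ (mul_ne_zero hα hα)
    rw [hσ, hA'] at *
    linear_combination (3 : ℚ) * T5
  have hσ0 : σ ≠ 0 := by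
    rintro rfl
    exact hA (by linarith)
  have hν : 3 * E * ν + 2 * A = -σ := by
    have e : -2 * A + σ * (3 * E * ν + 2 * A) = 0 := by
      apply mul_left_cancel₀ (mul_ne_zero hα hl)
      rw [hσ, hA'] at *
      linear_combination (6 : ℚ) * M5 - (6 : ℚ) * hAal
    have e2 : σ * (3 * E * ν + 2 * A + σ) = 0 := by linear_combination e + hσ2
    linear_combination (mul_eq_zero.1 e2).resolve_left hσ0
  have Ef : B * (σ - 1) * (σ - 1) = 9 * E * A' := by
    apply mul_left_cancel₀ (mul_ne_zero hA (mul_ne_zero hα hα))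
    have T : A' * (B * (μ * α) * (μ * α) + A * α * α) + (B * (μ * α) + A * α) *
        (B * (μ * α) + A * α) = 3 * P * A' := by
      linear_combination A' * ttf + (B * (μ * α) + A * α - A' * α') * laf
    have e1 : σ - 1 = 3 * E * (μ - 1) := by linear_combination hσ + hAE
    rw [e1]
    have e2 : A' = -(A + B) := by linarith
    rw [e2] at T ⊢
    linear_combination (-9 * E * E) * T + (-9 * E) * (-(A + B)) * hAa
  have Eg : B * (σ + 2) * (σ + 2) = 9 * A * C := by
    apply mul_left_cancel₀ (mul_ne_zero hl hl)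
    have T : C * (B * l * l - E * (ν * l / 2) * (ν * l / 2)) +
        (B * l - E * (ν * l / 2)) * (B * l - E * (ν * l / 2)) = -3 * Q * C := by
      linear_combination C * uug + (B * l - E * (ν * l / 2) - C * γ) * lbg
    have e1 : σ + 2 = -3 * E * (ν - 2) := by linear_combination hν - 2 * hAE
    rw [e1]
    have e2 : C = E - B := by linarith
    rw [e2] at T ⊢
    linear_combination (36 * E) * T - 9 * (E - B) * hAl
  have hq : σ * σ - 2 * σ - 8 = 0 := by
    have e : B * ((σ + 2) * (σ + 2) + (σ - 1) * (σ - 1) + 9 * A + 9 * E) = 0 := by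
      linear_combination Eg + Ef + 9 * E * hwf + 9 * A * hwg
    have e' := (mul_eq_zero.1 e).resolve_left hB
    linear_combination (-1 : ℚ) * e' + 3 * hσ2 + 3 * hAE
  have : (σ - 4) * (σ + 2) = 0 := by linear_combination hq
  rcases mul_eq_zero.1 this with h4 | h2
  · have hs : σ = 4 := by linarith
    rw [hs] at hσ hσ2 Ef
    have hA8 : A = -8 := by linarith
    have hE3 : E = 3 := by linarith
    subst hA8 hE3
    have hB6 : B = 6 := by linarith
    subst hB6
    have hA'2 : A' = 2 := by linarith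
    subst hA'2
    refine ⟨rfl, ?_, hl⟩
    have hμ : μ = 4 / 3 := by linarith
    subst hμ
    linarith
  · have hs : σ = -2 := by linarith
    rw [hs] at Eg
    exact absurd ((mul_eq_zero.1 (show A * C = 0 by linear_combination (-1 / 9 : ℚ) * Eg))
      |>.resolve_left hA) hC

end CfsgLib.ANineThree.CaseC
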