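import Cfsg.Agent.Lib.ANineThree.CaseCCode

/-!
The kernel checks for the six virtual characters of the local model.
-/

set_option autoImplicit false
set_option linter.unusedSectionVars false
set_option linter.style.haveILetI false
set_option maxRecDepth 100000

namespace CfsgLib.ANineThree.CaseC

open Equiv Subgroup Cfsg CfsgLib.Chars
open scoped ComplexConjugate

/-- The row of a code. -/
def look : Tr → Nat → Nat × Nat × Nat
  | .leaf, _ => (99, 0, 1099511627775)
  | .node l c a w e r, m =>
    bif Nat.blt m c then look l m else bif Nat.blt c m then look r m else (a, w, e)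

/-- The class. -/
def clsC (m : Nat) : Nat := (look tab m).1

/-- The conjugator. -/
def witC (m : Nat) : Nat := (look tab m).2.1

/-- The exponent of a linear character, fifteen outside its domain. -/
def expC (t m : Nat) : Nat := Nat.mod (Nat.shiftRight (look tab m).2.2 (Nat.mul 4 t)) 16

/-- The representative of a class. -/
def repC (c : Nat) : Nat := reps.getD c 0

/-- The coordinate ring. -/
abbrev V4 := ℤ × ℤ × ℤ × ℤ

/-- The powers of the root of unity in coordinates. -/
def zpowT : List V4 :=
  [(1, 0, 0, 0), (0, 1, 0, 0), (0, 0, 1, 0), (0, 0, 0, 1), (-1, 0, 1, 0), (0, -1, 0, 1),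
    (-1, 0, 0, 0), (0, -1, 0, 0), (0, 0, -1, 0), (0, 0, 0, -1), (1, 0, -1, 0), (0, 1, 0, -1)]

/-- A value of a linear character. -/
def zvC (t m : Nat) : V4 := zpowT.getD (expC t m) 0

/-- An unnormalized induced value. -/
def indL : List Nat → Nat → Nat → V4
  | [], _, _ => 0
  | x :: l, t, r => zvC t (mulC (mulC (invC x) r) x) + indL l t r

/-- The indices of the linear characters. -/
def idxs : List Nat := List.range 10

/-- The indices of the subgroups. -/
def multT : List ℤ := [6, 6, 6, 12, 8, 8, 2, 3, 4, 4]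

/-- The coefficients. -/
def coefT : Fin 6 → List ℤ :=
  ![[0, 0, 0, 0, -1, 1, 0, 0, 0, 0], [0, 1, -1, 0, 0, 0, 0, 0, 0, 0],
    [0, 0, 1, 0, -1, 0, 0, 1, 0, 0], [0, 0, 1, 0, 0, 0, 1, 0, -1, -1],
    [1, 0, 0, 0, -1, 0, 0, 0, 1, 0], [0, 0, 0, 1, -1, 0, 0, 0, -1, 0]]

/-- The constant parts. -/
def cstT : Fin 6 → ℤ := ![0, 0, -1, 0, -2, 0]

/-- The value at a code. -/
def valC (i : Fin 6) (m : Nat) : ℤ × ℤ := (valT.getD i.1 []).getD (clsC m) (0, 0)

/-- The number of pairs at a code. -/
def pairC (k l : Fin 2) (m : Nat) : Nat := (pairT.getD (2 * k.1 + l.1) []).getD (clsC m) 0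

theorem tab_check : L.all (fun m => L.any (Nat.beq (witC m)) && L.any (Nat.beq (repC (clsC m))) &&
    Nat.blt (clsC m) 14 &&
    Nat.beq (mulC (mulC (witC m) (repC (clsC m))) (invC (witC m))) m) = true := by decide +kernel

theorem reps_cls : (List.range 14).all (fun c => Nat.beq (clsC (repC c)) c) = true := by
  decide +kernel

theorem hom_check : ∀ t ∈ idxs,
    (let S := L.filter fun m => Nat.blt (expC t m) 12
     Nat.beq (expC t oneC) 0 &&
      S.all fun a => Nat.blt (expC t (invC a)) 12 &&
        S.all fun b => Nat.beq (expC t (mulC a b)) (Nat.mod (Nat.add (expC t a) (expC t b)) 12)) =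
      true := by decide +kernel

theorem exp_check : ∀ t ∈ idxs, L.all (fun m => Nat.blt (expC t m) 12 || Nat.beq (expC t m) 15) =
    true ∧ (multT.getD t 0) * ((L.filter fun m => Nat.blt (expC t m) 12).length : ℤ) = 648 := by
  decide +kernel

theorem val_check : ∀ i : Fin 6, ∀ c ∈ List.range 14,
    (idxs.map fun t => (((coefT i).getD t 0) * (multT.getD t 0)) • indL L t (repC c)).sum +
      (648 * cstT i, 0, 0, 0) =
    (648 * (valC i (repC c)).1, 1296 * (valC i (repC c)).2, 0, -648 * (valC i (repC c)).2) := by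
  decide +kernel

theorem pair_check : ∀ k l : Fin 2, ∀ c ∈ List.range 14,
    L.countP (fun v => invClsC k v && invClsC l (mulC v (repC c))) = pairC k l (repC c) := by
  decide +kernel

theorem supp_check : ∀ i : Fin 6, L.all (fun m => inDC m || decide (valC i m = (0, 0))) = true := by
  decide +kernel

theorem gram_check : ∀ i j : Fin 6,
    (L.map fun m => (valC i m).1 * (valC j m).1 + 3 * ((valC i m).2 * (valC j m).2)).sum =
      648 * gram i j ∧
    (L.map fun m => (valC i m).1 * (valC j m).2 + (valC i m).2 * (valC j m).1).sum = 0 := by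
  decide +kernel

theorem one_check : ∀ i : Fin 6, (L.map fun m => (valC i m).1).sum = 648 * principalPart i ∧
    (L.map fun m => (valC i m).2).sum = 0 := by decide +kernel

/-- Twice the weighted numbers of pairs. -/
def pairSum2 : Fin 6 → Fin 2 → Fin 2 → ℤ :=
  fun i k l => ![![0, 0, 0], ![0, 0, 0], ![6, 0, 0], ![0, 0, -6], ![0, -6, -6], ![-3, -3, -9]] i
    (if k = 0 ∧ l = 0 then 0 else if k = 1 ∧ l = 1 then 2 else 1)

theorem pairSum_check : ∀ i : Fin 6, ∀ k l : Fin 2,
    2 * (L.map fun m => (pairC k l m : ℤ) * (valC i m).1).sum = 648 * pairSum2 i k l ∧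
    (L.map fun m => (pairC k l m : ℤ) * (valC i m).2).sum = 0 := by decide +kernel

end CfsgLib.ANineThree.CaseC
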