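import Cfsg.Agent.Lib.ANineThree.CaseCDefs
import Cfsg.Agent.Lib.ANineThree.CaseCData

/-!
The local model as a list of coded permutations.
-/

set_option autoImplicit false
set_option linter.unusedSectionVars false
set_option maxRecDepth 100000

namespace CfsgLib.ANineThree.CaseC

open Equiv Subgroup

/-- The letter `n` of a code. -/
def getC (c n : Nat) : Nat := Nat.mod (Nat.shiftRight c (Nat.mul 4 n)) 16

/-- The code with given letters. -/
def pack (f : Nat → Nat) : Nat :=
  f 0 + f 1 * 16 + f 2 * 256 + f 3 * 4096 + f 4 * 65536 + f 5 * 1048576 + f 6 * 16777216 +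
    f 7 * 268435456 + f 8 * 4294967296

/-- The code of a product. -/
def mulC (a b : Nat) : Nat := pack fun n => getC a (getC b n)

/-- The code of an inverse. -/
def invC (a : Nat) : Nat :=
  Nat.shiftLeft 1 (Nat.mul 4 (getC a 1)) + Nat.shiftLeft 2 (Nat.mul 4 (getC a 2)) +
    Nat.shiftLeft 3 (Nat.mul 4 (getC a 3)) + Nat.shiftLeft 4 (Nat.mul 4 (getC a 4)) +
    Nat.shiftLeft 5 (Nat.mul 4 (getC a 5)) + Nat.shiftLeft 6 (Nat.mul 4 (getC a 6)) +
    Nat.shiftLeft 7 (Nat.mul 4 (getC a 7)) + Nat.shiftLeft 8 (Nat.mul 4 (getC a 8))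

/-- The code of the identity. -/
def oneC : Nat := pack id

theorem enc_exists : ∃ f : P9 → Nat,
    ∀ σ : P9, f σ = pack fun n => if h : n < 9 then (σ ⟨n, h⟩).1 else 0 :=
  ⟨_, fun _ => rfl⟩

/-- The code of a permutation, kept from being unfolded. -/
noncomputable def enc (σ : P9) : Nat := Classical.choose enc_exists σ

theorem enc_def (σ : P9) : enc σ = pack fun n => if h : n < 9 then (σ ⟨n, h⟩).1 else 0 :=
  Classical.choose_spec enc_exists σ

theorem getC_pack (f : Nat → Nat) (hf : ∀ n, f n < 16) {n : Nat} (hn : n < 9) :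
    getC (pack f) n = f n := by
  show (pack f >>> (4 * n)) % 16 = f n
  rw [Nat.shiftRight_eq_div_pow]
  have h0 := hf 0; have h1 := hf 1; have h2 := hf 2; have h3 := hf 3; have h4 := hf 4
  have h5 := hf 5; have h6 := hf 6; have h7 := hf 7; have h8 := hf 8
  unfold pack
  interval_cases n <;> norm_num <;> omega

theorem getC_enc (σ : P9) (i : Fin 9) : getC (enc σ) i = (σ i).1 := by
  rw [enc_def, getC_pack _ (fun n => ?_) i.2, dif_pos i.2]
  split
  · exact (σ _).2.trans (by norm_num)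
  · norm_num

theorem enc_inj {σ ρ : P9} (h : enc σ = enc ρ) : σ = ρ :=
  Equiv.ext fun i => Fin.ext (by rw [← getC_enc σ i, h, getC_enc])

theorem pack_congr {f g : Nat → Nat} (h : ∀ n < 9, f n = g n) : pack f = pack g := by
  simp only [pack, h 0 (by norm_num), h 1 (by norm_num), h 2 (by norm_num), h 3 (by norm_num),
    h 4 (by norm_num), h 5 (by norm_num), h 6 (by norm_num), h 7 (by norm_num), h 8 (by norm_num)]

theorem mulC_enc (σ ρ : P9) : mulC (enc σ) (enc ρ) = enc (σ * ρ) := by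
  rw [enc_def (σ * ρ)]
  refine pack_congr fun n hn => ?_
  rw [dif_pos hn, getC_enc ρ ⟨n, hn⟩, getC_enc σ]
  rfl

theorem invC_enc (σ : P9) : invC (enc σ) = enc σ⁻¹ := by
  have hp : ∀ ρ : P9, enc ρ = ∑ i : Fin 9, (ρ i).1 * 16 ^ i.1 := by
    intro ρ
    simp [enc_def, pack, Fin.sum_univ_succ]
    ring
  have hs : ∀ k n : Nat, Nat.shiftLeft k (Nat.mul 4 n) = k * 16 ^ n := by
    intro k n
    show k <<< (4 * n) = _
    rw [Nat.shiftLeft_eq, pow_mul]
    norm_num
  have hsum : ∑ i : Fin 9, (σ⁻¹ i).1 * 16 ^ i.1 = ∑ i : Fin 9, i.1 * 16 ^ (σ i).1 :=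
    (Fintype.sum_equiv σ (fun i : Fin 9 => i.1 * 16 ^ (σ i).1) _ fun i => by simp).symm
  rw [hp σ⁻¹, hsum]
  simp only [invC, hs, Fin.sum_univ_succ, Fin.sum_univ_zero, ← getC_enc σ]
  simp
  ring

/-- The permutations of the three blocks. -/
def blkP : Fin 6 → P9 :=
  let a : P9 := swap 0 3 * swap 1 4 * swap 2 5
  let b : P9 := swap 3 6 * swap 4 7 * swap 5 8
  ![1, a, b, a * b, b * a, a * b * a]

/-- The permutations inside a block. -/
def inP (k : Fin 3) : Fin 6 → P9 :=
  let a : P9 := ![swap 0 1, swap 3 4, swap 6 7] k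
  let b : P9 := ![swap 1 2, swap 4 5, swap 7 8] k
  ![1, a, b, a * b, b * a, a * b * a]

/-- The permutations of three letters, in the same order. -/
def perm3 : Fin 6 → Fin 3 → Fin 3 :=
  ![![0, 1, 2], ![1, 0, 2], ![0, 2, 1], ![1, 2, 0], ![2, 0, 1], ![2, 1, 0]]

/-- The parities, in the same order. -/
def par : Fin 6 → Nat := ![0, 1, 1, 0, 0, 1]

/-- A permutation respecting the blocks. -/
def mkP (i a b c : Fin 6) : P9 := blkP i * (inP 0 a * inP 1 b * inP 2 c)

/-- Its code. -/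
def mkC (i a b c : Fin 6) : Nat := pack fun n =>
  3 * (perm3 i ⟨n / 3 % 3, Nat.mod_lt _ (by norm_num)⟩).1 +
    (perm3 (if n / 3 = 0 then a else if n / 3 = 1 then b else c)
      ⟨n % 3, Nat.mod_lt _ (by norm_num)⟩).1

theorem mk_apply : ∀ i a b c : Fin 6, ∀ n : Fin 9, (mkP i a b c n).1 =
    3 * (perm3 i ⟨n.1 / 3 % 3, Nat.mod_lt _ (by norm_num)⟩).1 +
    (perm3 (if n.1 / 3 = 0 then a else if n.1 / 3 = 1 then b else c)
      ⟨n.1 % 3, Nat.mod_lt _ (by norm_num)⟩).1 := by decide +kernel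

theorem enc_mkP (i a b c : Fin 6) : enc (mkP i a b c) = mkC i a b c := by
  rw [enc_def]
  refine pack_congr fun n hn => ?_
  rw [dif_pos hn, mk_apply i a b c ⟨n, hn⟩]

theorem sign_parts : ∀ i : Fin 6, Perm.sign (blkP i) = (-1) ^ par i ∧
    ∀ k : Fin 3, Perm.sign (inP k i) = (-1) ^ par i := by decide +kernel

theorem sign_mkP (i a b c : Fin 6) :
    Perm.sign (mkP i a b c) = 1 ↔ Even (par i + par a + par b + par c) := by
  rw [mkP, map_mul, map_mul, map_mul, (sign_parts i).1, (sign_parts a).2, (sign_parts b).2,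
    (sign_parts c).2, ← pow_add, ← pow_add, ← pow_add, neg_one_pow_eq_one_iff_even (by decide),
    ← add_assoc, ← add_assoc]

theorem perm3_surj : ∀ q : Fin 3 → Fin 3, (∀ x y, q x = q y → x = y) → ∃ i, perm3 i = q := by
  decide +kernel

theorem exists_mk {σ : P9} (hb : ∀ i j : Fin 9, (σ i).1 / 3 = (σ j).1 / 3 ↔ i.1 / 3 = j.1 / 3) :
    ∃ i a b c, σ = mkP i a b c := by
  let p : Fin 3 → Fin 3 → Fin 9 := fun k j => ⟨3 * k.1 + j.1, by omega⟩
  have hp1 : ∀ k j, (p k j).1 / 3 = k.1 := fun k j => by simp only [p]; omega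
  let q : Fin 3 → Fin 3 := fun k => ⟨(σ (p k 0)).1 / 3, by omega⟩
  have hq : ∀ x y, q x = q y → x = y := fun x y h => Fin.ext (by
    have := (hb (p x 0) (p y 0)).1 (congrArg Fin.val h)
    rw [hp1, hp1] at this
    exact this)
  let r : Fin 3 → Fin 3 → Fin 3 := fun k j => ⟨(σ (p k j)).1 % 3, by omega⟩
  have hr : ∀ k x y, r k x = r k y → x = y := fun k x y h => Fin.ext (by
    have h1 : (σ (p k x)).1 % 3 = (σ (p k y)).1 % 3 := congrArg Fin.val h
    have h2 : (σ (p k x)).1 / 3 = (σ (p k y)).1 / 3 := (hb _ _).2 (by rw [hp1, hp1])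
    have h3 : σ (p k x) = σ (p k y) := Fin.ext (by omega)
    have h4 := congrArg Fin.val (σ.injective h3)
    simp only [p] at h4
    omega)
  obtain ⟨i, hi⟩ := perm3_surj q hq
  obtain ⟨a, ha⟩ := perm3_surj (r 0) (hr 0)
  obtain ⟨b, hb'⟩ := perm3_surj (r 1) (hr 1)
  obtain ⟨c, hc⟩ := perm3_surj (r 2) (hr 2)
  refine ⟨i, a, b, c, Equiv.ext fun n => Fin.ext ?_⟩
  rw [mk_apply, hi]
  have hn := n.2
  obtain ⟨k, hk⟩ : ∃ k : Fin 3, k.1 = n.1 / 3 := ⟨⟨n.1 / 3, by omega⟩, rfl⟩
  obtain ⟨j, hj⟩ : ∃ j : Fin 3, j.1 = n.1 % 3 := ⟨⟨n.1 % 3, by omega⟩, rfl⟩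
  have hnp : p k j = n := Fin.ext (by simp only [p]; omega)
  have e1 : (⟨n.1 / 3 % 3, Nat.mod_lt _ (by norm_num)⟩ : Fin 3) = k := Fin.ext (by simp; omega)
  have e2 : (⟨n.1 % 3, Nat.mod_lt _ (by norm_num)⟩ : Fin 3) = j := Fin.ext hj.symm
  have e3 : perm3 (if n.1 / 3 = 0 then a else if n.1 / 3 = 1 then b else c) = r k := by
    rw [← hk]
    fin_cases k
    · simpa using ha
    · simpa using hb'
    · simpa using hc
  rw [e1, e2, e3]
  have h2 : (σ (p k 0)).1 / 3 = (σ n).1 / 3 := (hb _ _).2 (by rw [hp1]; omega)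
  show _ = 3 * ((σ (p k 0)).1 / 3) + (σ (p k j)).1 % 3
  rw [hnp, h2]
  omega

/-- The even codes. -/
def L : List Nat :=
  (List.finRange 6).flatMap fun i => (List.finRange 6).flatMap fun a => (List.finRange 6).flatMap
    fun b => (List.finRange 6).filterMap fun c =>
      if Even (par i + par a + par b + par c) then some (mkC i a b c) else none

theorem L_nodup : L.Nodup := by decide +kernel

theorem L_length : L.length = 648 := by decide +kernel

theorem blk_fix : ∀ i a b c : Fin 6, ∀ x y : Fin 9,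
    ((perm3 i ⟨x.1 / 3 % 3, Nat.mod_lt _ (by norm_num)⟩).1 =
      (perm3 i ⟨y.1 / 3 % 3, Nat.mod_lt _ (by norm_num)⟩).1) → x.1 / 3 = y.1 / 3 := by
  intro i a b c x y h
  have key : ∀ i : Fin 6, ∀ u v : Fin 3, (perm3 i u).1 = (perm3 i v).1 → u = v := by decide +kernel
  have := congrArg Fin.val (key i _ _ h)
  simp only at this
  omega

theorem mem_L {m : Nat} : m ∈ L ↔ ∃ h : Hm, enc h = m := by
  constructor
  · intro hm
    simp only [L, List.mem_flatMap, List.mem_filterMap, List.mem_finRange, true_and] at hm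
    obtain ⟨i, a, b, c, hm⟩ := hm
    split at hm
    · next hev =>
      cases hm
      refine ⟨⟨mkP i a b c, mem_Hm.2 ⟨(sign_mkP i a b c).2 hev, fun x y => ?_⟩⟩, enc_mkP i a b c⟩
      rw [mk_apply, mk_apply]
      have h1 := (perm3 (if x.1 / 3 = 0 then a else if x.1 / 3 = 1 then b else c)
        ⟨x.1 % 3, Nat.mod_lt _ (by norm_num)⟩).2
      have h2 := (perm3 (if y.1 / 3 = 0 then a else if y.1 / 3 = 1 then b else c)
        ⟨y.1 % 3, Nat.mod_lt _ (by norm_num)⟩).2
      refine ⟨fun e => blk_fix i a b c x y (by omega), fun e => ?_⟩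
      have e' : (⟨x.1 / 3 % 3, Nat.mod_lt _ (by norm_num)⟩ : Fin 3) =
          ⟨y.1 / 3 % 3, Nat.mod_lt _ (by norm_num)⟩ := Fin.ext (by simp [e])
      rw [e']
      omega
    · simp at hm
  · rintro ⟨⟨σ, hσ⟩, rfl⟩
    obtain ⟨hs, hb⟩ := mem_Hm.1 hσ
    obtain ⟨i, a, b, c, rfl⟩ := exists_mk hb
    simp only [L, List.mem_flatMap, List.mem_filterMap, List.mem_finRange, true_and]
    exact ⟨i, a, b, c, by rw [if_pos ((sign_mkP i a b c).1 hs)]; exact congrArg _ (enc_mkP i a b c).symm⟩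

theorem enc_mem (h : Hm) : enc h ∈ L := mem_L.2 ⟨h, rfl⟩

/-- The coded elements as a type equivalent to the model. -/
noncomputable def encEquiv : Hm ≃ {m // m ∈ L} :=
  Equiv.ofBijective (fun h => ⟨enc h, enc_mem h⟩)
    ⟨fun _ _ e => Subtype.ext (enc_inj (congrArg Subtype.val e)),
      fun ⟨m, hm⟩ => (mem_L.1 hm).imp fun _ e => Subtype.ext e⟩

theorem sum_Hm [Fintype Hm] {M : Type*} [AddCommMonoid M] (F : Nat → M) :
    ∑ h : Hm, F (enc h) = (L.map F).sum := by
  rw [← List.sum_toFinset F L_nodup]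
  refine Finset.sum_bij (fun h _ => enc h) (fun h _ => List.mem_toFinset.2 (enc_mem h))
    (fun a _ b _ e => Subtype.ext (enc_inj e)) (fun m hm => ?_) (fun h _ => rfl)
  obtain ⟨h, e⟩ := mem_L.1 (List.mem_toFinset.1 hm)
  exact ⟨h, Finset.mem_univ _, e⟩

theorem card_Hm : Nat.card Hm = 648 := by
  rw [Nat.card_congr encEquiv, Nat.card_eq_fintype_card, Fintype.card_of_subtype L.toFinset
    (fun _ => List.mem_toFinset), List.toFinset_card_of_nodup L_nodup, L_length]

/-- The special set on codes. -/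
def inDC (c : Nat) : Bool :=
  let c2 := mulC c c
  !(Nat.beq (mulC c2 c2) oneC) && !(Nat.beq (mulC c2 c) oneC &&
    !((List.range 9).all fun n => Nat.beq (getC c n / 3) (n / 3)))

/-- The number of fixed letters of a code. -/
def fixC (c : Nat) : Nat := (List.range 9).countP fun n => Nat.beq (getC c n) n

/-- The classes of involutions on codes. -/
def invClsC (k : Fin 2) (c : Nat) : Bool :=
  Nat.beq (mulC c c) oneC && Nat.beq (fixC c) (if k = 0 then 5 else 1)

theorem enc_one : enc (1 : P9) = oneC := by rw [enc_def]; decide +kernel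

theorem enc_eq_one_iff {σ : P9} : enc σ = oneC ↔ σ = 1 :=
  ⟨fun e => enc_inj (e.trans enc_one.symm), fun e => by rw [e, enc_one]⟩

theorem beq_eq (a b : Nat) : Nat.beq a b = true ↔ a = b :=
  ⟨Nat.eq_of_beq_eq_true, fun h => h ▸ Nat.beq_refl a⟩

theorem inDC_iff (h : Hm) : inDC (enc h) = true ↔ InD h := by
  have e3 : mulC (mulC (enc h) (enc h)) (enc h) = enc ((h : P9) ^ 3) := by
    rw [mulC_enc, mulC_enc, pow_succ, pow_two]
  have e4 : mulC (mulC (enc h) (enc h)) (mulC (enc h) (enc h)) = enc ((h : P9) ^ 4) := by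
    rw [mulC_enc, mulC_enc, show ((h : P9) ^ 4) = (h : P9) * h * ((h : P9) * h) by simp [pow_succ, mul_assoc]]
  have hall : ((List.range 9).all fun n => Nat.beq (getC (enc h) n / 3) (n / 3)) = true ↔
      ∀ i : Fin 9, ((h : P9) i).1 / 3 = i.1 / 3 := by
    simp only [List.all_eq_true, List.mem_range, beq_eq]
    exact ⟨fun H i => by rw [← getC_enc]; exact H i i.2,
      fun H n hn => by rw [getC_enc (h : P9) ⟨n, hn⟩]; exact H ⟨n, hn⟩⟩
  simp only [inDC, e3, e4, Bool.and_eq_true, Bool.not_eq_true', ← Bool.not_eq_true, beq_eq,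
    enc_eq_one_iff, hall, InD, InJ, not_and]
  tauto

theorem invClsC_iff (k : Fin 2) (h : Hm) : invClsC k (enc h) = true ↔ InvCls k h := by
  have hfix : fixC (enc h) = fixCard h := by
    unfold fixC fixCard
    rw [show (List.range 9) = (List.finRange 9).map Fin.val from (List.map_coe_finRange_eq_range).symm,
      List.countP_map]
    have hl : ((List.finRange 9).countP fun i => decide ((h : P9) i = i)) =
        (Finset.univ.filter fun i => (h : P9) i = i).card := by
      rw [List.countP_eq_length_filter, ← List.toFinset_card_of_nodup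
        ((List.nodup_finRange 9).filter _)]
      congr 1
      ext i
      simp
    rw [← hl]
    refine List.countP_congr fun i _ => ?_
    simp [getC_enc, Fin.ext_iff]
  simp only [invClsC, Bool.and_eq_true, beq_eq, mulC_enc, enc_eq_one_iff, hfix, InvCls]

end CfsgLib.ANineThree.CaseC
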