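import Cfsg.Agent.Lib.ANineThree.CaseCAlg
import Cfsg.Agent.Lib.ANineThree.CaseCDefs

/-!
The fused local case: the incidences of the six signed vectors.
-/

set_option autoImplicit false
set_option linter.unusedSectionVars false

namespace CfsgLib.ANineThree.CaseC

open Finset

/-- The data read off from the six virtual characters. -/
structure Config (ι : Type*) [Fintype ι] where
  one : ι
  d : ι → ℤ
  d_ne : ∀ x, d x ≠ 0
  d_one : d one = 1
  a : ι → ℚ
  b : ι → ℚ
  a_one : a one = 0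
  b_one : b one = 0
  P : ℚ
  Q : ℚ
  Z : ℚ
  P_ne : P ≠ 0
  Q_ne : Q ≠ 0
  hZ : Z * Z = P * Q
  c : Fin 6 → ι → ℤ
  gram : ∀ i j, ∑ x, c i x * c j x = CaseC.gram i j
  c_one : ∀ i, c i one = principalPart i
  deg : ∀ i, ∑ x, c i x * d x = 0
  lin_a : ∀ i, ∑ x, ((c i x * d x : ℤ) : ℚ) * a x = 0
  lin_b : ∀ i, ∑ x, ((c i x * d x : ℤ) : ℚ) * b x = 0
  quad_aa : ∀ i, ∑ x, ((c i x * d x : ℤ) : ℚ) * (a x * a x) = pairSum i 0 0 * P
  quad_ab : ∀ i, ∑ x, ((c i x * d x : ℤ) : ℚ) * (a x * b x) = pairSum i 0 1 * Z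
  quad_bb : ∀ i, ∑ x, ((c i x * d x : ℤ) : ℚ) * (b x * b x) = pairSum i 1 1 * Q

namespace Config

variable {ι : Type*} [Fintype ι] (S : Config ι)

/-- The weight of a character in a vector. -/
def w (i : Fin 6) (x : ι) : ℚ := ((S.c i x * S.d x : ℤ) : ℚ)

/-- The nonprincipal support. -/
def sup [DecidableEq ι] (i : Fin 6) : Finset ι :=
  (univ.erase S.one).filter fun x => S.c i x ≠ 0

variable [DecidableEq ι]

theorem mem_sup {i : Fin 6} {x : ι} : x ∈ S.sup i ↔ x ≠ S.one ∧ S.c i x ≠ 0 := by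
  simp [sup]

theorem norm_rest (i : Fin 6) :
    ∑ x ∈ univ.erase S.one, S.c i x * S.c i x =
      CaseC.gram i i - principalPart i * principalPart i := by
  rw [← S.gram i i, ← add_sum_erase univ _ (mem_univ S.one), S.c_one]
  ring

theorem rest_le : ∀ i : Fin 6, CaseC.gram i i - principalPart i * principalPart i ≤ 3 := by
  decide

theorem sign_of_mem {i : Fin 6} {x : ι} (hx : x ∈ S.sup i) : S.c i x = 1 ∨ S.c i x = -1 :=
  (small_sum_sq (rest_le i) (S.norm_rest i)).1 x (mem_erase.2 ⟨(S.mem_sup.1 hx).1, mem_univ x⟩)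
    (S.mem_sup.1 hx).2

theorem card_sup (i : Fin 6) :
    ((S.sup i).card : ℤ) = CaseC.gram i i - principalPart i * principalPart i :=
  (small_sum_sq (rest_le i) (S.norm_rest i)).2

theorem card_two {i : Fin 6} (h : i = 0 ∨ i = 1) : (S.sup i).card = 2 := by
  have := S.card_sup i
  rcases h with rfl | rfl <;> simp [CaseC.gram, principalPart] at this <;> omega

theorem card_three {i : Fin 6} (h : i = 2 ∨ i = 3 ∨ i = 4 ∨ i = 5) : (S.sup i).card = 3 := by
  have := S.card_sup i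
  rcases h with rfl | rfl | rfl | rfl <;> simp [CaseC.gram, principalPart] at this <;> omega

theorem w_ne {i : Fin 6} {x : ι} (hx : x ∈ S.sup i) : S.w i x ≠ 0 := by
  unfold w
  exact_mod_cast mul_ne_zero (S.mem_sup.1 hx).2 (S.d_ne x)

theorem sum_w (i : Fin 6) (g : ι → ℚ) :
    ∑ x, S.w i x * g x = (principalPart i : ℚ) * g S.one + ∑ x ∈ S.sup i, S.w i x * g x := by
  rw [← add_sum_erase univ _ (mem_univ S.one), sup, sum_filter]
  congr 1
  · rw [w, S.c_one, S.d_one, mul_one]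
  · refine sum_congr rfl fun x _ => ?_
    split_ifs with h
    · rfl
    · rw [w, not_not.1 h, zero_mul, Int.cast_zero, zero_mul]

/-- The five power sums of a vector with three nonprincipal terms. -/
theorem three {i : Fin 6} {x y z : ι} (h : S.sup i = {x, y, z}) (hxy : x ≠ y) (hxz : x ≠ z)
    (hyz : y ≠ z) :
    S.w i x + S.w i y + S.w i z = -(principalPart i : ℚ) ∧
    S.w i x * S.a x + S.w i y * S.a y + S.w i z * S.a z = 0 ∧
    S.w i x * S.b x + S.w i y * S.b y + S.w i z * S.b z = 0 ∧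
    S.w i x * S.a x * S.a x + S.w i y * S.a y * S.a y + S.w i z * S.a z * S.a z =
      pairSum i 0 0 * S.P ∧
    S.w i x * S.a x * S.b x + S.w i y * S.a y * S.b y + S.w i z * S.a z * S.b z =
      pairSum i 0 1 * S.Z ∧
    S.w i x * S.b x * S.b x + S.w i y * S.b y * S.b y + S.w i z * S.b z * S.b z =
      pairSum i 1 1 * S.Q := by
  have e : ∀ g : ι → ℚ, ∑ t, S.w i t * g t = (principalPart i : ℚ) * g S.one +
      (S.w i x * g x + S.w i y * g y + S.w i z * g z) := by
    intro g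
    rw [S.sum_w, h, sum_insert (by simp [hxy, hxz]), sum_pair hyz, add_assoc]
  refine ⟨?_, ?_, ?_, ?_, ?_, ?_⟩
  · have := e (fun _ => 1)
    have h0 : ∑ t, S.w i t = 0 := by unfold w; exact_mod_cast S.deg i
    simp only [mul_one, h0] at this
    linarith
  · have := e S.a
    simp only [S.a_one, mul_zero, zero_add] at this
    exact this.symm.trans (S.lin_a i)
  · have := e S.b
    simp only [S.b_one, mul_zero, zero_add] at this
    exact this.symm.trans (S.lin_b i)
  · have := e (fun t => S.a t * S.a t)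
    simp only [S.a_one, mul_zero, zero_add, ← mul_assoc] at this
    rw [← this, ← S.quad_aa i]
    simp only [w, mul_assoc]
  · have := e (fun t => S.a t * S.b t)
    simp only [S.a_one, mul_zero, zero_mul, zero_add, ← mul_assoc] at this
    rw [← this, ← S.quad_ab i]
    simp only [w, mul_assoc]
  · have := e (fun t => S.b t * S.b t)
    simp only [S.b_one, mul_zero, zero_add, ← mul_assoc] at this
    rw [← this, ← S.quad_bb i]
    simp only [w, mul_assoc]

/-- The two terms of a short vector have opposite weights and equal values. -/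
theorem two {i : Fin 6} (hi : i = 0 ∨ i = 1) {x y : ι} (h : S.sup i = {x, y}) (hxy : x ≠ y) :
    S.w i x + S.w i y = 0 ∧ S.a x = S.a y ∧ S.b x = S.b y := by
  have hx : S.w i x ≠ 0 := S.w_ne (h ▸ mem_insert_self x _)
  have hp : principalPart i = 0 := by rcases hi with rfl | rfl <;> rfl
  have e : ∀ g : ι → ℚ, ∑ t, S.w i t * g t = S.w i x * g x + S.w i y * g y := by
    intro g
    rw [S.sum_w, h, sum_pair hxy, hp, Int.cast_zero, zero_mul, zero_add]
  have h0 : S.w i x + S.w i y = 0 := by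
    have := e (fun _ => 1)
    have h0 : ∑ t, S.w i t = 0 := by unfold w; exact_mod_cast S.deg i
    simp only [mul_one, h0] at this
    exact this.symm
  refine ⟨h0, ?_, ?_⟩
  · refine mul_left_cancel₀ hx ?_
    have hla : ∑ t, S.w i t * S.a t = 0 := S.lin_a i
    linear_combination hla - e S.a - S.a y * h0
  · refine mul_left_cancel₀ hx ?_
    have hlb : ∑ t, S.w i t * S.b t = 0 := S.lin_b i
    linear_combination hlb - e S.b - S.b y * h0

/-- The overlap of two supports. -/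
theorem dot_rest (i j : Fin 6) :
    ∑ x ∈ S.sup i ∩ S.sup j, S.c i x * S.c j x =
      CaseC.gram i j - principalPart i * principalPart j := by
  rw [← S.gram i j, ← add_sum_erase univ _ (mem_univ S.one), S.c_one, S.c_one, add_sub_cancel_left]
  refine sum_subset (fun x hx => mem_erase.2 ⟨(S.mem_sup.1 (mem_inter.1 hx).1).1, mem_univ x⟩) ?_
  intro x hx hn
  by_contra h0
  exact hn (mem_inter.2 ⟨S.mem_sup.2 ⟨(mem_erase.1 hx).1, left_ne_zero_of_mul h0⟩,
    S.mem_sup.2 ⟨(mem_erase.1 hx).1, right_ne_zero_of_mul h0⟩⟩)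

theorem pm_mul {i j : Fin 6} {x : ι} (hx : x ∈ S.sup i ∩ S.sup j) :
    S.c i x * S.c j x = 1 ∨ S.c i x * S.c j x = -1 := by
  rcases S.sign_of_mem (mem_inter.1 hx).1 with e | e <;>
    rcases S.sign_of_mem (mem_inter.1 hx).2 with e' | e' <;> simp [e, e']

/-- An overlap with an odd sum is one letter or three. -/
theorem inter_odd {i j : Fin 6}
    (h : (CaseC.gram i j - principalPart i * principalPart j) % 2 = 1) :
    (S.sup i ∩ S.sup j).card % 2 = 1 := by
  have := sign_sum_parity (e := fun x => S.c i x * S.c j x) (fun x hx => S.pm_mul hx)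
  rw [S.dot_rest i j, h] at this
  omega

theorem c_of_unique {i j : Fin 6} {x : ι} (h : S.sup i ∩ S.sup j = {x}) :
    S.c i x * S.c j x = CaseC.gram i j - principalPart i * principalPart j := by
  rw [← S.dot_rest i j, h, sum_singleton]

/-- All first values agree on the fourth vector, all second values on the third. -/
theorem f_const {x y z : ι} (h : S.sup 2 = {x, y, z}) (hxy : x ≠ y) (hxz : x ≠ z) (hyz : y ≠ z) :
    S.b x = S.b z ∧ S.b y = S.b z := by
  obtain ⟨hw, -, hb, -, -, hq⟩ := S.three h hxy hxz hyz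
  exact all_eq_of_power_sums (S.w_ne (by simp [h])) (S.w_ne (by simp [h])) (S.w_ne (by simp [h]))
    (by simpa [principalPart] using hw) hb (by simpa [pairSum] using hq)

theorem g_const {x y z : ι} (h : S.sup 3 = {x, y, z}) (hxy : x ≠ y) (hxz : x ≠ z) (hyz : y ≠ z) :
    S.a x = S.a z ∧ S.a y = S.a z := by
  obtain ⟨hw, ha, -, hq, -, -⟩ := S.three h hxy hxz hyz
  exact all_eq_of_power_sums (S.w_ne (by simp [h])) (S.w_ne (by simp [h])) (S.w_ne (by simp [h]))
    (by simpa [principalPart] using hw) ha (by simpa [pairSum] using hq)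

theorem three_of_two {s : Finset ι} (hs : s.card = 3) {x y : ι} (hx : x ∈ s) (hy : y ∈ s)
    (hne : x ≠ y) : ∃ z, z ≠ x ∧ z ≠ y ∧ s = {x, y, z} := by
  have h1 : ((s.erase x).erase y).card = 1 := by
    rw [card_erase_of_mem (mem_erase.2 ⟨hne.symm, hy⟩), card_erase_of_mem hx, hs]
  obtain ⟨z, hz⟩ := card_eq_one.1 h1
  have hz' : z ∈ (s.erase x).erase y := hz ▸ mem_singleton_self z
  simp only [mem_erase] at hz'
  refine ⟨z, hz'.2.1, hz'.1, ?_⟩
  have e1 : insert y ((s.erase x).erase y) = s.erase x :=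
    insert_erase (mem_erase.2 ⟨hne.symm, hy⟩)
  rw [hz] at e1
  rw [show ({x, y, z} : Finset ι) = insert x (insert y {z}) from rfl, e1, insert_erase hx]

theorem three_of_one {s : Finset ι} (hs : s.card = 3) {x : ι} (hx : x ∈ s) :
    ∃ y z, y ≠ x ∧ z ≠ x ∧ z ≠ y ∧ s = {x, y, z} := by
  obtain ⟨y, hy, hyx⟩ := exists_mem_ne (by omega : 1 < s.card) x
  obtain ⟨z, hzx, hzy, e⟩ := three_of_two hs hx hy hyx.symm
  exact ⟨y, z, hyx, hzx, hzy, e⟩

/-- Two letters of the third vector have different first values. -/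
theorem f_distinct {x y : ι} (hx : x ∈ S.sup 2) (hy : y ∈ S.sup 2) (hne : x ≠ y) :
    S.a x ≠ S.a y := by
  intro e
  obtain ⟨z, hzx, hzy, h⟩ := three_of_two (S.card_three (Or.inl rfl)) hx hy hne
  obtain ⟨hw, ha, -, hq, -, -⟩ := S.three h hne hzx.symm hzy.symm
  have hw' : S.w 2 x + S.w 2 y + S.w 2 z = 0 := by simpa [principalPart] using hw
  have hz0 : S.w 2 z ≠ 0 := S.w_ne (by simp [h])
  have e1 : S.w 2 z * (S.a z - S.a x) = 0 := by
    rw [← e] at ha; linear_combination ha - S.a x * hw'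
  have e2 : S.a z = S.a x := sub_eq_zero.1 ((mul_eq_zero.1 e1).resolve_left hz0)
  rw [← e, e2] at hq
  have e3 : pairSum 2 0 0 * S.P = 0 := by
    rw [← hq]; linear_combination S.a x * S.a x * hw'
  simp [pairSum, S.P_ne] at e3

/-- Two letters of the fourth vector have different second values. -/
theorem g_distinct {x y : ι} (hx : x ∈ S.sup 3) (hy : y ∈ S.sup 3) (hne : x ≠ y) :
    S.b x ≠ S.b y := by
  intro e
  obtain ⟨z, hzx, hzy, h⟩ := three_of_two (S.card_three (Or.inr (Or.inl rfl))) hx hy hne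
  obtain ⟨hw, -, hb, -, -, hq⟩ := S.three h hne hzx.symm hzy.symm
  have hw' : S.w 3 x + S.w 3 y + S.w 3 z = 0 := by simpa [principalPart] using hw
  have hz0 : S.w 3 z ≠ 0 := S.w_ne (by simp [h])
  have e1 : S.w 3 z * (S.b z - S.b x) = 0 := by
    rw [← e] at hb; linear_combination hb - S.b x * hw'
  have e2 : S.b z = S.b x := sub_eq_zero.1 ((mul_eq_zero.1 e1).resolve_left hz0)
  rw [← e, e2] at hq
  have e3 : pairSum 3 1 1 * S.Q = 0 := by
    rw [← hq]; linear_combination S.b x * S.b x * hw'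
  simp [pairSum, S.Q_ne] at e3

/-- The value of the first class is constant on the fourth vector. -/
theorem g_a {x y : ι} (hx : x ∈ S.sup 3) (hy : y ∈ S.sup 3) : S.a x = S.a y := by
  by_cases hne : x = y
  · rw [hne]
  obtain ⟨z, hzx, hzy, h⟩ := three_of_two (S.card_three (Or.inr (Or.inl rfl))) hx hy hne
  obtain ⟨e1, e2⟩ := S.g_const h hne hzx.symm hzy.symm
  rw [e1, e2]

/-- The value of the second class is constant on the third vector. -/
theorem f_b {x y : ι} (hx : x ∈ S.sup 2) (hy : y ∈ S.sup 2) : S.b x = S.b y := by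
  by_cases hne : x = y
  · rw [hne]
  obtain ⟨z, hzx, hzy, h⟩ := three_of_two (S.card_three (Or.inl rfl)) hx hy hne
  obtain ⟨e1, e2⟩ := S.f_const h hne hzx.symm hzy.symm
  rw [e1, e2]

theorem w_eq_of_c {i j : Fin 6} {x : ι} (h : S.c i x = S.c j x) : S.w i x = S.w j x := by
  rw [w, w, h]

theorem w_neg_of_c {i j : Fin 6} {x : ι} (h : S.c i x = -S.c j x) : S.w i x = -S.w j x := by
  rw [w, w, h]; push_cast; ring

theorem eq_of_mul_one {i j : Fin 6} {x : ι} (hx : x ∈ S.sup i) (h : S.c i x * S.c j x = 1) :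
    S.c j x = S.c i x := by
  rcases S.sign_of_mem hx with e | e <;> rw [e] at h ⊢ <;> omega

theorem eq_of_mul_neg_one {i j : Fin 6} {x : ι} (hx : x ∈ S.sup i)
    (h : S.c i x * S.c j x = -1) : S.c j x = -S.c i x := by
  rcases S.sign_of_mem hx with e | e <;> rw [e] at h ⊢ <;> omega

/-- A long vector with principal part meets the third and fourth vectors in one letter each. -/
theorem one_common {i j : Fin 6} (hi : i = 2 ∨ i = 3) (hj : j = 4 ∨ j = 5) :
    ∃ X, S.sup i ∩ S.sup j = {X} := by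
  have hodd : (S.sup i ∩ S.sup j).card % 2 = 1 := S.inter_odd (by
    rcases hi with rfl | rfl <;> rcases hj with rfl | rfl <;> decide)
  have hle : (S.sup i ∩ S.sup j).card ≤ 3 :=
    (card_le_card inter_subset_left).trans
      (S.card_three (by rcases hi with rfl | rfl <;> simp)).le
  by_cases h1 : (S.sup i ∩ S.sup j).card = 1
  · exact card_eq_one.1 h1
  exfalso
  have h3 : (S.sup i ∩ S.sup j).card = 3 := by omega
  have e1 : S.sup i ∩ S.sup j = S.sup i := eq_of_subset_of_card_le inter_subset_left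
    (by rw [S.card_three (by rcases hi with rfl | rfl <;> simp), h3])
  have e2 : S.sup i ∩ S.sup j = S.sup j := eq_of_subset_of_card_le inter_subset_right
    (by rw [S.card_three (by rcases hj with rfl | rfl <;> simp), h3])
  have e : S.sup j = S.sup i := e2.symm.trans e1
  obtain ⟨x, y, z, hxy, hxz, hyz, h⟩ := card_eq_three.1
    (S.card_three (i := i) (by rcases hi with rfl | rfl <;> simp))
  obtain ⟨hw, ha, hb, haa, hab, -⟩ := S.three (e.trans h) hxy hxz hyz
  have h0 : pairSum j 0 1 * S.Z = 0 := by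
    rcases hi with rfl | rfl
    · obtain ⟨e1, e2⟩ := S.f_const h hxy hxz hyz
      rw [← hab, e1, e2]; linear_combination S.b z * ha
    · obtain ⟨e1, e2⟩ := S.g_const h hxy hxz hyz
      rw [← hab, e1, e2]; linear_combination S.a z * hb
  have hZ0 : S.Z ≠ 0 := fun h => mul_ne_zero S.P_ne S.Q_ne (by rw [← S.hZ, h, zero_mul])
  rcases hj with rfl | rfl <;> simp [pairSum, hZ0] at h0

set_option maxHeartbeats 1600000 in
/-- The configuration forces a character of degree two. -/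
theorem exists_deg_two :
    ∃ x, S.d x * S.d x = 4 ∧ S.a x = 0 ∧ S.b x ≠ 0 := by
  classical
  have hZ0 : S.Z ≠ 0 := fun h => mul_ne_zero S.P_ne S.Q_ne (by rw [← S.hZ, h, zero_mul])
  -- the common letter of the third and fourth vectors
  obtain ⟨X, hX⟩ : ∃ X, S.sup 2 ∩ S.sup 3 = {X} := by
    have hodd := S.inter_odd (i := 2) (j := 3) (by decide)
    have hle : (S.sup 2 ∩ S.sup 3).card ≤ 3 :=
      (card_le_card inter_subset_left).trans (S.card_three (Or.inl rfl)).le
    by_cases h1 : (S.sup 2 ∩ S.sup 3).card = 1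
    · exact card_eq_one.1 h1
    exfalso
    obtain ⟨x, hx, y, hy, hne⟩ := one_lt_card.1 (by omega : 1 < (S.sup 2 ∩ S.sup 3).card)
    exact S.f_distinct (mem_inter.1 hx).1 (mem_inter.1 hy).1 hne
      (S.g_a (mem_inter.1 hx).2 (mem_inter.1 hy).2)
  have hX2 : X ∈ S.sup 2 := (mem_inter.1 (hX ▸ mem_singleton_self X)).1
  have hX3 : X ∈ S.sup 3 := (mem_inter.1 (hX ▸ mem_singleton_self X)).2
  have hfg : ∀ {x : ι}, x ∈ S.sup 2 → x ∈ S.sup 3 → x = X := fun h2 h3 =>
    mem_singleton.1 (hX ▸ mem_inter.2 ⟨h2, h3⟩)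
  have hc3 : S.c 3 X = S.c 2 X :=
    S.eq_of_mul_one hX2 ((S.c_of_unique hX).trans (by decide))
  obtain ⟨A, hA⟩ := S.one_common (i := 2) (j := 4) (Or.inl rfl) (Or.inl rfl)
  obtain ⟨A₂, hA₂⟩ := S.one_common (i := 2) (j := 5) (Or.inl rfl) (Or.inr rfl)
  obtain ⟨E, hE⟩ := S.one_common (i := 3) (j := 4) (Or.inr rfl) (Or.inl rfl)
  obtain ⟨E₂, hE₂⟩ := S.one_common (i := 3) (j := 5) (Or.inr rfl) (Or.inr rfl)
  have hA2 : A ∈ S.sup 2 ∧ A ∈ S.sup 4 := mem_inter.1 (hA ▸ mem_singleton_self A)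
  have hA₂2 : A₂ ∈ S.sup 2 ∧ A₂ ∈ S.sup 5 := mem_inter.1 (hA₂ ▸ mem_singleton_self A₂)
  have hE3 : E ∈ S.sup 3 ∧ E ∈ S.sup 4 := mem_inter.1 (hE ▸ mem_singleton_self E)
  have hE₂3 : E₂ ∈ S.sup 3 ∧ E₂ ∈ S.sup 5 := mem_inter.1 (hE₂ ▸ mem_singleton_self E₂)
  have cA : S.c 4 A = S.c 2 A := S.eq_of_mul_one hA2.1 ((S.c_of_unique hA).trans (by decide))
  have cA₂ : S.c 5 A₂ = S.c 2 A₂ :=
    S.eq_of_mul_one hA₂2.1 ((S.c_of_unique hA₂).trans (by decide))
  have cE : S.c 4 E = -S.c 3 E :=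
    S.eq_of_mul_neg_one hE3.1 ((S.c_of_unique hE).trans (by decide))
  have cE₂ : S.c 5 E₂ = S.c 3 E₂ :=
    S.eq_of_mul_one hE₂3.1 ((S.c_of_unique hE₂).trans (by decide))
  have hf4 : ∀ {x : ι}, x ∈ S.sup 2 → x ∈ S.sup 4 → x = A := fun h h' =>
    mem_singleton.1 (hA ▸ mem_inter.2 ⟨h, h'⟩)
  have hf5 : ∀ {x : ι}, x ∈ S.sup 2 → x ∈ S.sup 5 → x = A₂ := fun h h' =>
    mem_singleton.1 (hA₂ ▸ mem_inter.2 ⟨h, h'⟩)
  have hg4 : ∀ {x : ι}, x ∈ S.sup 3 → x ∈ S.sup 4 → x = E := fun h h' =>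
    mem_singleton.1 (hE ▸ mem_inter.2 ⟨h, h'⟩)
  have hg5 : ∀ {x : ι}, x ∈ S.sup 3 → x ∈ S.sup 5 → x = E₂ := fun h h' =>
    mem_singleton.1 (hE₂ ▸ mem_inter.2 ⟨h, h'⟩)
  have hX4 : X ∉ S.sup 4 := by
    intro h
    rw [← hf4 hX2 h] at cA
    rw [← hg4 hX3 h] at cE
    rw [cA, hc3] at cE
    exact (S.mem_sup.1 hX2).2 (by omega)
  -- the second short vector
  obtain ⟨X', hq, hX'ne⟩ : ∃ X', S.sup 1 = {X, X'} ∧ X ≠ X' := by
    obtain ⟨u, v, huv, h⟩ := card_eq_two.1 (S.card_two (Or.inr rfl))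
    obtain ⟨-, ha, hb⟩ := S.two (Or.inr rfl) h huv
    by_cases hu : u = X
    · exact ⟨v, hu ▸ h, hu ▸ huv⟩
    by_cases hv : v = X
    · exact ⟨u, by rw [← hv, h, pair_comm], hv ▸ huv.symm⟩
    exfalso
    obtain ⟨x, hx⟩ := card_pos.1 (show 0 < (S.sup 1 ∩ S.sup 2).card by
      have := S.inter_odd (i := 1) (j := 2) (by decide); omega)
    obtain ⟨y, hy⟩ := card_pos.1 (show 0 < (S.sup 1 ∩ S.sup 3).card by
      have := S.inter_odd (i := 1) (j := 3) (by decide); omega)
    rw [mem_inter, h, mem_insert, mem_singleton] at hx hy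
    have hxX : x ≠ X := by rcases hx.1 with rfl | rfl <;> assumption
    have hay : S.a x = S.a y := by
      rcases hx.1 with rfl | rfl <;> rcases hy.1 with rfl | rfl <;> simp [ha]
    exact S.f_distinct hx.2 hX2 hxX (hay.trans (S.g_a hy.2 hX3))
  obtain ⟨hwq, haq, hbq⟩ := S.two (Or.inr rfl) hq hX'ne
  have hX1 : X ∈ S.sup 1 := by simp [hq]
  have hX'1 : X' ∈ S.sup 1 := by simp [hq]
  have hX'2 : X' ∉ S.sup 2 := fun h => S.f_distinct hX2 h hX'ne haq
  have hcq : S.c 1 X = -S.c 2 X := by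
    have e : S.sup 1 ∩ S.sup 2 = {X} := by
      ext x
      simp only [hq, mem_inter, mem_insert, mem_singleton]
      constructor
      · rintro ⟨rfl | rfl, h2⟩
        · rfl
        · exact absurd h2 hX'2
      · rintro rfl; exact ⟨Or.inl rfl, hX2⟩
    have := S.c_of_unique e
    rw [show CaseC.gram 1 2 - principalPart 1 * principalPart 2 = -1 by decide,
      mul_comm] at this
    exact S.eq_of_mul_neg_one hX2 this
  have hX5 : X ∉ S.sup 5 := by
    intro h
    rw [← hf5 hX2 h] at cA₂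
    have h0 : ∑ x ∈ S.sup 1 ∩ S.sup 5, S.c 1 x * S.c 5 x = 0 :=
      (S.dot_rest 1 5).trans (by decide)
    have hX'5 : X' ∈ S.sup 5 := by
      by_contra hn
      have e : S.sup 1 ∩ S.sup 5 = {X} := by
        ext x
        simp only [hq, mem_inter, mem_insert, mem_singleton]
        constructor
        · rintro ⟨rfl | rfl, h2⟩
          · rfl
          · exact absurd h2 hn
        · rintro rfl; exact ⟨Or.inl rfl, h⟩
      rw [e, sum_singleton] at h0
      exact (mul_eq_zero.1 h0).elim (S.mem_sup.1 hX1).2 (S.mem_sup.1 h).2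
    have e : S.sup 1 ∩ S.sup 5 = {X, X'} := by
      refine (inter_eq_left.2 ?_).trans hq
      rw [hq]
      intro x hx
      simp only [mem_insert, mem_singleton] at hx
      rcases hx with rfl | rfl <;> assumption
    rw [e, sum_pair hX'ne] at h0
    have hc1' : S.c 5 X' = S.c 1 X' := by
      have h1 : S.c 1 X * S.c 5 X = -1 := by
        rw [hcq, cA₂]
        rcases S.sign_of_mem hX2 with e | e <;> rw [e] <;> norm_num
      exact S.eq_of_mul_one hX'1 (by omega)
    obtain ⟨U, hUX, hUX', hs⟩ :=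
      three_of_two (S.card_three (Or.inr (Or.inr (Or.inr rfl)))) h hX'5 hX'ne
    obtain ⟨hw, ha, hb, haa, hab, hbb⟩ := S.three hs hX'ne hUX.symm hUX'.symm
    have e1 : S.w 5 X = S.w 2 X := S.w_eq_of_c cA₂
    have e2 : S.w 5 X' = S.w 2 X := by
      rw [S.w_eq_of_c hc1']
      linear_combination hwq - S.w_neg_of_c hcq
    rw [e1, e2, ← haq] at ha haa hab
    rw [e1, e2, ← hbq] at hb hbb
    rw [← hbq] at hab
    simp [pairSum] at haa hab hbb
    have hU : S.w 5 U ≠ 0 := S.w_ne (by simp [hs])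
    have key : S.w 5 U * S.w 5 U * ((-3 / 2 * S.P) * (-9 / 2 * S.Q) -
        (-3 / 2 * S.Z) * (-3 / 2 * S.Z)) = 0 := by
      have e3 : S.w 5 U * S.a U = -(2 * S.w 2 X * S.a X) := by linarith
      have e4 : S.w 5 U * S.b U = -(2 * S.w 2 X * S.b X) := by linarith
      have f1 : S.w 5 U * (-3 / 2 * S.P) =
          2 * S.w 2 X * S.a X * S.a X * (S.w 5 U + 2 * S.w 2 X) := by
        linear_combination (-(S.w 5 U)) * haa + (S.w 5 U * S.a U - 2 * S.w 2 X * S.a X) * e3
      have f2 : S.w 5 U * (-3 / 2 * S.Z) =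
          2 * S.w 2 X * S.a X * S.b X * (S.w 5 U + 2 * S.w 2 X) := by
        linear_combination (-(S.w 5 U)) * hab + (S.w 5 U * S.b U) * e3
          - (2 * S.w 2 X * S.a X) * e4
      have f3 : S.w 5 U * (-9 / 2 * S.Q) =
          2 * S.w 2 X * S.b X * S.b X * (S.w 5 U + 2 * S.w 2 X) := by
        linear_combination (-(S.w 5 U)) * hbb + (S.w 5 U * S.b U - 2 * S.w 2 X * S.b X) * e4
      calc _ = (S.w 5 U * (-3 / 2 * S.P)) * (S.w 5 U * (-9 / 2 * S.Q)) -
            (S.w 5 U * (-3 / 2 * S.Z)) * (S.w 5 U * (-3 / 2 * S.Z)) := by ring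
        _ = 0 := by rw [f1, f2, f3]; ring
    rcases mul_eq_zero.1 key with h' | h'
    · exact mul_ne_zero hU hU h'
    · exact mul_ne_zero S.P_ne S.Q_ne (by linear_combination (2 / 9 : ℚ) * h' + (1 / 2 : ℚ) * S.hZ)
  have hAX : A ≠ X := fun e => hX4 (e ▸ hA2.2)
  have hA₂X : A₂ ≠ X := fun e => hX5 (e ▸ hA₂2.2)
  have hEX : E ≠ X := fun e => hX4 (e ▸ hE3.2)
  have hE₂X : E₂ ≠ X := fun e => hX5 (e ▸ hE₂3.2)
  have hAE : A ≠ E := fun e => hAX (hfg hA2.1 (e ▸ hE3.1))
  have hAE₂ : A ≠ E₂ := fun e => hAX (hfg hA2.1 (e ▸ hE₂3.1))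
  have hA₂E : A₂ ≠ E := fun e => hA₂X (hfg hA₂2.1 (e ▸ hE3.1))
  have hA₂E₂ : A₂ ≠ E₂ := fun e => hA₂X (hfg hA₂2.1 (e ▸ hE₂3.1))
  obtain ⟨H, hHA, hHE, hs4⟩ :=
    three_of_two (S.card_three (Or.inr (Or.inr (Or.inl rfl)))) hA2.2 hE3.2 hAE
  obtain ⟨H₂, hHA₂, hHE₂, hs5⟩ :=
    three_of_two (S.card_three (Or.inr (Or.inr (Or.inr rfl)))) hA₂2.2 hE₂3.2 hA₂E₂
  have hH4 : H ∈ S.sup 4 := by simp [hs4]
  have hH5 : H₂ ∈ S.sup 5 := by simp [hs5]
  have hHf : H ∉ S.sup 2 := fun h => hHA (hf4 h hH4)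
  have hHg : H ∉ S.sup 3 := fun h => hHE (hg4 h hH4)
  have hH₂f : H₂ ∉ S.sup 2 := fun h => hHA₂ (hf5 h hH5)
  have hH₂g : H₂ ∉ S.sup 3 := fun h => hHE₂ (hg5 h hH5)
  -- the inner product of the two long vectors
  have hdot : (if A = A₂ then (1 : ℤ) else 0) - (if E = E₂ then 1 else 0) +
      (if H = H₂ then S.c 4 H * S.c 5 H else 0) = 0 := by
    have h0 : ∑ x ∈ S.sup 4, S.c 4 x * (if x ∈ S.sup 5 then S.c 5 x else 0) = 0 := by
      simp only [mul_ite, mul_zero]
      rw [← sum_filter, filter_mem_eq_inter]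
      exact (S.dot_rest 4 5).trans (by decide)
    rw [hs4, sum_insert (by simp [hAE, hHA.symm]), sum_pair hHE.symm] at h0
    have hA5 : A ∈ S.sup 5 ↔ A = A₂ := ⟨hf5 hA2.1, fun e => e ▸ hA₂2.2⟩
    have hE5 : E ∈ S.sup 5 ↔ E = E₂ := ⟨hg5 hE3.1, fun e => e ▸ hE₂3.2⟩
    have hH5' : H ∈ S.sup 5 ↔ H = H₂ := by
      rw [hs5]
      simp only [mem_insert, mem_singleton]
      exact ⟨fun h => by rcases h with rfl | rfl | rfl
                         · exact absurd hA₂2.1 hHf
                         · exact absurd hE₂3.1 hHg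
                         · rfl, fun h => Or.inr (Or.inr h)⟩
    simp only [hA5, hE5, hH5', mul_ite, mul_zero] at h0
    have t1 : (if A = A₂ then S.c 4 A * S.c 5 A else 0) = if A = A₂ then (1 : ℤ) else 0 := by
      split_ifs with e
      · rw [cA, e, cA₂]
        rcases S.sign_of_mem hA₂2.1 with h | h <;> rw [h] <;> norm_num
      · rfl
    have t2 : (if E = E₂ then S.c 4 E * S.c 5 E else 0) = if E = E₂ then (-1 : ℤ) else 0 := by
      split_ifs with e
      · rw [cE, e, cE₂]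
        rcases S.sign_of_mem hE₂3.1 with h | h <;> rw [h] <;> norm_num
      · rfl
    rw [t1, t2] at h0
    split_ifs at h0 ⊢ <;> omega
  -- the weights and the values
  have hbA : S.b A = S.b X := S.f_b hA2.1 hX2
  have hbA₂ : S.b A₂ = S.b X := S.f_b hA₂2.1 hX2
  have haE : S.a E = S.a X := S.g_a hE3.1 hX3
  have haE₂ : S.a E₂ = S.a X := S.g_a hE₂3.1 hX3
  have wX : S.w 3 X = S.w 2 X := S.w_eq_of_c hc3
  have wA : S.w 4 A = S.w 2 A := S.w_eq_of_c cA
  have wA₂ : S.w 5 A₂ = S.w 2 A₂ := S.w_eq_of_c cA₂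
  have wE : S.w 4 E = -S.w 3 E := S.w_neg_of_c cE
  have wE₂ : S.w 5 E₂ = S.w 3 E₂ := S.w_eq_of_c cE₂
  obtain ⟨hw4, ha4, hb4, haa4, hab4, hbb4⟩ := S.three hs4 hAE hHA.symm hHE.symm
  obtain ⟨hw5, ha5, hb5, haa5, hab5, hbb5⟩ := S.three hs5 hA₂E₂ hHA₂.symm hHE₂.symm
  rw [wA, wE] at hw4 ha4 hb4 haa4 hab4 hbb4
  rw [wA₂, wE₂] at hw5 ha5 hb5 haa5 hab5 hbb5
  rw [haE] at ha4 haa4 hab4
  rw [haE₂] at ha5 haa5 hab5
  rw [hbA] at hb4 hab4 hbb4
  rw [hbA₂] at hb5 hab5 hbb5
  simp [pairSum, principalPart] at hw4 haa4 hab4 hbb4 hw5 haa5 hab5 hbb5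
  -- the first short vector
  obtain ⟨fi, P', hp, hne, hfi2, hfiX⟩ : ∃ fi P', S.sup 0 = {fi, P'} ∧ fi ≠ P' ∧
      fi ∈ S.sup 2 ∧ fi ≠ X := by
    obtain ⟨u, v, huv, h⟩ := card_eq_two.1 (S.card_two (Or.inl rfl))
    obtain ⟨x, hx⟩ := card_pos.1 (show 0 < (S.sup 0 ∩ S.sup 2).card by
      have := S.inter_odd (i := 0) (j := 2) (by decide); omega)
    obtain ⟨y, hxy, hp⟩ : ∃ y, x ≠ y ∧ S.sup 0 = {x, y} := by
      have hx0 := (mem_inter.1 hx).1
      rw [h, mem_insert, mem_singleton] at hx0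
      rcases hx0 with rfl | rfl
      · exact ⟨v, huv, h⟩
      · exact ⟨u, huv.symm, by rw [h, pair_comm]⟩
    refine ⟨x, y, hp, hxy, (mem_inter.1 hx).2, ?_⟩
    intro exX
    rw [exX] at hp hxy
    obtain ⟨-, -, hb⟩ := S.two (Or.inl rfl) hp hxy
    have hX0 : X ∈ S.sup 0 := by simp [hp]
    have h0 : ∑ t ∈ S.sup 0 ∩ S.sup 3, S.c 0 t * S.c 3 t = 0 :=
      (S.dot_rest 0 3).trans (by decide)
    by_cases hy3 : y ∈ S.sup 3
    · exact S.g_distinct hX3 hy3 hxy hb
    have e : S.sup 0 ∩ S.sup 3 = {X} := by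
      ext t
      simp only [hp, mem_inter, mem_insert, mem_singleton]
      constructor
      · rintro ⟨rfl | rfl, h2⟩
        · rfl
        · exact absurd h2 hy3
      · rintro rfl; exact ⟨Or.inl rfl, hX3⟩
    rw [e, sum_singleton] at h0
    exact (mul_eq_zero.1 h0).elim (S.mem_sup.1 hX0).2 (S.mem_sup.1 hX3).2
  obtain ⟨hwp, hap, hbp⟩ := S.two (Or.inl rfl) hp hne
  have hfi0 : fi ∈ S.sup 0 := by simp [hp]
  have hP'2 : P' ∉ S.sup 2 := fun h => S.f_distinct hfi2 h hne hap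
  have hfi3 : fi ∉ S.sup 3 := fun h => hfiX (hfg hfi2 h)
  have hP'3 : P' ∉ S.sup 3 := by
    intro h
    have h0 : ∑ t ∈ S.sup 0 ∩ S.sup 3, S.c 0 t * S.c 3 t = 0 :=
      (S.dot_rest 0 3).trans (by decide)
    have e : S.sup 0 ∩ S.sup 3 = {P'} := by
      ext t
      simp only [hp, mem_inter, mem_insert, mem_singleton]
      constructor
      · rintro ⟨rfl | rfl, h2⟩
        · exact absurd h2 hfi3
        · rfl
      · rintro rfl; exact ⟨Or.inr rfl, h⟩
    rw [e, sum_singleton] at h0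
    exact (mul_eq_zero.1 h0).elim (S.mem_sup.1 (by simp [hp])).2 (S.mem_sup.1 h).2
  have hfc : S.c 0 fi = S.c 2 fi := by
    have e : S.sup 2 ∩ S.sup 0 = {fi} := by
      ext t
      simp only [hp, mem_inter, mem_insert, mem_singleton]
      constructor
      · rintro ⟨h2, rfl | rfl⟩
        · rfl
        · exact absurd h2 hP'2
      · rintro rfl; exact ⟨hfi2, Or.inl rfl⟩
    exact S.eq_of_mul_one hfi2 ((S.c_of_unique e).trans (by decide))
  -- a long vector meets the short one in one letter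
  have hshort : ∀ (j : Fin 6) (Aj Ej Hj : ι), S.sup j = {Aj, Ej, Hj} →
      CaseC.gram 0 j - principalPart 0 * principalPart j = 1 → Aj ∈ S.sup 2 → Ej ∈ S.sup 3 →
      Hj ∉ S.sup 2 → S.c j Aj = S.c 2 Aj →
      (fi = Aj ∧ P' ≠ Hj) ∨ (fi ≠ Aj ∧ P' = Hj ∧ S.w j Hj = -S.w 2 fi) := by
    intro j Aj Ej Hj hs hg hAj hEj hHj hcj
    have h1 : S.c 0 fi * (if fi ∈ S.sup j then S.c j fi else 0) +
        S.c 0 P' * (if P' ∈ S.sup j then S.c j P' else 0) = 1 := by
      have h0 : ∑ t ∈ S.sup 0, S.c 0 t * (if t ∈ S.sup j then S.c j t else 0) = 1 := by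
        simp only [mul_ite, mul_zero]
        rw [← sum_filter, filter_mem_eq_inter]
        exact (S.dot_rest 0 j).trans hg
      rwa [hp, sum_pair hne] at h0
    have hfij : fi ∈ S.sup j ↔ fi = Aj := by
      rw [hs]; simp only [mem_insert, mem_singleton]
      exact ⟨fun h => by rcases h with rfl | rfl | rfl
                         · rfl
                         · exact absurd hEj hfi3
                         · exact absurd hfi2 hHj, Or.inl⟩
    have hP'j : P' ∈ S.sup j ↔ P' = Hj := by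
      rw [hs]; simp only [mem_insert, mem_singleton]
      exact ⟨fun h => by rcases h with rfl | rfl | rfl
                         · exact absurd hAj hP'2
                         · exact absurd hEj hP'3
                         · rfl, fun h => Or.inr (Or.inr h)⟩
    simp only [hfij, hP'j] at h1
    by_cases e : fi = Aj
    · refine Or.inl ⟨e, fun e' => ?_⟩
      rw [if_pos e, if_pos e', hfc, e, hcj] at h1
      have hm : S.c 0 P' * S.c j P' ≠ 0 :=
        mul_ne_zero (S.mem_sup.1 (by simp [hp])).2 (S.mem_sup.1 (hP'j.2 e')).2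
      rcases S.sign_of_mem hAj with h | h <;> rw [h] at h1 <;> omega
    · refine Or.inr ⟨e, ?_⟩
      rw [if_neg e] at h1
      by_cases e' : P' = Hj
      · rw [if_pos e', mul_zero, zero_add] at h1
        refine ⟨e', ?_⟩
        have hc : S.c j P' = S.c 0 P' := S.eq_of_mul_one (by simp [hp]) h1
        rw [← e', S.w_eq_of_c hc, ← S.w_eq_of_c hfc]
        linarith
      · rw [if_neg e'] at h1
        omega
  have h04 := hshort 4 A E H hs4 (by decide) hA2.1 hE3.1 hHf cA
  have h05 := hshort 5 A₂ E₂ H₂ hs5 (by decide) hA₂2.1 hE₂3.1 hH₂f cA₂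
  by_cases hAA : A = A₂
  · by_cases hEE : E = E₂
    · -- the principal combination
      subst hAA hEE
      have hHH : H ≠ H₂ := by
        rintro rfl
        simp only [if_true, sub_self, zero_add] at hdot
        exact mul_ne_zero (S.mem_sup.1 hH4).2 (S.mem_sup.1 hH5).2 hdot
      obtain ⟨A', hA'X, hA'A, hs2⟩ :=
        three_of_two (S.card_three (Or.inl rfl)) hX2 hA2.1 hAX.symm
      obtain ⟨C, hCX, hCE, hs3⟩ :=
        three_of_two (S.card_three (Or.inr (Or.inl rfl))) hX3 hE3.1 hEX.symm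
      obtain ⟨hw2, ha2, -, haa2, -, -⟩ := S.three hs2 hAX.symm hA'X.symm hA'A.symm
      obtain ⟨hw3, -, hb3, -, -, hbb3⟩ := S.three hs3 hEX.symm hCX.symm hCE.symm
      rw [wX] at hw3 hb3 hbb3
      simp [pairSum, principalPart] at hw2 haa2 hw3 hbb3
      have hA'm : A' ∈ S.sup 2 := by simp [hs2]
      have hres := combMain (A := S.w 2 A) (E := -S.w 3 E) (B := S.w 2 X) (A' := S.w 2 A')
        (H := S.w 4 H) (H' := S.w 5 H₂) (C := S.w 3 C) (P := S.P) (Q := S.Q) (Z := S.Z)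
        (α := S.a A) (α' := S.a A') (m := S.a X) (l := S.b X) (β := S.b E) (h := S.a H)
        (k := S.b H) (h' := S.a H₂) (k' := S.b H₂) (γ := S.b C)
        (S.w_ne hA2.1) (neg_ne_zero.2 (S.w_ne hE3.1)) (S.w_ne hX2) (S.w_ne hH4) (S.w_ne hH5)
        (S.w_ne (by simp [hs3])) S.P_ne S.Q_ne S.hZ
        (by linarith) (by linarith) (by linarith) (by linarith)
        (by linarith) (by linarith) (by linarith) (by linarith) (by linarith)
        (by linarith) (by linarith) (by linarith) (by linarith) (by linarith)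
        (by linarith) (by linarith) (by linarith) (by linarith)
      obtain ⟨h2, hzero, hl⟩ := hres
      refine ⟨A', ?_, hzero, ?_⟩
      · have hint : S.c 2 A' * S.d A' = 2 := by
          have : ((S.c 2 A' * S.d A' : ℤ) : ℚ) = 2 := h2
          exact_mod_cast this
        rcases S.sign_of_mem hA'm with e | e <;> rw [e] at hint <;> nlinarith
      · rw [S.f_b hA'm hX2]; exact hl
    · exfalso
      subst hAA
      rw [if_pos rfl, if_neg hEE] at hdot
      have hHH : H = H₂ := by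
        by_contra h; rw [if_neg h] at hdot; omega
      subst hHH
      rw [if_pos rfl] at hdot
      have hneg : S.w 5 H = -S.w 4 H :=
        S.w_neg_of_c (S.eq_of_mul_neg_one hH4 (by linarith))
      rw [hneg] at hw5 ha5 haa5
      have hH0 := S.w_ne hH4
      have e1 : S.w 4 H * (S.a H - S.a X) = 0 := by
        linear_combination (1 / 2 : ℚ) * ha4 - (1 / 2 : ℚ) * ha5 - (S.a X / 2) * hw4
          + (S.a X / 2) * hw5
      have e2 : S.a H = S.a X := sub_eq_zero.1 ((mul_eq_zero.1 e1).resolve_left hH0)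
      rw [e2] at haa4 haa5
      exact S.P_ne (by
        linear_combination (2 / 3 : ℚ) * haa5 - (2 / 3 : ℚ) * haa4
          + (2 / 3 : ℚ) * S.a X * S.a X * hw4 - (2 / 3 : ℚ) * S.a X * S.a X * hw5)
  · exfalso
    -- the letters of the third vector
    obtain ⟨T, hTX, hTA, hs2⟩ :=
      three_of_two (S.card_three (Or.inl rfl)) hX2 hA2.1 hAX.symm
    have hT : A₂ = T := by
      have := hA₂2.1
      rw [hs2] at this
      simp only [mem_insert, mem_singleton] at this
      rcases this with h | h | h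
      · exact absurd h hA₂X
      · exact absurd h.symm hAA
      · exact h
    subst hT
    obtain ⟨hw2, ha2, -, haa2, -, -⟩ := S.three hs2 hAX.symm hA₂X.symm hAA
    simp [pairSum, principalPart] at hw2 haa2
    have hfi : fi = A ∨ fi = A₂ := by
      have := hfi2
      rw [hs2] at this
      simp only [mem_insert, mem_singleton] at this
      rcases this with h | h | h
      · exact absurd h hfiX
      · exact Or.inl h
      · exact Or.inr h
    rcases hfi with hfi | hfi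
    · obtain ⟨-, hP', hwH⟩ := h05.resolve_left (fun h => hAA (hfi.symm.trans h.1))
      rw [hfi] at hwH hap hbp
      rw [← hP'] at hw5 ha5 hb5 haa5 hab5 hbb5 hwH
      rw [hwH] at hw5 ha5 hb5 haa5 hab5 hbb5
      rw [← hap] at ha5 haa5 hab5
      rw [← hbp, hbA] at hb5 hab5 hbb5
      refine combA (B := S.c 2 X * S.d X) (A := S.c 2 A * S.d A) (A' := S.c 2 A₂ * S.d A₂)
        (E := S.c 3 E₂ * S.d E₂) (P := S.P) (Q := S.Q) (Z := S.Z) (α := S.a A) (α' := S.a A₂)
        (m := S.a X) (l := S.b X) (β := S.b E₂)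
        (mul_ne_zero (S.mem_sup.1 hE₂3.1).2 (S.d_ne _)) S.P_ne S.Q_ne S.hZ ?_ ?_ ?_ ?_ ?_ ?_ ?_
          ?_ ?_ <;>
        simp only [w] at hw2 ha2 haa2 hw5 ha5 hb5 haa5 hab5 hbb5 <;> linarith
    · obtain ⟨-, hP', hwH⟩ := h04.resolve_left (fun h => hAA (h.1.symm.trans hfi))
      rw [hfi] at hwH hap hbp
      rw [← hP'] at hw4 ha4 hb4 haa4 hab4 hbb4 hwH
      rw [hwH] at hw4 ha4 hb4 haa4 hab4 hbb4
      rw [← hap] at ha4 haa4 hab4
      rw [← hbp, hbA₂] at hb4 hab4 hbb4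
      refine combB (B := S.c 2 X * S.d X) (A := S.c 2 A * S.d A) (A' := S.c 2 A₂ * S.d A₂)
        (E := -(S.c 3 E * S.d E)) (P := S.P) (Q := S.Q) (Z := S.Z) (α := S.a A) (α' := S.a A₂)
        (m := S.a X) (l := S.b X) (β := S.b E)
        (neg_ne_zero.2 (mul_ne_zero (S.mem_sup.1 hE3.1).2 (S.d_ne _))) S.P_ne S.Q_ne S.hZ ?_ ?_ ?_
          ?_ ?_ ?_ ?_ ?_ ?_ <;>
        simp only [w] at hw2 ha2 haa2 hw4 ha4 hb4 haa4 hab4 hbb4 <;> push_cast at * <;> linarith

end Config

end CfsgLib.ANineThree.CaseC
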