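import Cfsg.Agent.Lib.ANineThree.CaseCComb
import Cfsg.Agent.Lib.Chars.Integral

/-!
The fused local case: from the six virtual characters of the model to an irreducible character
with a kernel separating the two classes of involutions.
-/

set_option autoImplicit false
set_option linter.style.haveILetI false
set_option linter.unusedSectionVars false

namespace CfsgLib.ANineThree.CaseC

open Cfsg CfsgLib CfsgLib.Chars
open scoped ComplexConjugate

universe u

section
variable {G : Type u} [Group G]

/-- A character takes integral values at involutions. -/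
theorem int_at_involution [Finite G] {χ : G → ℂ} (hχ : IsCharacter G χ) {v : G} (hv : v * v = 1) :
    ∃ n : ℤ, χ v = n := by
  obtain ⟨k, ρ, rfl⟩ := hχ
  obtain ⟨b, μ, hμ, -, -, -, h1, -⟩ := Chars.exists_eigenbasis_rep ρ v
  have hval : ∀ i, ∃ n : ℤ, μ i = n := fun i => by
    have h2 : μ i ^ 2 = 1 := by
      obtain ⟨c, hc⟩ := orderOf_dvd_of_pow_eq_one (show v ^ 2 = 1 by rw [sq, hv])
      rw [hc, pow_mul, hμ i, one_pow]
    rcases sq_eq_one_iff.1 h2 with e | e
    · exact ⟨1, by simp [e]⟩
    · exact ⟨-1, by simp [e]⟩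
  choose n hn using hval
  exact ⟨∑ i, n i, by rw [h1]; push_cast; exact Finset.sum_congr rfl fun i _ => hn i⟩

/-- Inner products along an isomorphism. -/
theorem inner_comp_equiv {A : Type*} [Group A] [Fintype A] {B : Type u} [Group B] [Fintype B]
    (φ : A ≃* B) (f g : B → ℂ) :
    classInner (G := A) (fun a => f (φ a)) (fun a => g (φ a)) = classInner f g := by
  rw [classInner, classInner, Nat.card_congr φ.toEquiv]
  exact congrArg _ (φ.toEquiv.sum_comp fun b => f b * conj (g b))

open scoped Classical in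
/-- The number of ways of writing an element as a product from two classes. -/
noncomputable def prodCount (i j g : G) : ℂ :=
  (Nat.card {x : G // IsConj i x ∧ IsConj j (x⁻¹ * g)} : ℂ)

theorem isClassFunction_prodCount (i j : G) : IsClassFunction G (prodCount i j) := by
  intro g h
  refine congrArg Nat.cast (Nat.card_congr ((MulAut.conj h⁻¹).toEquiv.subtypeEquiv fun x => ?_))
  have e1 : IsConj x (h⁻¹ * x * h) := isConj_iff.2 ⟨h⁻¹, by group⟩
  have e2 : IsConj (x⁻¹ * (h * g * h⁻¹)) ((h⁻¹ * x * h)⁻¹ * g) := isConj_iff.2 ⟨h⁻¹, by group⟩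
  simp only [MulEquiv.toEquiv_eq_coe, MulEquiv.coe_toEquiv, MulAut.conj_apply, inv_inv]
  exact ⟨fun ⟨a, b⟩ => ⟨a.trans e1, b.trans e2⟩,
    fun ⟨a, b⟩ => ⟨a.trans e1.symm, b.trans e2.symm⟩⟩

variable [Fintype G]

/-- The coefficients of a product count. -/
theorem inner_prodCount (i j : G) (χ : IrrCharacter G) :
    classInner (prodCount i j) (χ : G → ℂ) =
      (Nat.card G : ℂ)⁻¹ * ((Nat.card {x : G // IsConj i x} : ℂ) *
        (Nat.card {y : G // IsConj j y} : ℂ)) *
        conj ((χ : G → ℂ) i * (χ : G → ℂ) j / (χ : G → ℂ) 1) := by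
  classical
  rw [inner_def, mul_assoc]
  congr 1
  have h1 : ∀ g : G, prodCount i j g =
      ∑ x : G, if IsConj i x ∧ IsConj j (x⁻¹ * g) then (1 : ℂ) else 0 := fun g => by
    rw [prodCount, Finset.sum_boole, Nat.card_eq_fintype_card, Fintype.card_subtype]
  simp only [h1, Finset.sum_mul]
  rw [Finset.sum_comm]
  have h2 : ∀ x : G, ∑ g : G, (if IsConj i x ∧ IsConj j (x⁻¹ * g) then (1 : ℂ) else 0) *
      conj ((χ : G → ℂ) g) =
      if IsConj i x then conj ((Nat.card {y : G // IsConj j y} : ℂ) * (χ : G → ℂ) j *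
        (χ : G → ℂ) x / (χ : G → ℂ) 1) else 0 := by
    intro x
    rw [← Equiv.sum_comp (Equiv.mulLeft x)]
    simp only [Equiv.coe_mulLeft, inv_mul_cancel_left]
    split_ifs with hx
    · rw [← sum_translate_class χ.2 x j, map_sum]
      refine Finset.sum_congr rfl fun y _ => ?_
      simp only [hx, true_and]
      split_ifs <;> simp
    · exact Finset.sum_eq_zero fun y _ => by rw [if_neg (fun h => hx h.1), zero_mul]
  rw [Finset.sum_congr rfl fun x _ => h2 x]
  have h3 : ∀ x : G, IsConj i x → (χ : G → ℂ) x = (χ : G → ℂ) i := fun x hx =>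
    ((isConj_iff_forall_irr _ _).1 hx χ).symm
  rw [Finset.sum_congr rfl (g := fun x => if IsConj i x then
    conj ((Nat.card {y : G // IsConj j y} : ℂ) * (χ : G → ℂ) j * (χ : G → ℂ) i / (χ : G → ℂ) 1)
      else 0) fun x _ => by split_ifs with hx <;> [rw [h3 x hx]; rfl],
    ← Finset.sum_filter, Finset.sum_const, nsmul_eq_mul, ← Fintype.card_subtype,
    ← Nat.card_eq_fintype_card]
  simp only [map_div₀, map_mul, map_natCast]
  ring

end

variable {G : Type u} [Group G] [Finite G]

set_option maxHeartbeats 4000000 in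
/-- An irreducible character separating the two classes of involutions. -/
theorem exists_separating (S : Data G) (hmodel : StmtModel)
    (hinv : ∀ v : Hm, v * v = 1 →
      v = 1 ∨ (InvCls 0 v ∧ IsConj tH v) ∨ (InvCls 1 v ∧ IsConj τH v))
    (hDinv : ∀ h : Hm, InD h → InD h⁻¹)
    (hTI : ∀ h : Hm, InD h → ∀ g : G, (∃ k : Hm, InD k ∧ g * S.e h * g⁻¹ = S.e k) →
      g ∈ S.e.range)
    (hnc : ¬ IsConj (S.e tH) (S.e τH)) :
    ∃ χ : IrrCharacter G, (χ : G → ℂ) (S.e tH) = (χ : G → ℂ) 1 ∧
      (χ : G → ℂ) (S.e τH) ≠ (χ : G → ℂ) 1 := by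
  classical
  haveI : Fintype G := Fintype.ofFinite G
  haveI : Fintype Hm := Fintype.ofFinite Hm
  haveI : Fintype S.e.range := Fintype.ofFinite _
  haveI := Chars.irrFintype G
  obtain ⟨ψ, hgen, hsupp, hgram, hone, hpairs⟩ := hmodel
  set N := S.e.range with hN
  let φ : Hm ≃* N := MonoidHom.ofInjective S.inj
  have hφ : ∀ h : Hm, ((φ h : N) : G) = S.e h := fun h => rfl
  let ψN : Fin 6 → N → ℂ := fun i n => ψ i (φ.symm n)
  have hψN : ∀ i h, ψN i (φ h) = ψ i h := fun i h => congrArg (ψ i) (φ.symm_apply_apply h)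
  have hgenN : ∀ i, IsGeneralizedCharacter N (ψN i) := fun i => by
    obtain ⟨a, b, ha, hb, hab⟩ := hgen i
    exact ⟨_, _, isCharacter_comp φ.symm.toMonoidHom ha, isCharacter_comp φ.symm.toMonoidHom hb,
      funext fun n => congrFun hab (φ.symm n)⟩
  have hinner : ∀ f g : N → ℂ,
      classInner f g = classInner (fun h => f (φ h)) (fun h => g (φ h)) :=
    fun f g => (inner_comp_equiv φ f g).symm
  let T : Set G := {w | ∃ k : Hm, InD k ∧ S.e k = w}
  have hTI' : ∀ g : G, g ∉ N → ∀ w ∈ T, g * w * g⁻¹ ∈ T → w = 1 := by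
    rintro g hg _ ⟨h, hh, rfl⟩ ⟨k, hk, e⟩
    exact absurd (hTI h hh g ⟨k, hk, e.symm⟩) hg
  have hψT : ∀ i, ∀ n : N, (n : G) ∉ T → ψN i n = 0 := fun i n hn =>
    hsupp i _ fun hD => hn ⟨_, hD, by rw [← hφ, φ.apply_symm_apply]⟩
  have hno : ∀ v : Hm, v * v = 1 → ¬ InD v := fun v hv hD => by
    refine hD.1 ?_
    have e : (v : P9) * v = 1 := congrArg Subtype.val hv
    rw [pow_succ, pow_succ, pow_succ, pow_one, e, one_mul, e]
  have hψ1 : ∀ i, ψN i 1 = 0 := fun i => by
    rw [← map_one φ, hψN]; exact hsupp i 1 (hno 1 (one_mul 1))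
  -- the induced virtual characters
  let θ : Fin 6 → G → ℂ := fun i => indFun N (ψN i)
  have hθgen : ∀ i, IsGeneralizedCharacter G (θ i) := fun i => isGeneralized_indFun N (hgenN i)
  have hθinv : ∀ i (v : G), v * v = 1 → θ i v = 0 := by
    intro i v hv
    show indFun N (ψN i) v = 0
    rw [indFun_apply]
    refine mul_eq_zero_of_right _ (Finset.sum_eq_zero fun x _ => ?_)
    by_cases hm : x⁻¹ * v * x ∈ N
    · rw [extendByZero_of_mem N _ hm]
      refine hsupp i _ (hno _ (φ.injective ?_))
      rw [map_mul, φ.apply_symm_apply, map_one]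
      refine Subtype.ext ?_
      show x⁻¹ * v * x * (x⁻¹ * v * x) = 1
      calc _ = x⁻¹ * (v * v) * x := by group
        _ = 1 := by rw [hv, mul_one, inv_mul_cancel]
    · rw [extendByZero_of_not_mem N _ hm]
  choose m hm using fun i => (isGeneralized_iff_inner.mp (hθgen i)).2
  have hθcl : ∀ i, IsClassFunction G (θ i) := fun i => isClassFunction_of_isGeneralized (hθgen i)
  -- integers attached to the characters
  choose d hd using fun χ : IrrCharacter G => irr_degree_nat χ.2
  have hd0 : ∀ χ, 0 < d χ := fun χ => (hd χ).1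
  have hd1 : ∀ χ : IrrCharacter G, (χ : G → ℂ) 1 = d χ := fun χ => (hd χ).2
  have htt : S.e tH * S.e tH = 1 := by
    rw [← map_mul, show tH * tH = 1 from Subtype.ext (by decide +kernel), map_one]
  have huu : S.e τH * S.e τH = 1 := by
    rw [← map_mul, show τH * τH = 1 from Subtype.ext lab_facts.2.2.2, map_one]
  choose nt hnt using fun χ : IrrCharacter G => int_at_involution (isCharacter_of_irr χ.2) htt
  choose nu hnu using fun χ : IrrCharacter G => int_at_involution (isCharacter_of_irr χ.2) huu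
  -- the sums over the characters
  have hexp : ∀ i (g : G), θ i g = ∑ χ : IrrCharacter G, (m i χ : ℂ) * (χ : G → ℂ) g := by
    intro i g
    conv_lhs => rw [classFun_eq_sum (hθcl i), Finset.sum_apply]
    simp only [Pi.smul_apply, smul_eq_mul, hm]
  have hdeg : ∀ i, ∑ χ, (m i χ) * (d χ : ℤ) = 0 := fun i => by
    have h := hθinv i 1 (one_mul 1)
    rw [hexp] at h
    simp only [hd1] at h
    exact_mod_cast h
  have hmt : ∀ i, ∑ χ, m i χ * nt χ = 0 := fun i => by
    have h := hθinv i _ htt
    rw [hexp] at h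
    simp only [hnt] at h
    exact_mod_cast h
  have hmu : ∀ i, ∑ χ, m i χ * nu χ = 0 := fun i => by
    have h := hθinv i _ huu
    rw [hexp] at h
    simp only [hnu] at h
    exact_mod_cast h
  have hgramθ : ∀ i j, ∑ χ, m i χ * m j χ = CaseC.gram i j := fun i j => by
    have h : classInner (θ i) (θ j) = (CaseC.gram i j : ℂ) := by
      rw [inner_indFun_TI T N hTI' (isClassFunction_of_isGeneralized (hgenN j)) (hψT i) (hψT j)
        (hψ1 i), hinner]
      simp only [hψN]
      exact hgram i j
    rw [inner_eq_sum (hθcl i)] at h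
    simp only [hm, map_intCast] at h
    exact_mod_cast h
  have hm1 : ∀ i, m i (principal G) = principalPart i := fun i => by
    have h : classInner (θ i) (fun _ => (1 : ℂ)) = (principalPart i : ℂ) := by
      rw [inner_indFun N (ψN i) (fun _ _ => rfl), hinner]
      simp only [hψN]
      exact hone i
    have h' := hm i (principal G)
    rw [show ((principal G : IrrCharacter G) : G → ℂ) = fun _ => (1 : ℂ) from rfl, h] at h'
    exact_mod_cast h'.symm
  -- the classes of involutions
  let rep : Fin 2 → Hm := ![tH, τH]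
  let n : Fin 2 → IrrCharacter G → ℤ := ![nt, nu]
  have hn : ∀ (k : Fin 2) (χ : IrrCharacter G), (χ : G → ℂ) (S.e (rep k)) = n k χ := fun k χ => by
    fin_cases k
    · exact hnt χ
    · exact hnu χ
  have hcls : ∀ (k : Fin 2) (v : Hm), InvCls k v ↔ IsConj (S.e (rep k)) (S.e v) := by
    intro k v
    have hrep : ∀ l : Fin 2, InvCls l (rep l) ∧ rep l ≠ 1 ∧ rep l * rep l = 1 := by
      decide +kernel
    constructor
    · intro hv
      rcases hinv v (Subtype.ext hv.1) with rfl | ⟨h0, hc⟩ | ⟨h1, hc⟩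
      · exact absurd hv (by fin_cases k <;> decide +kernel)
      · obtain rfl : k = 0 := by
          by_contra hk
          have e := hv.2.symm.trans h0.2
          rw [if_neg hk, if_pos rfl] at e
          exact absurd e (by decide)
        exact MonoidHom.map_isConj S.e hc
      · obtain rfl : k = 1 := by
          by_contra hk
          have hk0 : k = 0 := by omega
          have e := hv.2.symm.trans h1.2
          rw [if_pos hk0, if_neg (by decide)] at e
          exact absurd e (by decide)
        exact MonoidHom.map_isConj S.e hc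
    · intro hc
      obtain ⟨g, hg⟩ := isConj_iff.1 hc
      have hv : v * v = 1 := S.inj (by
        rw [map_mul, map_one, ← hg]
        calc g * S.e (rep k) * g⁻¹ * (g * S.e (rep k) * g⁻¹) =
              g * S.e (rep k * rep k) * g⁻¹ := by rw [map_mul]; group
          _ = 1 := by rw [(hrep k).2.2, map_one, mul_one, mul_inv_cancel])
      rcases hinv v hv with rfl | ⟨h0, hc'⟩ | ⟨h1, hc'⟩
      · rw [map_one, conj_eq_one_iff] at hg
        exact absurd (S.inj (hg.trans (map_one S.e).symm)) (hrep k).2.1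
      · fin_cases k
        · exact h0
        · exact absurd ((MonoidHom.map_isConj S.e hc').trans hc.symm) hnc
      · fin_cases k
        · exact absurd (hc.trans (MonoidHom.map_isConj S.e hc').symm) hnc
        · exact h1
  let Kc : Fin 2 → ℕ := fun k => Nat.card {x : G // IsConj (S.e (rep k)) x}
  have hK : ∀ k, 0 < Kc k := fun k => by
    haveI : Nonempty {x : G // IsConj (S.e (rep k)) x} := ⟨⟨_, IsConj.refl _⟩⟩
    exact Nat.card_pos
  have hquad : ∀ i k l, ∑ χ, (m i χ : ℚ) * ((n k χ : ℚ) * n l χ / d χ) =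
      pairSum i k l * ((Nat.card G : ℚ) / (Kc k * Kc l)) := by
    intro i k l
    have hval : ∀ h : Hm, InD h →
        prodCount (S.e (rep k)) (S.e (rep l)) (S.e h) = (pairs k l h : ℂ) := by
      intro h hh
      refine congrArg Nat.cast (Nat.card_congr (Equiv.symm ?_))
      refine Equiv.ofBijective (fun v => ⟨S.e v.1, (hcls k _).1 v.2.1, ?_⟩) ⟨?_, ?_⟩
      · have hv : v.1⁻¹ = v.1 := inv_eq_of_mul_eq_one_right (Subtype.ext v.2.1.1)
        rw [← map_inv, ← map_mul, hv]
        exact (hcls l _).1 v.2.2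
      · exact fun a b e => Subtype.ext (S.inj (congrArg Subtype.val e))
      · rintro ⟨x, hxk, hxl⟩
        have sq : ∀ (q : Fin 2) {w : G}, IsConj (S.e (rep q)) w → w * w = 1 := fun q w hw => by
          obtain ⟨g, rfl⟩ := isConj_iff.1 hw
          have h1 : rep q * rep q = 1 := by fin_cases q <;> exact Subtype.ext (by decide +kernel)
          calc g * S.e (rep q) * g⁻¹ * (g * S.e (rep q) * g⁻¹) =
                g * S.e (rep q * rep q) * g⁻¹ := by rw [map_mul]; group
            _ = 1 := by rw [h1, map_one, mul_one, mul_inv_cancel]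
        have hx : x⁻¹ = x := inv_eq_of_mul_eq_one_right (sq k hxk)
        have hinvert : x * S.e h * x⁻¹ = S.e h⁻¹ := by
          rw [map_inv]
          refine eq_inv_of_mul_eq_one_left ?_
          have h2 := sq l hxl
          rw [hx] at h2
          rw [hx]
          calc x * S.e h * x * S.e h = (x * S.e h) * (x * S.e h) := by group
            _ = 1 := h2
        obtain ⟨v, rfl⟩ := hTI h hh x ⟨h⁻¹, hDinv h hh, hinvert⟩
        refine ⟨⟨v, (hcls k v).2 hxk, ?_⟩, rfl⟩
        rw [hcls l, map_mul]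
        rwa [hx] at hxl
    have h1 : classInner (prodCount (S.e (rep k)) (S.e (rep l))) (θ i) = (pairSum i k l : ℂ) := by
      rw [← hpairs i k l,
        inner_indFun_right N (ψN i) (isClassFunction_prodCount _ _), hinner, inner_def, inner_def]
      refine congrArg _ (Finset.sum_congr rfl fun h _ => ?_)
      rw [hψN]
      by_cases hh : InD h
      · rw [hφ, hval h hh]
      · rw [hsupp i h hh, map_zero, mul_zero, mul_zero]
    rw [inner_eq_sum (isClassFunction_prodCount _ _)] at h1
    simp only [hm, inner_prodCount, hn, hd1, map_intCast, map_div₀, map_mul, map_natCast] at h1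
    have h2 : (((Nat.card G : ℚ)⁻¹ * (Kc k * Kc l) *
        ∑ χ, (m i χ : ℚ) * ((n k χ : ℚ) * n l χ / d χ) : ℚ) : ℂ) = (pairSum i k l : ℂ) := by
      push_cast
      rw [← h1, Finset.mul_sum]
      refine Finset.sum_congr rfl fun χ _ => ?_
      ring
    have h3 := Rat.cast_injective h2
    rw [← h3]
    have hG : (Nat.card G : ℚ) ≠ 0 := Nat.cast_ne_zero.2 Nat.card_pos.ne'
    have hk : (Kc k : ℚ) ≠ 0 := Nat.cast_ne_zero.2 (hK k).ne'
    have hl : (Kc l : ℚ) ≠ 0 := Nat.cast_ne_zero.2 (hK l).ne'
    field_simp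
  -- the configuration
  let κ : Fin 2 → Fin 2 → ℚ := fun k l => (Nat.card G : ℚ) / (Kc k * Kc l)
  have hκ : ∀ k l, κ k l ≠ 0 := fun k l => div_ne_zero (Nat.cast_ne_zero.2 Nat.card_pos.ne')
    (mul_ne_zero (Nat.cast_ne_zero.2 (hK k).ne') (Nat.cast_ne_zero.2 (hK l).ne'))
  let av : Fin 2 → IrrCharacter G → ℚ := fun k χ => (n k χ : ℚ) / d χ - 1
  have hdq : ∀ χ, (d χ : ℚ) ≠ 0 := fun χ => Nat.cast_ne_zero.2 (hd0 χ).ne'
  have hsum0 : ∀ i k, ∑ χ, (m i χ : ℚ) * n k χ = 0 := fun i k => by
    fin_cases k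
    · exact_mod_cast hmt i
    · exact_mod_cast hmu i
  have hdegq : ∀ i, ∑ χ, (m i χ : ℚ) * d χ = 0 := fun i => by exact_mod_cast hdeg i
  have hlin : ∀ i k, ∑ χ, ((m i χ * (d χ : ℤ) : ℤ) : ℚ) * av k χ = 0 := fun i k => by
    calc ∑ χ, ((m i χ * (d χ : ℤ) : ℤ) : ℚ) * av k χ
        = ∑ χ, ((m i χ : ℚ) * n k χ - (m i χ : ℚ) * d χ) := Finset.sum_congr rfl fun χ _ => by
          have := hdq χ
          push_cast [av]; field_simp
      _ = 0 := by rw [Finset.sum_sub_distrib, hsum0, hdegq, sub_zero]
  have hquad' : ∀ i k l, ∑ χ, ((m i χ * (d χ : ℤ) : ℤ) : ℚ) * (av k χ * av l χ) =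
      pairSum i k l * κ k l := fun i k l => by
    rw [← hquad i k l]
    calc ∑ χ, ((m i χ * (d χ : ℤ) : ℤ) : ℚ) * (av k χ * av l χ)
        = ∑ χ, ((m i χ : ℚ) * ((n k χ : ℚ) * n l χ / d χ) - (m i χ : ℚ) * n k χ
            - (m i χ : ℚ) * n l χ + (m i χ : ℚ) * d χ) := Finset.sum_congr rfl fun χ _ => by
          have := hdq χ
          push_cast [av]; field_simp; ring
      _ = _ := by
          rw [Finset.sum_add_distrib, Finset.sum_sub_distrib, Finset.sum_sub_distrib, hsum0,
            hsum0, hdegq, sub_zero, sub_zero, add_zero]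
  have hprin : ∀ k, av k (principal G) = 0 := fun k => by
    have h1 : (n k (principal G) : ℂ) = 1 := (hn k (principal G)).symm.trans (principal_apply _)
    have h2 : (d (principal G) : ℂ) = 1 := (hd1 (principal G)).symm.trans (principal_apply _)
    have h1' : (n k (principal G) : ℚ) = 1 := by exact_mod_cast h1
    have h2' : (d (principal G) : ℚ) = 1 := by exact_mod_cast h2
    simp only [av, h1', h2', div_one, sub_self]
  let C : Config (IrrCharacter G) :=
    { one := principal G
      d := fun χ => (d χ : ℤ)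
      d_ne := fun χ => by exact_mod_cast (hd0 χ).ne'
      d_one := by
        have h := hd1 (principal G)
        rw [principal_apply] at h
        exact_mod_cast h.symm
      a := av 0
      b := av 1
      a_one := hprin 0
      b_one := hprin 1
      P := κ 0 0
      Q := κ 1 1
      Z := κ 0 1
      P_ne := hκ 0 0
      Q_ne := hκ 1 1
      hZ := by
        have h0 : (Kc 0 : ℚ) ≠ 0 := Nat.cast_ne_zero.2 (hK 0).ne'
        have h1 : (Kc 1 : ℚ) ≠ 0 := Nat.cast_ne_zero.2 (hK 1).ne'
        simp only [κ]; field_simp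
      c := m
      gram := hgramθ
      c_one := hm1
      deg := hdeg
      lin_a := fun i => hlin i 0
      lin_b := fun i => hlin i 1
      quad_aa := fun i => hquad' i 0 0
      quad_ab := fun i => hquad' i 0 1
      quad_bb := fun i => hquad' i 1 1 }
  obtain ⟨χ, -, ha, hb⟩ := C.exists_deg_two
  refine ⟨χ, ?_, fun h => hb ?_⟩
  · have h1 : (nt χ : ℚ) / d χ - 1 = 0 := ha
    rw [sub_eq_zero, div_eq_one_iff_eq (hdq χ)] at h1
    rw [hnt, hd1]
    exact_mod_cast h1
  · show (nu χ : ℚ) / d χ - 1 = 0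
    rw [hnu, hd1] at h
    have h' : (nu χ : ℚ) = d χ := by exact_mod_cast h
    rw [h', div_self (hdq χ), sub_self]

end CfsgLib.ANineThree.CaseC
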