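import Cfsg.Agent.Lib.ANineThree.CaseCChecks

/-!
The six virtual characters of the local model.

They are combinations of the constant function and of inductions of ten linear characters; their
values are computed exactly in the ring generated by a twelfth root of unity.
-/

set_option autoImplicit false
set_option linter.unusedSectionVars false
set_option linter.style.haveILetI false
set_option maxRecDepth 100000

namespace CfsgLib.ANineThree.CaseC

open Equiv Subgroup Cfsg CfsgLib.Chars
open scoped ComplexConjugate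

/-- The root of unity. -/
noncomputable def ζ : ℂ := ((√3 : ℝ) + Complex.I) / 2

theorem sqrt_sq : ((√3 : ℝ) : ℂ) ^ 2 = 3 := by
  rw [← Complex.ofReal_pow, Real.sq_sqrt (by norm_num)]
  norm_num

theorem ζ_cube : ζ ^ 3 = Complex.I := by
  have h1 := sqrt_sq
  have h2 := Complex.I_sq
  unfold ζ
  linear_combination ((((√3 : ℝ) : ℂ) + 3 * Complex.I) / 8) * h1 +
    ((3 * ((√3 : ℝ) : ℂ) + Complex.I) / 8) * h2

theorem ζ_four : ζ ^ 4 = ζ ^ 2 - 1 := by
  have h1 := sqrt_sq
  have h2 := Complex.I_sq
  rw [pow_succ, ζ_cube]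
  unfold ζ
  linear_combination (-1 / 4 : ℂ) * h1 + (1 / 4 : ℂ) * h2

/-- Evaluation of coordinates. -/
noncomputable def ev : V4 →+ ℂ where
  toFun v := v.1 + v.2.1 * ζ + v.2.2.1 * ζ ^ 2 + v.2.2.2 * ζ ^ 3
  map_zero' := by simp
  map_add' a b := by simp only [Prod.fst_add, Prod.snd_add, Int.cast_add]; ring

theorem ev_apply (v : V4) : ev v = v.1 + v.2.1 * ζ + v.2.2.1 * ζ ^ 2 + v.2.2.2 * ζ ^ 3 := rfl

theorem ev_zpowT {k : Nat} (hk : k < 12) : ev (zpowT.getD k 0) = ζ ^ k := by
  have h4 := ζ_four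
  interval_cases k <;> simp [zpowT, ev_apply] <;>
    first
    | ring1
    | linear_combination -h4
    | linear_combination -ζ * h4
    | linear_combination -(ζ ^ 2 + 1) * h4
    | linear_combination -(ζ ^ 3 + ζ) * h4
    | linear_combination -(ζ ^ 4 + ζ ^ 2) * h4
    | linear_combination -(ζ ^ 5 + ζ ^ 3) * h4
    | linear_combination -(ζ ^ 6 + ζ ^ 4 - 1) * h4
    | linear_combination -(ζ ^ 7 + ζ ^ 5 - ζ) * h4

theorem ζ_twelve : ζ ^ 12 = 1 := by
  rw [show (12 : ℕ) = 3 * 4 from rfl, pow_mul, ζ_cube, Complex.I_pow_four]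

/-- The root of unity as a unit. -/
noncomputable def ζu : ℂˣ := Units.mk0 ζ fun e => by simpa [e] using ζ_twelve

theorem ζu_twelve : ζu ^ 12 = 1 := Units.ext (by simpa [ζu] using ζ_twelve)

/-- The real value of a pair. -/
noncomputable def rval (v : ℤ × ℤ) : ℂ := v.1 + v.2 * ((√3 : ℝ) : ℂ)

theorem ev_rval (a b : ℤ) : ev (648 * a, 1296 * b, 0, -648 * b) = 648 * rval (a, b) := by
  rw [ev_apply, rval, ζ_cube]
  simp [ζ]
  ring

theorem conj_rval (v : ℤ × ℤ) : conj (rval v) = rval v := by
  simp [rval, Complex.conj_ofReal]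

theorem blt_iff (a b : Nat) : Nat.blt a b = true ↔ a < b := by
  rw [Nat.blt, Nat.ble_eq]; exact Iff.rfl

/-- The code of an element of the model. -/
noncomputable def cd (h : Hm) : Nat := enc (h : P9)

theorem cd_mul (a b : Hm) : cd (a * b) = mulC (cd a) (cd b) := (mulC_enc _ _).symm

theorem cd_inv (a : Hm) : cd a⁻¹ = invC (cd a) := (invC_enc _).symm

theorem cd_one : cd 1 = oneC := enc_one

theorem exp_lt_or {t : Nat} (ht : t ∈ idxs) (h : Hm) : expC t (cd h) < 12 ∨ expC t (cd h) = 15 := by
  have := List.all_eq_true.1 (exp_check t ht).1 _ (enc_mem h)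
  rw [Bool.or_eq_true, blt_iff, beq_eq] at this
  exact this

theorem hom_spec {t : Nat} (ht : t ∈ idxs) :
    expC t (cd 1) = 0 ∧ ∀ a : Hm, expC t (cd a) < 12 → expC t (cd a⁻¹) < 12 ∧
      ∀ b : Hm, expC t (cd b) < 12 → expC t (cd (a * b)) = (expC t (cd a) + expC t (cd b)) % 12 := by
  have h := hom_check t ht
  rw [Bool.and_eq_true, beq_eq] at h
  refine ⟨cd_one ▸ h.1, fun a ha => ?_⟩
  have hmem : ∀ c : Hm, expC t (cd c) < 12 →
      cd c ∈ L.filter fun m => Nat.blt (expC t m) 12 := fun c hc =>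
    List.mem_filter.2 ⟨enc_mem c, (blt_iff _ _).2 hc⟩
  have h2 := List.all_eq_true.1 h.2 _ (hmem a ha)
  rw [Bool.and_eq_true, blt_iff] at h2
  refine ⟨cd_inv a ▸ h2.1, fun b hb => ?_⟩
  rw [cd_mul]
  exact (beq_eq _ _).1 (List.all_eq_true.1 h2.2 _ (hmem b hb))

/-- The domain of a linear character. -/
def dom (t : Nat) (ht : t ∈ idxs) : Subgroup Hm where
  carrier := {h | expC t (cd h) < 12}
  one_mem' := by
    show expC t (cd 1) < 12
    rw [(hom_spec ht).1]; norm_num
  mul_mem' := fun {a b} ha hb => by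
    show expC t (cd (a * b)) < 12
    rw [((hom_spec ht).2 a ha).2 b hb]
    exact Nat.mod_lt _ (by norm_num)
  inv_mem' := fun {a} ha => ((hom_spec ht).2 a ha).1

/-- A linear character. -/
noncomputable def lin (t : Nat) (ht : t ∈ idxs) : dom t ht →* ℂˣ where
  toFun a := ζu ^ expC t (cd a.1)
  map_one' := by
    show ζu ^ expC t (cd 1) = 1
    rw [(hom_spec ht).1, pow_zero]
  map_mul' a b := by
    show ζu ^ expC t (cd (a.1 * b.1)) = _
    rw [((hom_spec ht).2 a.1 a.2).2 b.1 b.2, ← pow_add, ← pow_eq_pow_mod _ ζu_twelve]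

variable [Fintype Hm]

/-- An induced character, zero off the list of indices. -/
noncomputable def indF (t : Nat) : Hm → ℂ :=
  if ht : t ∈ idxs then indFun (dom t ht) (fun a => (lin t ht a : ℂ)) else 0

theorem extend_eq {t : Nat} (ht : t ∈ idxs) (y : Hm) :
    extendByZero (dom t ht) (fun a => (lin t ht a : ℂ)) y = ev (zvC t (cd y)) := by
  rcases exp_lt_or ht y with hy | hy
  · rw [extendByZero_of_mem _ _ (show y ∈ dom t ht from hy), zvC, ev_zpowT hy]
    simp [lin, ζu]
  · rw [extendByZero_of_not_mem _ _ (fun hm : expC t (cd y) < 12 => by omega), zvC, hy]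
    simp [zpowT]

theorem card_dom {t : Nat} (ht : t ∈ idxs) :
    Nat.card (dom t ht) = (L.filter fun m => Nat.blt (expC t m) 12).length := by
  classical
  have h1 : Nat.card (dom t ht) = ∑ h : Hm, (fun m => if Nat.blt (expC t m) 12 then 1 else 0) (cd h) := by
    rw [Nat.card_eq_fintype_card, Fintype.card_subtype, Finset.card_filter]
    refine Finset.sum_congr rfl fun h _ => ?_
    show _ = if Nat.blt (expC t (cd h)) 12 = true then 1 else 0
    congr 1
    exact propext (blt_iff (expC t (cd h)) 12).symm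
  rw [h1]
  show ∑ h : Hm, (fun m => if Nat.blt (expC t m) 12 then 1 else 0) (enc (h : P9)) = _
  refine (sum_Hm (fun m => if Nat.blt (expC t m) 12 then 1 else 0)).trans ?_
  rw [← List.countP_eq_length_filter]
  generalize L = l
  induction l with
  | nil => rfl
  | cons a l ih =>
    rw [List.map_cons, List.sum_cons, ih, List.countP_cons]
    split <;> omega

theorem ev_indL (l : List Nat) (t r : Nat) :
    ev (indL l t r) = (l.map fun x => ev (zvC t (mulC (mulC (invC x) r) x))).sum := by
  induction l with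
  | nil => exact map_zero ev
  | cons a l ih =>
    rw [List.map_cons, List.sum_cons, ← ih, ← map_add]
    rfl

theorem sum_cd {M : Type*} [AddCommMonoid M] (F : Nat → M) : ∑ h : Hm, F (cd h) = (L.map F).sum :=
  sum_Hm F

theorem indF_value {t : Nat} (ht : t ∈ idxs) (g : Hm) :
    648 * indF t g = (multT.getD t 0 : ℂ) * ev (indL L t (cd g)) := by
  rw [indF, dif_pos ht, indFun_apply, card_dom ht]
  simp only [extend_eq ht, cd_mul, cd_inv]
  rw [sum_cd (fun m => ev (zvC t (mulC (mulC (invC m) (cd g)) m))), ev_indL]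
  have hm := congrArg (fun z : ℤ => (z : ℂ)) (exp_check t ht).2
  simp only [Int.cast_mul, Int.cast_natCast, Int.cast_ofNat] at hm
  generalize (L.filter fun m => Nat.blt (expC t m) 12).length = N at hm ⊢
  generalize (L.map fun m => ev (zvC t (mulC (mulC (invC m) (cd g)) m))).sum = T
  have hne : (N : ℂ) ≠ 0 := fun e => by
    rw [e, mul_zero] at hm; norm_num at hm
  rw [← hm]
  field_simp

/-- The virtual characters. -/
noncomputable def psi (i : Fin 6) : Hm → ℂ := fun h =>
  (idxs.map fun t => ((coefT i).getD t 0 : ℂ) * indF t h).sum + (cstT i : ℂ)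

theorem isGeneralized_lin (L' : List (ℤ × (Hm → ℂ))) (c : ℤ)
    (hL : ∀ p ∈ L', IsGeneralizedCharacter Hm p.2) :
    IsGeneralizedCharacter Hm (fun h => (L'.map fun p => (p.1 : ℂ) * p.2 h).sum + (c : ℂ)) := by
  induction L' with
  | nil =>
    refine isGeneralized_iff_inner.2 ⟨fun _ _ => rfl, fun χ => ?_⟩
    obtain ⟨m, hm⟩ := inner_irr_right_nat isCharacter_one χ
    refine ⟨c * m, ?_⟩
    simp only [List.map_nil, List.sum_nil, zero_add]
    rw [show (fun _ : Hm => (c : ℂ)) = (c : ℂ) • (fun _ : Hm => (1 : ℂ)) from funext fun _ => by simp,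
      Chars.inner_smul_left, hm]
    push_cast
    rfl
  | cons p L' ih =>
    have hp := isGeneralized_iff_inner.1 (hL p (List.mem_cons_self ..))
    have hr := isGeneralized_iff_inner.1 (ih fun q hq => hL q (List.mem_cons_of_mem _ hq))
    rw [show (fun h => ((p :: L').map fun p => (p.1 : ℂ) * p.2 h).sum + (c : ℂ)) =
      (p.1 : ℂ) • p.2 + fun h => (L'.map fun p => (p.1 : ℂ) * p.2 h).sum + (c : ℂ) from
      funext fun h => by simp [add_assoc]]
    refine isGeneralized_iff_inner.2
      ⟨isClassFunction_add (isClassFunction_smul _ hp.1) hr.1, fun χ => ?_⟩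
    obtain ⟨a, ha⟩ := hp.2 χ
    obtain ⟨b, hb⟩ := hr.2 χ
    exact ⟨p.1 * a + b, by rw [Chars.inner_add_left, Chars.inner_smul_left, ha, hb]; push_cast; rfl⟩

theorem isGeneralized_psi (i : Fin 6) : IsGeneralizedCharacter Hm (psi i) := by
  have h := isGeneralized_lin (idxs.map fun t => ((coefT i).getD t 0, indF t)) (cstT i) (by
    simp only [List.mem_map]
    rintro _ ⟨t, ht, rfl⟩
    rw [show indF t = indFun (dom t ht) (fun a => (lin t ht a : ℂ)) from dif_pos ht]
    refine isGeneralized_indFun _ ?_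
    haveI := Fintype.ofFinite (dom t ht)
    have hc := isCharacter_of_irr (isIrrCharacter_linear (lin t ht))
    exact isGeneralized_iff_inner.2 ⟨isClassFunction_of_isCharacter hc, fun χ => by
      obtain ⟨m, hm⟩ := inner_irr_right_nat hc χ
      exact ⟨m, by rw [hm]; simp⟩⟩)
  simp only [List.map_map] at h
  exact h

theorem exists_conj_rep (g : Hm) : ∃ w r : Hm, w * r * w⁻¹ = g ∧ cd r = repC (clsC (cd g)) ∧
    clsC (cd g) < 14 := by
  have h := List.all_eq_true.1 tab_check _ (enc_mem g)
  simp only [Bool.and_eq_true, List.any_eq_true, beq_eq, blt_iff, exists_eq_right'] at h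
  obtain ⟨⟨⟨hw, hr⟩, hlt⟩, he⟩ := h
  obtain ⟨w, hw⟩ := mem_L.1 hw
  obtain ⟨r, hr⟩ := mem_L.1 hr
  refine ⟨w, r, Subtype.ext (enc_inj ?_), hr, hlt⟩
  rw [Subgroup.coe_mul, Subgroup.coe_mul, Subgroup.coe_inv, ← mulC_enc, ← mulC_enc, ← invC_enc,
    hw, hr]
  exact he

theorem cls_rep {c : Nat} (hc : c < 14) : clsC (repC c) = c :=
  (beq_eq _ _).1 (List.all_eq_true.1 reps_cls c (List.mem_range.2 hc))

theorem psi_value (i : Fin 6) (g : Hm) : psi i g = rval (valC i (cd g)) := by
  obtain ⟨w, r, rfl, hr, hlt⟩ := exists_conj_rep g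
  rw [isClassFunction_of_isGeneralized (isGeneralized_psi i) r w]
  have hc : clsC (cd r) = clsC (cd (w * r * w⁻¹)) := by rw [hr, cls_rep hlt]
  have hv : valC i (cd (w * r * w⁻¹)) = valC i (cd r) := by rw [valC, valC, hc]
  rw [hv]
  have hk := congrArg ev (val_check i _ (List.mem_range.2 hlt))
  rw [← hr, ev_rval, map_add, map_list_sum, List.map_map,
    show ev (648 * cstT i, 0, 0, 0) = 648 * (cstT i : ℂ) by simp [ev_apply]] at hk
  refine mul_left_cancel₀ (b := psi i r) (show (648 : ℂ) ≠ 0 by norm_num) (Eq.trans ?_ hk)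
  rw [psi, mul_add, ← List.sum_map_mul_left]
  congr 2
  refine List.map_congr_left fun t ht => ?_
  show 648 * (((coefT i).getD t 0 : ℂ) * indF t r) = ev (_ • indL L t (cd r))
  rw [mul_left_comm, indF_value ht, map_zsmul, zsmul_eq_mul]
  push_cast
  ring

theorem classInner_rval (F : Hm → ℂ) (f : Nat → ℤ × ℤ) (A B : ℤ)
    (hF : ∀ h, F h = rval (f (cd h))) (hA : (L.map fun m => (f m).1).sum = A)
    (hB : (L.map fun m => (f m).2).sum = B) :
    (Nat.card Hm : ℂ)⁻¹ * ∑ h : Hm, F h = (648 : ℂ)⁻¹ * rval (A, B) := by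
  rw [card_Hm, Finset.sum_congr rfl fun h _ => hF h]
  show _ * ∑ h : Hm, (fun m => rval (f m)) (enc (h : P9)) = _
  rw [show ∑ h : Hm, (fun m => rval (f m)) (enc (h : P9)) = _ from sum_Hm (fun m => rval (f m)),
    ← hA, ← hB]
  congr 1
  generalize L = l
  induction l with
  | nil => simp [rval]
  | cons a l ih =>
    rw [List.map_cons, List.sum_cons, ih, List.map_cons, List.sum_cons, List.map_cons, List.sum_cons]
    simp only [rval]
    push_cast
    ring

theorem classInner_psi (i j : Fin 6) : classInner (psi i) (psi j) = (gram i j : ℂ) := by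
  rw [inner_def, classInner_rval _ (fun m => ((valC i m).1 * (valC j m).1 +
    3 * ((valC i m).2 * (valC j m).2), (valC i m).1 * (valC j m).2 + (valC i m).2 * (valC j m).1))
    (648 * gram i j) 0 (fun h => ?_) (gram_check i j).1 (gram_check i j).2]
  · simp [rval]
  · rw [psi_value, psi_value, conj_rval]
    simp only [rval]
    push_cast
    linear_combination ((valC i (cd h)).2 * (valC j (cd h)).2 : ℂ) * sqrt_sq

theorem classInner_one (i : Fin 6) :
    classInner (psi i) (fun _ => 1) = (principalPart i : ℂ) := by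
  rw [inner_def, classInner_rval _ (valC i) (648 * principalPart i) 0 (fun h => ?_)
    (one_check i).1 (one_check i).2]
  · simp [rval]
  · rw [psi_value, map_one, mul_one]

theorem invCls_conj (k : Fin 2) (w v : Hm) : InvCls k (w * v * w⁻¹) ↔ InvCls k v := by
  have hfix : fixCard (w * v * w⁻¹) = fixCard v := by
    refine Finset.card_equiv ((w : P9)⁻¹) fun a => ?_
    rw [Finset.mem_filter, Finset.mem_filter]
    simp only [Finset.mem_univ, true_and]
    show (w : P9) ((v : P9) ((w : P9)⁻¹ a)) = a ↔ (v : P9) ((w : P9)⁻¹ a) = (w : P9)⁻¹ a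
    exact Perm.eq_inv_iff_eq.symm
  unfold InvCls
  rw [hfix, Subgroup.coe_mul, Subgroup.coe_mul, Subgroup.coe_inv,
    show (w : P9) * v * (w : P9)⁻¹ * ((w : P9) * v * (w : P9)⁻¹) =
      (w : P9) * ((v : P9) * v) * (w : P9)⁻¹ by group, conj_eq_one_iff]

theorem pairs_conj (k l : Fin 2) (w r : Hm) : pairs k l (w * r * w⁻¹) = pairs k l r := by
  refine (Nat.card_congr ((MulAut.conj w).toEquiv.subtypeEquiv fun v => ?_)).symm
  show _ ↔ InvCls k (w * v * w⁻¹) ∧ InvCls l (w * v * w⁻¹ * (w * r * w⁻¹))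
  rw [conj_mul, invCls_conj, invCls_conj]

theorem pairs_value (k l : Fin 2) (g : Hm) : pairs k l g = pairC k l (cd g) := by
  classical
  obtain ⟨w, r, rfl, hr, hlt⟩ := exists_conj_rep g
  have hc : clsC (cd r) = clsC (cd (w * r * w⁻¹)) := by rw [hr, cls_rep hlt]
  have hp : pairC k l (cd (w * r * w⁻¹)) = pairC k l (cd r) := by rw [pairC, pairC, hc]
  rw [pairs_conj, hp]
  conv_rhs => rw [hr, ← pair_check k l _ (List.mem_range.2 hlt), ← hr]
  have h1 : pairs k l r = ∑ v : Hm,
      (fun m => if (invClsC k m && invClsC l (mulC m (cd r))) = true then 1 else 0) (enc (v : P9)) := by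
    rw [pairs, Nat.card_eq_fintype_card, Fintype.card_subtype, Finset.card_filter]
    refine Finset.sum_congr rfl fun v _ => ?_
    congr 1
    rw [Bool.and_eq_true, cd, mulC_enc, invClsC_iff]
    exact propext (and_congr Iff.rfl (invClsC_iff l (v * r)).symm)
  rw [h1]
  refine (sum_Hm (fun m => if (invClsC k m && invClsC l (mulC m (cd r))) = true then 1 else 0)).trans ?_
  generalize L = ls
  induction ls with
  | nil => rfl
  | cons a ls ih =>
    rw [List.map_cons, List.sum_cons, ih, List.countP_cons]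
    split <;> omega

theorem pairSum_eq : ∀ i : Fin 6, ∀ k l : Fin 2, pairSum i k l = (pairSum2 i k l : ℚ) / 2 := by
  decide +kernel

theorem classInner_pairs (i : Fin 6) (k l : Fin 2) :
    classInner (fun h => (pairs k l h : ℂ)) (psi i) = (pairSum i k l : ℂ) := by
  rw [inner_def, classInner_rval _ (fun m => ((pairC k l m : ℤ) * (valC i m).1,
    (pairC k l m : ℤ) * (valC i m).2)) _ 0 (fun h => ?_) rfl (pairSum_check i k l).2]
  · have h2 := congrArg (fun z : ℤ => (z : ℂ)) (pairSum_check i k l).1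
    rw [pairSum_eq]
    simp only [Int.cast_mul, Int.cast_ofNat] at h2
    simp only [rval, Int.cast_zero, zero_mul, add_zero]
    generalize (L.map fun m => (pairC k l m : ℤ) * (valC i m).1).sum = T at h2 ⊢
    push_cast
    linear_combination (1 / 1296 : ℂ) * h2
  · rw [psi_value, conj_rval, pairs_value]
    simp only [rval]
    push_cast
    ring

omit [Fintype Hm] in
/-- The model of the local case. -/
theorem model : StmtModel := by
  intro _
  refine ⟨psi, isGeneralized_psi, fun i h hh => ?_, classInner_psi, classInner_one,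
    fun i k l => classInner_pairs i k l⟩
  have := List.all_eq_true.1 (supp_check i) _ (enc_mem h)
  rw [Bool.or_eq_true, decide_eq_true_eq, inDC_iff] at this
  rw [psi_value, cd, this.resolve_left hh]
  simp [rval]

end CfsgLib.ANineThree.CaseC
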