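import Mathlib
import Cfsg.Prelude
import Cfsg.Agent.S3341
import Cfsg.Agent.S3347

/-!
Groups with a Sylow `3`-subgroup `P` of order nine that is self-centralizing at every point and has
a cyclic automizer of order four: either `P` is normal or the group is alternating of degree six.
-/

set_option autoImplicit false
set_option linter.style.haveILetI false
set_option linter.unusedSectionVars false

namespace CfsgLib.ANineThree.CentZ

open Subgroup

universe u

theorem pResidual_normal' (p : ℕ) (G : Type u) [Group G] : (Cfsg.pResidual p G).Normal := by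
  refine ⟨fun n hn g => ?_⟩
  suffices h : (Cfsg.pResidual p G).map (MulAut.conj g).toMonoidHom ≤ Cfsg.pResidual p G from
    h ⟨n, hn, rfl⟩
  rw [Cfsg.pResidual, MonoidHom.map_closure, closure_le]
  rintro _ ⟨x, hx, rfl⟩
  refine subset_closure ?_
  simpa [(SemiconjBy.orderOf_eq g (SemiconjBy.conj_mk g x) :)] using hx

theorem exists_three_pow_mem {G : Type u} [Group G] [Finite G] (g : G) :
    ∃ k : ℕ, g ^ 3 ^ k ∈ Cfsg.pResidual 3 G := by
  obtain ⟨k, m, hm, he⟩ := Nat.exists_eq_pow_mul_and_not_dvd (orderOf_pos g).ne' 3 (by norm_num)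
  refine ⟨k, subset_closure ?_⟩
  show Nat.Coprime (orderOf (g ^ 3 ^ k)) 3
  rw [orderOf_pow_of_dvd (by positivity) ⟨m, he⟩, he, Nat.mul_div_cancel_left _ (by positivity)]
  exact ((Nat.Prime.coprime_iff_not_dvd Nat.prime_three).2 hm).symm

theorem sSup_comap_bot {X : Type u} [Group X] [IsSimpleGroup X] (U : Subgroup X) [U.Normal]
    (hU : U = ⊥) (Q : Subgroup (X ⧸ U) → Prop) (hn : ∀ N, Q N → N.Normal) (h : ¬ Q ⊤) :
    (sSup {N | Q N}).comap (QuotientGroup.mk' U) = ⊥ := by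
  have : sSup {N | Q N} = ⊥ := by
    refine le_bot_iff.1 (sSup_le fun N hN => ?_)
    have hs := QuotientGroup.mk'_surjective U
    rw [← map_comap_eq_self_of_surjective hs N]
    rcases ((hn N hN).comap (QuotientGroup.mk' U)).eq_bot_or_eq_top with e | e <;> rw [e]
    · simp
    · refine absurd hN ?_
      rw [← map_comap_eq_self_of_surjective hs N, e, map_top_of_surjective _ hs]
      exact h
  rw [this, MonoidHom.comap_bot, QuotientGroup.ker_mk', hU]

/-- The upper series of a simple group which is not a `3`-group but has order divisible by three is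
trivial. -/
theorem not_pLengthLE {X : Type u} [Group X] [Finite X] [IsSimpleGroup X]
    (h3 : 3 ∣ Nat.card X) (hp : ¬ IsPGroup 3 X) : ¬ Cfsg.PLengthLE 3 1 X := by
  have key : ∀ n, (Cfsg.upperPSeries 3 X n).1 = ⊥ := by
    intro n
    induction n with
    | zero => rfl
    | succ n ih =>
      have hcard : Nat.card (X ⧸ (Cfsg.upperPSeries 3 X n).1) = Nat.card X := by
        show (Cfsg.upperPSeries 3 X n).1.index = _
        rw [ih, index_bot]
      rw [Cfsg.upperPSeries]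
      split_ifs with he
      · refine sSup_comap_bot _ ih _ (fun N hN => hN.1) fun hN => ?_
        have := hN.2
        rw [card_top, hcard] at this
        exact (Nat.Prime.coprime_iff_not_dvd Nat.prime_three).1 this.symm h3
      · refine sSup_comap_bot _ ih _ (fun N hN => hN.1) fun hN => hp ?_
        obtain ⟨k, hk⟩ := IsPGroup.iff_card.1 hN.2
        rw [card_top, hcard] at hk
        exact IsPGroup.of_card hk
  intro h
  rw [Cfsg.PLengthLE, key] at h
  exact bot_ne_top h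

/-- A Sylow subgroup of order nine with the local structure of the alternating group of degree
six. -/
structure Nine (G : Type u) [Group G] (P : Subgroup G) (c : G) : Prop where
  card : Nat.card P = 9
  not_dvd : ¬ 27 ∣ Nat.card G
  comm : ∀ a ∈ P, ∀ b ∈ P, a * b = b * a
  exp : ∀ a ∈ P, a ^ 3 = 1
  four : c ^ 4 = 1
  nor_c : c ∈ normalizer (P : Set G)
  nor : ∀ n ∈ normalizer (P : Set G), ∃ q ∈ P, ∃ l : ℕ, n = q * c ^ l
  gen : ∀ a ∈ P, a ≠ 1 → P ≤ closure {a, c * a * c⁻¹}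
  cent : ∀ a ∈ P, a ≠ 1 → centralizer ({a} : Set G) = P
  sig : ∀ W : Subgroup G, (Nat.card W).Coprime 3 →
    (∀ q ∈ P, ∀ w ∈ W, q * w * q⁻¹ ∈ W) → W = ⊥
  classes : ∃ a b : G, orderOf a = 3 ∧ orderOf b = 3 ∧ ∀ g : G, g * a * g⁻¹ ≠ b

variable {G : Type u} [Group G] [Finite G] {P : Subgroup G} {c : G}

theorem Nine.sylow (h : Nine G P c) : ∃ T : Sylow 3 G, (T : Subgroup G) = P := by
  haveI : Fact (Nat.Prime 3) := ⟨Nat.prime_three⟩
  refine ⟨(IsPGroup.of_card (n := 2) h.card).toSylow fun hd => h.not_dvd ?_, rfl⟩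
  rw [← P.card_mul_index, h.card]
  obtain ⟨k, hk⟩ := hd
  exact ⟨k, by omega⟩

theorem Nine.exists_ne_one (h : Nine G P c) : ∃ a ∈ P, a ≠ 1 := by
  refine P.nontrivial_iff_exists_ne_one.1 ?_
  rw [← Finite.one_lt_card_iff_nontrivial, h.card]
  norm_num

/-- A subgroup normalized by a normal subgroup containing `P` meets `P`. -/
theorem Nine.meet (h : Nine G P c) {X : Subgroup G} (hPX : P ≤ X) {Y : Subgroup G} (hYX : Y ≤ X)
    (hY : Y ≠ ⊥) (hn : ∀ x ∈ X, ∀ y ∈ Y, x * y * x⁻¹ ∈ Y) : ∃ a ∈ P, a ∈ Y ∧ a ≠ 1 := by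
  haveI : Fact (Nat.Prime 3) := ⟨Nat.prime_three⟩
  obtain ⟨T, hT⟩ := h.sylow
  have h3 : 3 ∣ Nat.card Y := by
    by_contra hd
    exact hY (h.sig Y ((Nat.Prime.coprime_iff_not_dvd Nat.prime_three).2 hd).symm
      fun q hq w hw => hn q (hPX hq) w hw)
  obtain ⟨⟨y, hy⟩, hyo⟩ := exists_prime_orderOf_dvd_card' 3 h3
  have hyo' : orderOf y = 3 := by rw [← hyo, ← orderOf_coe]
  have hyX : (⟨y, hYX hy⟩ : X) ≠ 1 := fun e => by
    have : y = 1 := congrArg Subtype.val e
    rw [this, orderOf_one] at hyo'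
    omega
  have hp : IsPGroup 3 (zpowers (⟨y, hYX hy⟩ : X)) := by
    refine IsPGroup.of_card (n := 1) ?_
    rw [Nat.card_zpowers, ← orderOf_coe, hyo', pow_one]
  obtain ⟨Q, hQ⟩ := hp.exists_le_sylow
  have hTX : (T : Subgroup G) ≤ X := hT ▸ hPX
  obtain ⟨x, hx⟩ := MulAction.exists_smul_eq X Q (T.subtype hTX)
  have hmem : x * ⟨y, hYX hy⟩ * x⁻¹ ∈ (T.subtype hTX : Subgroup X) := by
    rw [← hx, Sylow.coe_subgroup_smul]
    exact mem_map_of_mem _ (hQ (mem_zpowers _))
  rw [Sylow.coe_subtype, mem_subgroupOf, hT] at hmem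
  refine ⟨_, hmem, hn x x.2 y hy, fun e => hyX ?_⟩
  have : x * ⟨y, hYX hy⟩ * x⁻¹ = 1 := Subtype.ext e
  exact conj_eq_one_iff.1 this

/-- A subgroup containing `P` and normalized by the normal closure contains it. -/
theorem Nine.closure_le' (h : Nine G P c) {Z : Subgroup G} (hPZ : P ≤ Z)
    (hn : ∀ x ∈ normalClosure (P : Set G), ∀ y ∈ Z, x * y * x⁻¹ ∈ Z) :
    normalClosure (P : Set G) ≤ Z := by
  haveI : Fact (Nat.Prime 3) := ⟨Nat.prime_three⟩
  obtain ⟨T, hT⟩ := h.sylow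
  have hPX : P ≤ normalClosure (P : Set G) := subset_normalClosure
  have hF := T.normalizer_sup_eq_top' (N := normalClosure (P : Set G)) (hT ▸ hPX)
  rw [sup_comm] at hF
  refine (closure_le Z).2 fun w hw => ?_
  obtain ⟨q, hq, hc⟩ := Group.mem_conjugatesOfSet_iff.1 hw
  obtain ⟨g, rfl⟩ := isConj_iff.1 hc
  obtain ⟨x, hx, n, hn', rfl⟩ := mem_sup_of_normal_left.1 (hF ▸ mem_top g)
  have h1 : n * q * n⁻¹ ∈ P := by
    rw [SetLike.mem_coe] at hq
    rw [← hT] at hq ⊢
    exact (mem_set_normalizer_iff.1 hn' q).1 hq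
  have h2 := hn x hx _ (hPZ h1)
  rw [SetLike.mem_coe]
  convert h2 using 1
  group

/-- The normal closure of `P` is simple unless `P` is normal. -/
theorem Nine.simple (h : Nine G P c) (hP : ¬ P.Normal) :
    IsSimpleGroup (normalClosure (P : Set G)) := by
  set X := normalClosure (P : Set G) with hX
  have hXn : X.Normal := normalClosure_normal
  have hPX : P ≤ X := subset_normalClosure
  obtain ⟨a0, ha0, ha0'⟩ := h.exists_ne_one
  haveI : Nontrivial X := X.nontrivial_iff_exists_ne_one.2 ⟨a0, hPX ha0, ha0'⟩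
  refine ⟨fun Y₀ hY₀ => or_iff_not_imp_left.2 fun hne => ?_⟩
  set Y := Y₀.map X.subtype with hY
  have hYX : Y ≤ X := map_subtype_le _
  have hn : ∀ x ∈ X, ∀ y ∈ Y, x * y * x⁻¹ ∈ Y := by
    rintro x hx _ ⟨y, hy, rfl⟩
    exact ⟨⟨x, hx⟩ * y * ⟨x, hx⟩⁻¹, hY₀.conj_mem y hy _, rfl⟩
  suffices hXY : X ≤ Y by
    refine (eq_top_iff' _).2 fun x => ?_
    obtain ⟨y, hy, he⟩ := hXY x.2
    rwa [← Subtype.ext (a1 := y) (a2 := x) he]
  have hY0 : Y ≠ ⊥ := fun e => hne (map_eq_bot_iff_of_injective _ (subtype_injective _) |>.1 e)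
  have conjX : ∀ {w g : G}, w ∈ X → g * w * g⁻¹ ∈ X := fun hw => hXn.conj_mem _ hw _
  by_contra hlt
  set Y' := Y.map (MulAut.conj c).toMonoidHom with hY'
  have hY'X : Y' ≤ X := by
    rintro _ ⟨y, hy, rfl⟩
    exact conjX (hYX hy)
  have hn' : ∀ x ∈ X, ∀ y ∈ Y', x * y * x⁻¹ ∈ Y' := by
    rintro x hx _ ⟨y, hy, rfl⟩
    refine ⟨c⁻¹ * x * c * y * (c⁻¹ * x * c)⁻¹, hn _ ?_ y hy, ?_⟩
    · simpa using conjX (g := c⁻¹) hx
    · simp only [MulEquiv.coe_toMonoidHom, MulAut.conj_apply]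
      group
  have hcP : ∀ {q : G}, q ∈ P → c * q * c⁻¹ ∈ P := fun hq =>
    (mem_set_normalizer_iff.1 h.nor_c _).1 hq
  have hcP' : ∀ {q : G}, q ∈ P → c⁻¹ * q * c ∈ P := fun {q} hq => by
    simpa using (mem_set_normalizer_iff.1 (inv_mem h.nor_c) q).1 hq
  have hfull : ∀ b ∈ P, b ≠ 1 → b ∈ Y → c * b * c⁻¹ ∈ Y → False := fun b hb hb1 hbY hcbY => by
    refine hlt (h.closure_le' ((h.gen b hb hb1).trans ?_) hn)
    rw [closure_le]
    rintro _ (rfl | rfl)
    · exact hbY
    · exact hcbY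
  have hbot : Y ⊓ Y' = ⊥ := by
    by_contra hb
    obtain ⟨b, hbP, hbI, hb1⟩ := h.meet hPX (inf_le_left.trans hYX) hb
      fun x hx y hy => mem_inf.2 ⟨hn x hx y (mem_inf.1 hy).1, hn' x hx y (mem_inf.1 hy).2⟩
    obtain ⟨hbY, hbY'⟩ := mem_inf.1 hbI
    obtain ⟨b', hb', he⟩ := hbY'
    have hb'e : b' = c⁻¹ * b * c := by
      rw [← he]
      simp only [MulEquiv.coe_toMonoidHom, MulAut.conj_apply]
      group
    refine hfull b' (hb'e ▸ hcP' hbP) (fun e => hb1 (he ▸ ?_)) hb' ?_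
    · simp [e]
    · rw [hb'e, show c * (c⁻¹ * b * c) * c⁻¹ = b by group]
      exact hbY
  have hcomm : ∀ y ∈ Y, ∀ y' ∈ Y', y * y' = y' * y := fun y hy y' hy' => by
    have h1 : y * y' * y⁻¹ * y'⁻¹ ∈ Y ⊓ Y' := by
      refine mem_inf.2 ⟨?_, mul_mem (hn' y (hYX hy) y' hy') (inv_mem hy')⟩
      rw [show y * y' * y⁻¹ * y'⁻¹ = y * (y' * y⁻¹ * y'⁻¹) by group]
      exact mul_mem hy (hn y' (hY'X hy') _ (inv_mem hy))
    rw [hbot, mem_bot] at h1
    rwa [mul_inv_eq_one, mul_inv_eq_iff_eq_mul] at h1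
  obtain ⟨a, haP, haY, ha1⟩ := h.meet hPX hYX hY0 hn
  have hcaY' : c * a * c⁻¹ ∈ Y' := ⟨a, haY, rfl⟩
  have hca1 : c * a * c⁻¹ ≠ 1 := fun e => ha1 (conj_eq_one_iff.1 e)
  have hY'P : Y' ≤ P := fun y' hy' => by
    rw [← h.cent a haP ha1, mem_centralizer_singleton_iff]
    exact (hcomm a haY y' hy').symm
  have hYP : Y ≤ P := fun y hy => by
    rw [← h.cent _ (hcP haP) hca1, mem_centralizer_singleton_iff]
    exact hcomm y hy _ hcaY'
  have hsup : P ≤ Y ⊔ Y' := by
    refine (h.gen a haP ha1).trans ?_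
    rw [closure_le]
    rintro _ (rfl | rfl)
    · exact mem_sup_left haY
    · exact mem_sup_right hcaY'
  have he : Y ⊔ Y' = P := le_antisymm (sup_le hYP hY'P) hsup
  refine hP ?_
  have hXP : X ≤ P := by
    refine h.closure_le' le_rfl fun x hx q hq => ?_
    rw [← he] at hq ⊢
    suffices hle : (Y ⊔ Y').map (MulAut.conj x).toMonoidHom ≤ Y ⊔ Y' from hle ⟨q, hq, rfl⟩
    rw [Subgroup.map_sup]
    refine sup_le_sup ?_ ?_ <;> rintro _ ⟨w, hw, rfl⟩
    · exact hn x hx w hw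
    · exact hn' x hx w hw
  rwa [← le_antisymm hXP hPX]

/-- Either `P` is normal or the group is alternating of degree six. -/
theorem Nine.result (h : Nine G P c) :
    P.Normal ∨ Nonempty (G ≃* alternatingGroup (Fin 6)) := by
  refine or_iff_not_imp_left.2 fun hP => ?_
  haveI : Fact (Nat.Prime 3) := ⟨Nat.prime_three⟩
  set X := normalClosure (P : Set G) with hX
  haveI hXn : X.Normal := normalClosure_normal
  have hPX : P ≤ X := subset_normalClosure
  haveI := h.simple hP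
  obtain ⟨T, hT⟩ := h.sylow
  have hTX : (T : Subgroup G) ≤ X := hT ▸ hPX
  set TX := T.subtype hTX with hTXdef
  have hmemT : ∀ x : X, x ∈ (TX : Subgroup X) ↔ (x : G) ∈ P := fun x => by
    rw [hTXdef, Sylow.coe_subtype, mem_subgroupOf, hT]
  have h3 : 3 ∣ Nat.card X :=
    (h.card ▸ (by norm_num : 3 ∣ 9) : 3 ∣ Nat.card P).trans (card_dvd_of_le hPX)
  have hnp : ¬ IsPGroup 3 X := fun hp => by
    obtain ⟨Q, hQ⟩ := hp.exists_le_sylow
    have h1 : Nat.card X ≤ Nat.card P := by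
      rw [← hT, T.card_eq_multiplicity, ← Q.card_eq_multiplicity]
      exact card_le_of_le hQ
    exact hP (eq_of_le_of_card_ge hPX h1 ▸ hXn)
  have hnorX : ∀ n : X, n ∈ normalizer ((TX : Subgroup X) : Set X) →
      (n : G) ∈ normalizer (P : Set G) := fun n hn => by
    refine mem_set_normalizer_iff.2 fun q => ?_
    constructor
    · intro hq
      exact (hmemT _).1 ((mem_set_normalizer_iff.1 hn ⟨q, hPX hq⟩).1 ((hmemT _).2 hq))
    · intro hq
      have := (hmemT _).1 ((mem_set_normalizer_iff.1 (inv_mem hn) ⟨_, hPX hq⟩).1 ((hmemT _).2 hq))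
      simpa [mul_assoc] using this
  have hcl : ∀ {n : G}, n ∈ X → n ∈ normalizer (P : Set G) → c ∈ X ∨ n ∈ P ∨
      (c ^ 2 ∈ X ∧ ∃ q ∈ P, n = q * c ^ 2) := fun {n} hnX hn => by
    obtain ⟨q, hq, l, rfl⟩ := h.nor n hn
    have hl : c ^ l = c ^ (l % 4) := by
      conv_lhs => rw [← Nat.div_add_mod l 4, pow_add, pow_mul, h.four, one_pow, one_mul]
    have hclX : c ^ (l % 4) ∈ X := by
      rw [← hl]
      simpa using mul_mem (inv_mem (hPX hq)) hnX
    rw [hl]
    have hlt : l % 4 < 4 := Nat.mod_lt _ (by norm_num)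
    interval_cases (l % 4)
    · exact Or.inr (Or.inl (by simpa using hq))
    · exact Or.inl (by simpa using hclX)
    · exact Or.inr (Or.inr ⟨hclX, q, hq, rfl⟩)
    · left
      have : c = (c ^ 3)⁻¹ := by
        refine eq_inv_of_mul_eq_one_left ?_
        rw [← pow_succ', h.four]
      rw [this]
      exact inv_mem hclX
  have hcent : ∀ n : X, n ∈ centralizer ((TX : Subgroup X) : Set X) ↔ (n : G) ∈ P := fun n => by
    constructor
    · intro hn
      obtain ⟨a, ha, ha1⟩ := h.exists_ne_one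
      rw [← h.cent a ha ha1, mem_centralizer_singleton_iff]
      exact (congrArg Subtype.val (mem_centralizer_iff.1 hn ⟨a, hPX ha⟩ ((hmemT _).2 ha))).symm
    · intro hn
      exact mem_centralizer_iff.2 fun q hq => Subtype.ext (h.comm _ ((hmemT q).1 hq) _ hn)
  by_cases hc : c ∈ X
  · have htop : X = ⊤ := by
      rw [eq_top_iff, ← T.normalizer_sup_eq_top' hTX]
      refine sup_le (fun n hn => ?_) le_rfl
      change n ∈ normalizer ((T : Subgroup G) : Set G) at hn
      rw [hT] at hn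
      obtain ⟨q, hq, l, rfl⟩ := h.nor n hn
      exact mul_mem (hPX hq) (pow_mem hc l)
    haveI : IsSimpleGroup G := by
      haveI : IsSimpleGroup (⊤ : Subgroup G) := htop ▸ h.simple hP
      exact MulEquiv.isSimpleGroup Subgroup.topEquiv.symm
    exact Cfsg.Agent.S3341.result T P hT.symm
      ⟨⟨fun a b => Subtype.ext (h.comm a a.2 b b.2)⟩⟩ h.exp h.card h.classes h.cent
  exfalso
  by_cases hb : ∀ n : X, n ∈ normalizer ((TX : Subgroup X) : Set X) → (n : G) ∈ P
  · have hle : normalizer ((TX : Subgroup X) : Set X) ≤ centralizer ((TX : Subgroup X) : Set X) :=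
      fun n hn => (hcent n).2 (hb n hn)
    rcases (MonoidHom.normal_ker (MonoidHom.transferSylow TX hle)).eq_bot_or_eq_top with e | e
    · have hc' := MonoidHom.ker_transferSylow_isComplement' TX hle
      rw [e, isComplement'_bot_left] at hc'
      exact hnp ((TX.2.to_le (eq_top_iff.1 hc')).of_equiv Subgroup.topEquiv)
    · refine MonoidHom.not_dvd_card_ker_transferSylow TX hle ?_
      rw [e, card_top]
      exact h3
  push Not at hb
  obtain ⟨n0, hn0, hn0P⟩ := hb
  obtain ⟨hc2, q0, hq0, he0⟩ := ((hcl n0.2 (hnorX n0 hn0)).resolve_left hc).resolve_left hn0P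
  have hc2P : c ^ 2 ∉ P := fun hh => hn0P (he0 ▸ mul_mem hq0 hh)
  have hc2N : (⟨c ^ 2, hc2⟩ : X) ∈ normalizer ((TX : Subgroup X) : Set X) := by
    refine mem_set_normalizer_iff.2 fun q => ?_
    rw [SetLike.mem_coe, SetLike.mem_coe, hmemT, hmemT]
    exact mem_set_normalizer_iff.1 (pow_mem h.nor_c 2) q
  have hab : IsMulCommutative (TX : Subgroup X) :=
    ⟨⟨fun a b => Subtype.ext (Subtype.ext (h.comm _ ((hmemT _).1 a.2) _ ((hmemT _).1 b.2)))⟩⟩
  have hnc : ¬ IsCyclic (TX : Subgroup X) := fun hcy => by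
    obtain ⟨g, hg⟩ := hcy.exists_generator
    have h9 := orderOf_eq_card_of_forall_mem_zpowers hg
    have hcd : Nat.card (TX : Subgroup X) = 9 := by
      rw [hTXdef, Sylow.coe_subtype, Nat.card_congr (subgroupOfEquivOfLe hTX).toEquiv, hT, h.card]
    have h31 : g ^ 3 = 1 := Subtype.ext (Subtype.ext (h.exp _ ((hmemT _).1 g.2)))
    have := Nat.le_of_dvd (by norm_num) (orderOf_dvd_of_pow_eq_one h31)
    omega
  have hidx : ((centralizer ((TX : Subgroup X) : Set X)).subgroupOf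
      (normalizer ((TX : Subgroup X) : Set X))).index = 2 := by
    refine index_eq_two_iff.2 ⟨⟨⟨c ^ 2, hc2⟩, hc2N⟩, fun b => ?_⟩
    rw [mem_subgroupOf, mem_subgroupOf, hcent, hcent]
    show Xor (((b : X) : G) * c ^ 2 ∈ P) (((b : X) : G) ∈ P)
    by_cases hbP : ((b : X) : G) ∈ P
    · exact Or.inr ⟨hbP, fun hh => hc2P (by simpa using mul_mem (inv_mem hbP) hh)⟩
    · obtain ⟨-, q, hq, he⟩ :=
        ((hcl (b : X).2 (hnorX _ b.2)).resolve_left hc).resolve_left hbP
      refine Or.inl ⟨?_, hbP⟩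
      rw [he, mul_assoc, ← pow_add, h.four, mul_one]
      exact hq
  rcases Cfsg.Agent.S3347.result 3 (by norm_num) TX hab hnc hidx with hr | hr
  · have hr0 := ((pResidual_normal' 3 X).eq_bot_or_eq_top).resolve_right hr
    refine hnp fun g => ?_
    obtain ⟨k, hk⟩ := exists_three_pow_mem g
    rw [hr0, mem_bot] at hk
    exact ⟨k, hk⟩
  · exact not_pLengthLE h3 hnp hr

end CfsgLib.ANineThree.CentZ
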