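import Cfsg.Agent.Lib.ANineThree.Basic

/-!
The centralizer of `z` in the block stabilizer.
-/

set_option autoImplicit false
set_option maxRecDepth 100000
set_option maxHeartbeats 2000000

namespace CfsgLib.ANineThree.CentZ

open Equiv

/-- `(3 6 4 7)(5 8)` -/
def cH : Hm := ⟨swap 3 6 * swap 6 4 * swap 4 7 * swap 5 8, by decide +kernel⟩

/-- `(4 5)(7 8)` -/
def uP : P9 := swap 4 5 * swap 7 8

/-- The standard form of the elements centralizing `z`. -/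
def el (i j k l : ℕ) : Hm := zH ^ i * z2H ^ j * z3H ^ k * cH ^ l

theorem el_val (i j k l : ℕ) :
    ((el i j k l : Hm) : P9) = z ^ i * z2 ^ j * z3 ^ k * (cH : P9) ^ l := rfl

theorem coords : (∀ i : Fin 9, z i ≠ i ↔ i.1 < 3) ∧ z 0 = 1 ∧ z 1 = 2 ∧
    (∀ a : Fin 9, a.1 / 3 = 0 → ∃ k : Fin 3, (z ^ k.1) a = 0) ∧
    (∀ a : Fin 9, a.1 / 3 = 1 → ∃ k : Fin 3, (z2 ^ k.1) a = 3) ∧
    (∀ a : Fin 9, a.1 / 3 = 2 → ∃ k : Fin 3, (z3 ^ k.1) a = 6) ∧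
    (∀ k : Fin 3, ∀ i : Fin 9, ((z ^ k.1) i).1 / 3 = i.1 / 3 ∧ ((z2 ^ k.1) i).1 / 3 = i.1 / 3 ∧
      ((z3 ^ k.1) i).1 / 3 = i.1 / 3 ∧ (2 < i.1 → (z ^ k.1) i = i) ∧
      (i.1 / 3 ≠ 1 → (z2 ^ k.1) i = i) ∧ (i.1 / 3 ≠ 2 → (z3 ^ k.1) i = i)) ∧
    (∀ k : Fin 3, z ^ k.1 * z = z * z ^ k.1 ∧ z2 ^ k.1 * z = z * z2 ^ k.1 ∧
      z3 ^ k.1 * z = z * z3 ^ k.1) := by decide +kernel

theorem cH_facts : (cH : P9) * z = z * (cH : P9) ∧ (cH : P9)⁻¹ 3 = 7 ∧ (cH : P9) 0 = 0 ∧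
    ((cH : P9)⁻¹ 0 = 0) ∧ Perm.sign (swap (4 : Fin 9) 5) = -1 ∧
    Perm.sign (swap (7 : Fin 9) 8) = -1 ∧ cH ^ 4 = 1 := by decide +kernel

theorem recombine : ∀ a b d : Fin 3, ∀ l : Fin 2, ∀ e : Fin 2,
    ∃ i j k : Fin 3, ∃ m : Fin 4,
      (z ^ a.1)⁻¹ * (z2 ^ b.1)⁻¹ * (z3 ^ d.1)⁻¹ * uP ^ e.1 * (cH : P9) ^ l.1 =
        z ^ i.1 * z2 ^ j.1 * z3 ^ k.1 * (cH : P9) ^ m.1 := by
  suffices h : ∀ a b d : Fin 3, ∀ l : Fin 2, ∀ e : Fin 2,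
      (z ^ a.1)⁻¹ * (z2 ^ b.1)⁻¹ * (z3 ^ d.1)⁻¹ * uP ^ e.1 * (cH : P9) ^ l.1 =
        z ^ (-a).1 * z2 ^ (-b + 2 * ⟨e.1, by omega⟩ : Fin 3).1 *
          z3 ^ (-d + 2 * ⟨e.1, by omega⟩ : Fin 3).1 * (cH : P9) ^ (2 * e.1 + l.1) from
    fun a b d l e => ⟨_, _, _, ⟨2 * e.1 + l.1, by omega⟩, h a b d l e⟩
  decide +kernel

theorem block_cases {σ : P9} (hsign : Perm.sign σ = 1) (h0 : σ 0 = 0) (h1 : σ 1 = 1) (h2 : σ 2 = 2)
    (h3 : σ 3 = 3) (h6 : σ 6 = 6) (hb : ∀ i : Fin 9, (σ i).1 / 3 = i.1 / 3) :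
    ∃ e : Fin 2, σ = uP ^ e.1 := by
  have inj : ∀ {i j : Fin 9}, i ≠ j → σ i ≠ σ j := fun h e => h (σ.injective e)
  have p4 : σ 4 = 4 ∧ σ 5 = 5 ∨ σ 4 = 5 ∧ σ 5 = 4 := by
    have a1 := hb 4
    have a2 := hb 5
    have b1 := inj (show (4 : Fin 9) ≠ 3 by decide)
    have b2 := inj (show (5 : Fin 9) ≠ 3 by decide)
    have b3 := inj (show (4 : Fin 9) ≠ 5 by decide)
    rw [h3] at b1 b2
    revert a1 a2 b1 b2 b3
    generalize σ 4 = a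
    generalize σ 5 = b
    revert a b
    decide +kernel
  have p7 : σ 7 = 7 ∧ σ 8 = 8 ∨ σ 7 = 8 ∧ σ 8 = 7 := by
    have a1 := hb 7
    have a2 := hb 8
    have b1 := inj (show (7 : Fin 9) ≠ 6 by decide)
    have b2 := inj (show (8 : Fin 9) ≠ 6 by decide)
    have b3 := inj (show (7 : Fin 9) ≠ 8 by decide)
    rw [h6] at b1 b2
    revert a1 a2 b1 b2 b3
    generalize σ 7 = a
    generalize σ 8 = b
    revert a b
    decide +kernel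
  rcases p4 with ⟨e4, e5⟩ | ⟨e4, e5⟩ <;> rcases p7 with ⟨e7, e8⟩ | ⟨e7, e8⟩
  · refine ⟨0, Equiv.ext fun i => ?_⟩
    fin_cases i <;> simp_all
  · have : σ = swap (7 : Fin 9) 8 := Equiv.ext fun i => by
      fin_cases i <;> simp_all [swap_apply_def]
    rw [this, cH_facts.2.2.2.2.2.1] at hsign
    exact absurd hsign (by decide)
  · have : σ = swap (4 : Fin 9) 5 := Equiv.ext fun i => by
      fin_cases i <;> simp_all [swap_apply_def]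
    rw [this, cH_facts.2.2.2.2.1] at hsign
    exact absurd hsign (by decide)
  · refine ⟨1, Equiv.ext fun i => ?_⟩
    fin_cases i <;> simp_all [uP, swap_apply_def]

theorem exists_el (h : Hm) (hz : h * zH = zH * h) :
    ∃ i j k : Fin 3, ∃ l : Fin 4, h = el i.1 j.1 k.1 l.1 := by
  obtain ⟨c1, c2, c3, cz, c2z, c3z, cb, cc⟩ := coords
  obtain ⟨f1, f2, f3, f4, -⟩ := cH_facts
  set σ : P9 := (h : P9) with hσ
  have hcz : σ * z = z * σ := by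
    rw [hσ]
    exact congrArg Subtype.val hz
  have hzero : ∀ i : Fin 9, i.1 < 3 → (σ i).1 < 3 := fun i hi => by
    refine (c1 _).1 fun e => (c1 i).2 hi (σ.injective ?_)
    rw [← Perm.mul_apply, hcz, Perm.mul_apply, e]
  have hp := (mem_Hm.1 h.2).2
  rw [← hσ] at hp
  have h0 : (σ 0).1 / 3 = 0 := by have := hzero 0 (by decide); omega
  have hne : ∀ i : Fin 9, i.1 / 3 ≠ 0 → (σ i).1 / 3 ≠ 0 := fun i hi e => hi <| by
    have := (hp i 0).1 (by rw [e, h0])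
    simpa using this
  -- move the second block to itself
  obtain ⟨l, hl⟩ : ∃ l : Fin 2, ((σ * ((cH : P9) ^ l.1)⁻¹) 3).1 / 3 = 1 := by
    by_cases h3 : (σ 3).1 / 3 = 1
    · exact ⟨0, by simpa using h3⟩
    · refine ⟨1, ?_⟩
      have h7 : (σ 7).1 / 3 ≠ (σ 3).1 / 3 := fun e => absurd ((hp 7 3).1 e) (by decide)
      have := hne 7 (by decide)
      have := hne 3 (by decide)
      have := (σ 7).2
      have := (σ 3).2
      simp only [Fin.val_one, pow_one, Perm.mul_apply, f2]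
      omega
  set σ1 : P9 := σ * ((cH : P9) ^ l.1)⁻¹ with hσ1
  have hσ1H : σ1 ∈ Hm := Hm.mul_mem h.2 (Hm.inv_mem (Hm.pow_mem cH.2 _))
  have hz1 : σ1 * z = z * σ1 := by
    have hc : Commute σ z := hcz
    exact hc.mul_left ((Commute.pow_left f1 l.1).inv_left)
  have hp1 := (mem_Hm.1 hσ1H).2
  have hb0 : (σ1 0).1 / 3 = 0 := by
    have : ((cH : P9) ^ l.1)⁻¹ 0 = 0 := by
      fin_cases l <;> simp [f4]
    rw [hσ1, Perm.mul_apply, this, h0]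
  have hb : ∀ i : Fin 9, (σ1 i).1 / 3 = i.1 / 3 := by
    have h6 : (σ1 6).1 / 3 = 2 := by
      have a1 : (σ1 6).1 / 3 ≠ (σ1 3).1 / 3 := fun e => absurd ((hp1 6 3).1 e) (by decide)
      have a2 : (σ1 6).1 / 3 ≠ (σ1 0).1 / 3 := fun e => absurd ((hp1 6 0).1 e) (by decide)
      have := (σ1 6).2
      omega
    intro i
    have := i.2
    rcases (show i.1 / 3 = 0 ∨ i.1 / 3 = 1 ∨ i.1 / 3 = 2 by omega) with e | e | e <;> rw [e]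
    · rw [← hb0]; exact (hp1 i 0).2 (by rw [e]; rfl)
    · rw [← hl]; exact (hp1 i 3).2 (by rw [e]; rfl)
    · rw [← h6]; exact (hp1 i 6).2 (by rw [e]; rfl)
  obtain ⟨a, ha⟩ := cz (σ1 0) hb0
  obtain ⟨b, hb'⟩ := c2z (σ1 3) (hb 3)
  obtain ⟨d, hd⟩ := c3z (σ1 6) (hb 6)
  set σ2 : P9 := z3 ^ d.1 * (z2 ^ b.1 * (z ^ a.1 * σ1)) with hσ2
  have hb2 : ∀ i : Fin 9, (σ2 i).1 / 3 = i.1 / 3 := fun i => by
    rw [hσ2, Perm.mul_apply, Perm.mul_apply, Perm.mul_apply, (cb d _).2.2.1, (cb b _).2.1,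
      (cb a _).1, hb]
  have g0 : σ2 0 = 0 := by
    rw [hσ2, Perm.mul_apply, Perm.mul_apply, Perm.mul_apply, ha, (cb b 0).2.2.2.2.1 (by decide),
      (cb d 0).2.2.2.2.2 (by decide)]
  have g3 : σ2 3 = 3 := by
    have h2 : 2 < (σ1 3).1 := by have := hb 3; simp at this; omega
    rw [hσ2, Perm.mul_apply, Perm.mul_apply, Perm.mul_apply, (cb a _).2.2.2.1 h2, hb',
      (cb d 3).2.2.2.2.2 (by decide)]
  have g6 : σ2 6 = 6 := by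
    have h2 : 2 < (σ1 6).1 := by have := hb 6; simp at this; omega
    rw [hσ2, Perm.mul_apply, Perm.mul_apply, Perm.mul_apply, (cb a _).2.2.2.1 h2,
      (cb b _).2.2.2.2.1 (by rw [hb 6]; decide), hd]
  have hz2 : σ2 * z = z * σ2 := by
    have hc : Commute σ1 z := hz1
    exact (show Commute (z3 ^ d.1) z from (cc d).2.2).mul_left
      ((show Commute (z2 ^ b.1) z from (cc b).2.1).mul_left
        ((show Commute (z ^ a.1) z from (cc a).1).mul_left hc))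
  have g1 : σ2 1 = 1 := by rw [← c2, ← Perm.mul_apply, hz2, Perm.mul_apply, g0]
  have g2 : σ2 2 = 2 := by rw [← c3, ← Perm.mul_apply, hz2, Perm.mul_apply, g1]
  have hσ2H : σ2 ∈ Hm := Hm.mul_mem (Hm.pow_mem z3H.2 _)
    (Hm.mul_mem (Hm.pow_mem z2H.2 _) (Hm.mul_mem (Hm.pow_mem zH.2 _) hσ1H))
  obtain ⟨e, he⟩ := block_cases (mem_Hm.1 hσ2H).1 g0 g1 g2 g3 g6 hb2
  obtain ⟨i, j, k, m, hm⟩ := recombine a b d l e
  refine ⟨i, j, k, m, Subtype.ext ?_⟩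
  rw [el_val, ← hm, ← he, hσ2, hσ1, ← hσ]
  group

theorem el_zero (j k l : ℕ) (i : ℕ) : el i j k l = zH ^ i * el 0 j k l := by
  simp [el, mul_assoc]

theorem el_split (i j k l : ℕ) : el i j k l = el i j k 0 * cH ^ l := by
  simp [el]

theorem el_exp : ∀ i j k : Fin 3, el i.1 j.1 k.1 0 ^ 3 = 1 := by decide +kernel

theorem el_comm : ∀ j k : Fin 3,
    el 0 j.1 k.1 0 * zH = zH * el 0 j.1 k.1 0 ∧ el 0 j.1 k.1 0 * z2H = z2H * el 0 j.1 k.1 0 ∧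
      el 0 j.1 k.1 0 * z3H = z3H * el 0 j.1 k.1 0 := by decide +kernel

theorem pe_mul : ∀ j k j' k' : Fin 3,
    el 0 (j + j').1 (k + k').1 0 = el 0 j.1 k.1 0 * el 0 j'.1 k'.1 0 := by decide +kernel

theorem pe_inj : ∀ j k : Fin 3, el 0 j.1 k.1 0 = 1 → j = 0 ∧ k = 0 := by decide +kernel

theorem comm_l : ∀ j k : Fin 3, (j ≠ 0 ∨ k ≠ 0) → ∀ l : Fin 4,
    cH ^ l.1 * el 0 j.1 k.1 0 = el 0 j.1 k.1 0 * cH ^ l.1 → l = 0 := by decide +kernel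

theorem el_commutes : ∀ i j k j' k' : Fin 3,
    el i.1 j.1 k.1 0 * el 0 j'.1 k'.1 0 = el 0 j'.1 k'.1 0 * el i.1 j.1 k.1 0 := by decide +kernel

theorem el_comm_l {i j k : Fin 3} {l : Fin 4} {j' k' : Fin 3} (hn : j' ≠ 0 ∨ k' ≠ 0)
    (h : el i.1 j.1 k.1 l.1 * el 0 j'.1 k'.1 0 = el 0 j'.1 k'.1 0 * el i.1 j.1 k.1 l.1) :
    l = 0 := by
  refine comm_l j' k' hn l (mul_left_cancel (a := el i.1 j.1 k.1 0) ?_)
  rw [el_split i.1 j.1 k.1 l.1, mul_assoc, ← mul_assoc (el 0 j'.1 k'.1 0) (el i.1 j.1 k.1 0),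
    ← el_commutes, mul_assoc] at h
  exact h

theorem to_yx : ∀ j k : Fin 3, (j ≠ 0 ∨ k ≠ 0) → ∃ l : Fin 4,
    cH ^ l.1 * (zH * el 0 j.1 k.1 0) * (cH ^ l.1)⁻¹ = yH ∨
      cH ^ l.1 * (zH * el 0 j.1 k.1 0) * (cH ^ l.1)⁻¹ = xH := by decide +kernel

theorem pe_gen : ∀ j k : Fin 3, (j ≠ 0 ∨ k ≠ 0) → ∀ j' k' : Fin 3, ∃ a b : Fin 3,
    el 0 j'.1 k'.1 0 =
      el 0 j.1 k.1 0 ^ a.1 * (cH * el 0 j.1 k.1 0 * cH⁻¹) ^ b.1 := by decide +kernel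

theorem c_conj : cH * z2H * cH⁻¹ = z3H ∧ cH * z3H * cH⁻¹ = z2H⁻¹ ∧ cH * zH = zH * cH ∧
    z2H * cH * z2H⁻¹ * cH⁻¹ = z2H * z3H⁻¹ ∧ z3H * cH * z3H⁻¹ * cH⁻¹ = z3H * z2H ∧
    z2H * z3H⁻¹ * (z3H * z2H) = z2H⁻¹ ∧ zH ^ 3 = 1 ∧ zH ≠ 1 ∧ el 0 1 0 0 = z2H ∧
    el 0 0 1 0 = z3H ∧ z2H * zH = zH * z2H ∧ z3H * zH = zH * z3H := by decide +kernel

theorem InJ_facts : InJ z2H ∧ InJ (z2H * z3H) ∧ orderOf z2H = 3 ∧ orderOf (z2H * z3H) = 3 ∧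
    orderOf zH = 3 := by
  refine ⟨by decide +kernel, by decide +kernel, ?_, ?_, ?_⟩ <;>
    exact orderOf_eq_prime (by decide +kernel) (by decide +kernel)

theorem not_conj : ¬ IsConj z2H (z2H * z3H) := fun h => by
  obtain ⟨g, hg⟩ := isConj_iff.1 h
  have h1 : (g : P9) * z2 * (g : P9)⁻¹ = z2 * z3 := congrArg Subtype.val hg
  have h2 := Perm.card_support_conj (σ := (g : P9)) (τ := z2)
  rw [h1] at h2
  revert h2
  decide +kernel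

end CfsgLib.ANineThree.CentZ
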