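import Cfsg.Agent.Lib.ANineThree.Interface
import Cfsg.Agent.Lib.ANineThree.CentZFacts
import Cfsg.Agent.Lib.ANineThree.CentZCore

/-!
The centralizer of `z`: it is contained in the block stabilizer or is the product of `⟨z⟩` and an
alternating group of degree six.
-/

set_option autoImplicit false
set_option linter.style.haveILetI false
set_option linter.unusedSectionVars false

namespace CfsgLib.ANineThree

universe u

namespace CentZ

open Subgroup

variable {G : Type u} [Group G] [Finite G] (S : Data G)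

/-- The centralizer of `z`. -/
abbrev Cz : Subgroup G := centralizer ({S.e zH} : Set G)

theorem e_mem_Cz {h : Hm} (hh : h * zH = zH * h) : S.e h ∈ Cz S := by
  rw [mem_centralizer_singleton_iff, ← map_mul, ← map_mul, hh]

theorem J_eq_normalizer {g : G} (hg : g ∈ normalizer (S.J : Set G)) : g ∈ S.e.range :=
  S.range_eq.symm ▸ hg

theorem el_J (i j k : ℕ) : S.e (el i j k 0) ∈ S.J := by
  simp only [el, pow_zero, mul_one, map_mul, map_pow]
  exact mul_mem (mul_mem (pow_mem (subset_closure (by simp)) _)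
    (pow_mem (subset_closure (by simp)) _)) (pow_mem (subset_closure (by simp)) _)

theorem J_le_Cz : S.J ≤ Cz S := by
  refine (closure_le _).2 ?_
  rintro _ (rfl | rfl | rfl)
  · exact e_mem_Cz S rfl
  · exact e_mem_Cz S c_conj.2.2.2.2.2.2.2.2.2.2.1
  · exact e_mem_Cz S c_conj.2.2.2.2.2.2.2.2.2.2.2

theorem J_le_centralizer {g : G} (hg : g ∈ S.J) {j k : Fin 3} :
    g * S.e (el 0 j.1 k.1 0) = S.e (el 0 j.1 k.1 0) * g := by
  suffices h : S.J ≤ centralizer ({S.e (el 0 j.1 k.1 0)} : Set G) from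
    mem_centralizer_singleton_iff.1 (h hg)
  obtain ⟨h1, h2, h3⟩ := el_comm j k
  refine (closure_le _).2 ?_
  rintro _ (rfl | rfl | rfl) <;>
    rw [SetLike.mem_coe, mem_centralizer_singleton_iff, ← map_mul, ← map_mul]
  · rw [h1]
  · rw [h2]
  · rw [h3]

/-- The standard form of the elements of the centralizer lying in the block stabilizer. -/
theorem exists_form {g : G} (hg : g ∈ Cz S) (hr : g ∈ S.e.range) :
    ∃ i j k : Fin 3, ∃ l : Fin 4, g = S.e (el i.1 j.1 k.1 l.1) := by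
  obtain ⟨h, rfl⟩ := hr
  rw [mem_centralizer_singleton_iff, ← map_mul, ← map_mul] at hg
  obtain ⟨i, j, k, l, rfl⟩ := exists_el h (S.inj hg)
  exact ⟨i, j, k, l, rfl⟩

theorem mem_J_form {g : G} (hg : g ∈ S.J) :
    ∃ i j k : Fin 3, g = S.e (el i.1 j.1 k.1 0) := by
  obtain ⟨i, j, k, l, rfl⟩ :=
    exists_form S (J_le_Cz S hg) (S.range_eq.symm ▸ le_normalizer hg)
  have h := J_le_centralizer S hg (j := 1) (k := 0)
  rw [← map_mul, ← map_mul] at h
  obtain rfl := el_comm_l (Or.inl (by decide)) (S.inj h)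
  exact ⟨i, j, k, rfl⟩

theorem sylow_J : ∃ T : Sylow 3 (Cz S), (T : Subgroup (Cz S)) = S.J.subgroupOf (Cz S) := by
  haveI : Fact (Nat.Prime 3) := ⟨Nat.prime_three⟩
  have hp : IsPGroup 3 (S.J.subgroupOf (Cz S)) := fun g => by
    obtain ⟨i, j, k, hg⟩ := mem_J_form S (mem_subgroupOf.1 g.2)
    refine ⟨1, Subtype.ext (Subtype.ext ?_)⟩
    simp only [SubmonoidClass.coe_pow, OneMemClass.coe_one, pow_one, hg, ← map_pow, el_exp,
      map_one]
  obtain ⟨T, hT⟩ := hp.exists_le_sylow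
  refine ⟨T, le_antisymm ?_ hT⟩
  by_contra hne
  -- an element of the normalizer in `T` outside `J`
  set A := (S.J.subgroupOf (Cz S)).subgroupOf (T : Subgroup (Cz S)) with hA
  haveI := IsPGroup.isNilpotent T.2
  have hlt : A < ⊤ := lt_top_iff_ne_top.2 fun e => hne (subgroupOf_eq_top.1 e)
  obtain ⟨t, htN, htA⟩ :=
    SetLike.exists_of_lt (Group.normalizerCondition_of_isNilpotent A hlt)
  have hnJ : ((t : Cz S) : G) ∈ normalizer (S.J : Set G) := by
    refine mem_normalizer_fintype fun q hq => ?_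
    have hqT : (⟨q, J_le_Cz S hq⟩ : Cz S) ∈ (T : Subgroup (Cz S)) := hT hq
    exact (mem_set_normalizer_iff.1 htN ⟨⟨q, J_le_Cz S hq⟩, hqT⟩).1 hq
  obtain ⟨i, j, k, l, hf⟩ := exists_form S (t : Cz S).2 (J_eq_normalizer S hnJ)
  set u : Cz S := ⟨S.e (el i.1 j.1 k.1 0), J_le_Cz S (el_J S _ _ _)⟩ with hu
  set v : Cz S := u⁻¹ * (t : Cz S) with hv
  have hvT : v ∈ (T : Subgroup (Cz S)) := mul_mem (inv_mem (hT (el_J S _ _ _))) t.2
  have hvG : (v : G) = S.e (cH ^ l.1) := by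
    rw [hv, hu]
    simp only [coe_mul, coe_inv, hf]
    rw [el_split i.1 j.1 k.1 l.1, map_mul, inv_mul_cancel_left]
  have hv4 : v ^ 4 = 1 := Subtype.ext (by
    rw [SubmonoidClass.coe_pow, hvG, OneMemClass.coe_one, ← map_pow, ← pow_mul, mul_comm,
      pow_mul, cH_facts.2.2.2.2.2.2, one_pow, map_one])
  obtain ⟨m, hm⟩ := T.2 ⟨v, hvT⟩
  have hm' : v ^ 3 ^ m = 1 := congrArg Subtype.val hm
  have h1 : orderOf v = 1 := Nat.dvd_one.1
    ((Nat.Coprime.pow_right m (by norm_num : Nat.Coprime 4 3)).gcd_eq_one ▸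
      Nat.dvd_gcd (orderOf_dvd_of_pow_eq_one hv4) (orderOf_dvd_of_pow_eq_one hm'))
  rw [orderOf_eq_one_iff, hv, inv_mul_eq_one] at h1
  exact htA (show ((t : Cz S) : G) ∈ S.J by rw [← h1]; exact el_J S _ _ _)

/-- The residual. -/
abbrev M₀ : Subgroup (Cz S) := Cfsg.pResidual 3 (Cz S)

/-- The residual in the group. -/
def Mz : Subgroup G := (M₀ S).map (Cz S).subtype

theorem Mz_le : Mz S ≤ Cz S := map_subtype_le _

theorem mem_Mz {g : G} : g ∈ Mz S ↔ ∃ h : g ∈ Cz S, (⟨g, h⟩ : Cz S) ∈ M₀ S := by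
  constructor
  · rintro ⟨x, hx, rfl⟩
    exact ⟨x.2, hx⟩
  · rintro ⟨h, hm⟩
    exact ⟨⟨g, h⟩, hm, rfl⟩

theorem Mz_conj {x g : G} (hx : x ∈ Cz S) (hg : g ∈ Mz S) : x * g * x⁻¹ ∈ Mz S := by
  obtain ⟨h, hm⟩ := (mem_Mz S).1 hg
  exact ⟨⟨x, hx⟩ * ⟨g, h⟩ * ⟨x, hx⟩⁻¹, (pResidual_normal' 3 _).conj_mem _ hm _, rfl⟩

theorem z_notMem : S.e zH ∉ Mz S := by
  intro hz
  obtain ⟨hzC, hz⟩ := (mem_Mz S).1 hz
  haveI : Fact (Nat.Prime 3) := ⟨Nat.prime_three⟩
  obtain ⟨T, hT⟩ := sylow_J S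
  haveI : IsMulCommutative (T : Subgroup (Cz S)) := ⟨⟨fun a b => by
    have hb := mem_subgroupOf.1 ((SetLike.ext_iff.1 hT _).1 b.2)
    have ha := mem_subgroupOf.1 ((SetLike.ext_iff.1 hT _).1 a.2)
    obtain ⟨i, j, k, he⟩ := mem_J_form S ha
    obtain ⟨i', j', k', he'⟩ := mem_J_form S hb
    refine Subtype.ext (Subtype.ext ?_)
    simp only [coe_mul, he, he', ← map_mul]
    rw [el_zero j'.1 k'.1 0 i'.1, ← mul_assoc, mul_assoc (zH ^ i'.1), ← el_commutes i j k j' k',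
      ← mul_assoc]
    refine congrArg (fun w => S.e (w * el 0 j'.1 k'.1 0)) ?_
    have hcm : Commute (el i.1 j.1 k.1 0) zH := by
      rw [el_zero j.1 k.1 0 i.1]
      exact (Commute.pow_left rfl _).mul_left (el_comm j k).1
    exact hcm.pow_right _⟩⟩
  open scoped IsMulCommutative in
  set φ : Cz S →* (T : Subgroup (Cz S)) := MonoidHom.transfer (MonoidHom.id _) with hφ
  set z₀ : Cz S := ⟨S.e zH, hzC⟩ with hz₀
  have hcen : ∀ g : Cz S, g * z₀ = z₀ * g := fun g =>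
    Subtype.ext (mem_centralizer_singleton_iff.1 g.2)
  have hval : ((φ z₀ : (T : Subgroup (Cz S))) : Cz S) = z₀ ^ (T : Subgroup (Cz S)).index := by
    rw [hφ, MonoidHom.transfer_eq_pow _ z₀ fun k g₀ _ => by
      rw [mul_assoc, (Commute.pow_right (hcen g₀) k).symm.eq, inv_mul_cancel_left]]
    rfl
  have hcube : ∀ w : (T : Subgroup (Cz S)), w ^ 3 = 1 := fun w => by
    have hw := mem_subgroupOf.1 ((SetLike.ext_iff.1 hT _).1 w.2)
    obtain ⟨i, j, k, he⟩ := mem_J_form S hw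
    refine Subtype.ext (Subtype.ext ?_)
    simp only [SubmonoidClass.coe_pow, OneMemClass.coe_one, he, ← map_pow, el_exp, map_one]
  have hker : M₀ S ≤ φ.ker := by
    refine (closure_le _).2 fun g hg => MonoidHom.mem_ker.2 (orderOf_eq_one_iff.1 ?_)
    have h3 : orderOf (φ g) ∣ 3 := orderOf_dvd_of_pow_eq_one (hcube _)
    exact Nat.dvd_one.1 ((hg : Nat.Coprime (orderOf g) 3) ▸
      Nat.dvd_gcd (orderOf_map_dvd φ g) h3)
  have h1 := MonoidHom.mem_ker.1 (hker hz)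
  rw [h1, OneMemClass.coe_one] at hval
  have hd := orderOf_dvd_of_pow_eq_one hval.symm
  rw [← orderOf_coe, hz₀, orderOf_injective S.e S.inj, InJ_facts.2.2.2.2] at hd
  exact T.not_dvd_index hd

theorem cH_mem : S.e cH ∈ Mz S := by
  refine (mem_Mz S).2 ⟨e_mem_Cz S c_conj.2.2.1, subset_closure ?_⟩
  show Nat.Coprime _ 3
  have h4 : orderOf (⟨S.e cH, e_mem_Cz S c_conj.2.2.1⟩ : Cz S) ∣ 4 :=
    orderOf_dvd_of_pow_eq_one (Subtype.ext (by
      rw [SubmonoidClass.coe_pow, OneMemClass.coe_one, ← map_pow, cH_facts.2.2.2.2.2.2, map_one]))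
  exact Nat.Coprime.coprime_dvd_left h4 (by norm_num)

theorem z2_z3_mem : S.e z2H ∈ Mz S ∧ S.e z3H ∈ Mz S := by
  obtain ⟨-, -, -, k1, k2, k3, -, -, -, -, hz2, hz3⟩ := c_conj
  have hc := cH_mem S
  have a1 : S.e (z2H * z3H⁻¹) ∈ Mz S := by
    rw [← k1]
    simp only [map_mul, map_inv]
    exact mul_mem (Mz_conj S (e_mem_Cz S hz2) hc) (inv_mem hc)
  have a2 : S.e (z3H * z2H) ∈ Mz S := by
    rw [← k2]
    simp only [map_mul, map_inv]
    exact mul_mem (Mz_conj S (e_mem_Cz S hz3) hc) (inv_mem hc)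
  have a3 : S.e z2H ∈ Mz S := by
    have := mul_mem a1 a2
    rwa [← map_mul, k3, map_inv, inv_mem_iff] at this
  refine ⟨a3, ?_⟩
  rw [map_mul] at a2
  exact (Subgroup.mul_mem_cancel_right _ a3).1 a2

theorem pe_mem (j k l : ℕ) : S.e (el 0 j k l) ∈ Mz S := by
  simp only [el, pow_zero, one_mul, map_mul, map_pow]
  exact mul_mem (mul_mem (pow_mem (z2_z3_mem S).1 _) (pow_mem (z2_z3_mem S).2 _))
    (pow_mem (cH_mem S) _)

/-- The elements of `Mz` in standard form have no component in `⟨z⟩`. -/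
theorem form_zero {i : Fin 3} {j k l : ℕ} (h : S.e (el i.1 j k l) ∈ Mz S) : i = 0 := by
  rw [el_zero, map_mul, Subgroup.mul_mem_cancel_right _ (pe_mem S j k l)] at h
  fin_cases i
  · rfl
  · exact absurd (by simpa using h) (z_notMem S)
  · refine absurd ?_ (z_notMem S)
    have : S.e zH = (S.e (zH ^ 2)) ^ 2 := by
      rw [← map_pow, ← pow_mul, show 2 * 2 = 3 + 1 by norm_num, pow_succ, c_conj.2.2.2.2.2.2.1,
        one_mul]
    rw [this]
    exact pow_mem h _

theorem sup_eq : Mz S ⊔ zpowers (S.e zH) = Cz S := by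
  refine le_antisymm (sup_le (Mz_le S) ((zpowers_le).2 (e_mem_Cz S rfl))) ?_
  haveI : Fact (Nat.Prime 3) := ⟨Nat.prime_three⟩
  set z₀ : Cz S := ⟨S.e zH, e_mem_Cz S rfl⟩ with hz₀
  set N := M₀ S ⊔ zpowers z₀ with hN
  haveI : N.Normal := by
    haveI := pResidual_normal' 3 (Cz S)
    haveI : (zpowers z₀).Normal := ⟨fun n hn g => by
      obtain ⟨m, rfl⟩ := mem_zpowers_iff.1 hn
      have hc : Commute g z₀ := Subtype.ext (mem_centralizer_singleton_iff.1 g.2)
      rw [(hc.zpow_right m).eq, mul_inv_cancel_right]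
      exact zpow_mem (mem_zpowers _) _⟩
    infer_instance
  obtain ⟨T, hT⟩ := sylow_J S
  have hTN : (T : Subgroup (Cz S)) ≤ N := by
    intro g hg
    rw [hT, mem_subgroupOf] at hg
    obtain ⟨i, j, k, he⟩ := mem_J_form S hg
    rw [el_zero, map_mul, map_pow] at he
    obtain ⟨hm, hm'⟩ := (mem_Mz S).1 (pe_mem S j.1 k.1 0)
    have : g = z₀ ^ i.1 * ⟨_, hm⟩ := Subtype.ext (by simpa [hz₀] using he)
    rw [this]
    exact mul_mem (mem_sup_right (pow_mem (mem_zpowers _) _)) (mem_sup_left hm')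
  have hco : ¬ 3 ∣ N.index := fun hd =>
    T.not_dvd_index (hd.trans (index_dvd_of_le hTN))
  have htop : N = ⊤ := (eq_top_iff' N).2 fun g => by
    obtain ⟨m, hm⟩ := exists_three_pow_mem g
    have hm' : g ^ 3 ^ m ∈ N := mem_sup_left hm
    have hmi : g ^ N.index ∈ N := pow_index_mem N g
    have hc : (3 ^ m).Coprime N.index :=
      ((Nat.Prime.coprime_iff_not_dvd Nat.prime_three).2 hco).pow_left m
    rw [← QuotientGroup.eq_one_iff] at hm' hmi ⊢
    rw [QuotientGroup.mk_pow] at hm' hmi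
    have := Nat.dvd_gcd (orderOf_dvd_of_pow_eq_one hm') (orderOf_dvd_of_pow_eq_one hmi)
    rw [hc.gcd_eq_one, Nat.dvd_one, orderOf_eq_one_iff] at this
    exact this
  intro g hg
  have : g ∈ N.map (Cz S).subtype := ⟨⟨g, hg⟩, htop ▸ mem_top _, rfl⟩
  rwa [hN, Subgroup.map_sup, MonoidHom.map_zpowers] at this

theorem disjoint_Mz : Disjoint (Mz S) (zpowers (S.e zH)) := by
  rw [disjoint_def]
  intro g hg hz
  rw [mem_zpowers_iff] at hz
  obtain ⟨m, rfl⟩ := hz
  have h3 : orderOf (S.e zH) = 3 := by rw [orderOf_injective S.e S.inj, InJ_facts.2.2.2.2]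
  rw [← orderOf_dvd_iff_zpow_eq_one, h3]
  have hm : S.e zH ^ m = S.e zH ^ (m % 3) := by
    rw [← zpow_mod_orderOf, h3]; rfl
  rw [hm] at hg
  rcases (show m % 3 = 0 ∨ m % 3 = 1 ∨ m % 3 = 2 by omega) with e | e | e
  · exact Int.dvd_of_emod_eq_zero e
  · rw [e, zpow_one] at hg
    exact absurd hg (z_notMem S)
  · rw [e] at hg
    refine absurd ?_ (z_notMem S)
    have h := mul_mem hg hg
    rw [← zpow_add, show (2 : ℤ) + 2 = ((3 : ℕ) : ℤ) + 1 by norm_num, zpow_add, zpow_natCast,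
      zpow_one, ← map_pow, c_conj.2.2.2.2.2.2.1, map_one, one_mul] at h
    exact h

/-- The inclusion of the plane. -/
def plane : Multiplicative (Fin 3 × Fin 3) →* Mz S :=
  MonoidHom.mk' (fun a => ⟨S.e (el 0 a.toAdd.1.1 a.toAdd.2.1 0), pe_mem S _ _ _⟩) fun a b =>
    Subtype.ext (by
      show S.e _ = S.e _ * S.e _
      rw [← map_mul, ← pe_mul]
      rfl)

theorem plane_inj : Function.Injective (plane S) := by
  rw [injective_iff_map_eq_one]
  intro a ha
  have h : S.e (el 0 a.toAdd.1.1 a.toAdd.2.1 0) = S.e 1 := by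
    rw [map_one]; exact congrArg Subtype.val ha
  obtain ⟨h1, h2⟩ := pe_inj _ _ (S.inj h)
  exact toAdd_eq_zero.1 (Prod.ext h1 h2)

theorem mem_plane {m : Mz S} :
    m ∈ (plane S).range ↔ ∃ j k : Fin 3, (m : G) = S.e (el 0 j.1 k.1 0) := by
  constructor
  · rintro ⟨a, rfl⟩
    exact ⟨_, _, rfl⟩
  · rintro ⟨j, k, h⟩
    exact ⟨Multiplicative.ofAdd (j, k), Subtype.ext h.symm⟩

variable {S} (L : Local S)

include L in
theorem cent_facts {m : G} (hm : m ∈ Mz S) {j k : Fin 3} (hn : j ≠ 0 ∨ k ≠ 0)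
    (hc : m * S.e (el 0 j.1 k.1 0) = S.e (el 0 j.1 k.1 0) * m) :
    ∃ j' k' : Fin 3, m = S.e (el 0 j'.1 k'.1 0) := by
  obtain ⟨l, hl⟩ := to_yx j k hn
  set w := S.e (cH ^ l.1) with hw
  have hcz : m * S.e zH = S.e zH * m := mem_centralizer_singleton_iff.1 (Mz_le S hm)
  have hcw : Commute m (S.e (zH * el 0 j.1 k.1 0)) := by
    rw [map_mul]; exact Commute.mul_right hcz hc
  have hin : w * m * w⁻¹ ∈ centralizer
      ({S.e (cH ^ l.1 * (zH * el 0 j.1 k.1 0) * (cH ^ l.1)⁻¹)} : Set G) := by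
    rw [mem_centralizer_singleton_iff, map_mul, map_mul (f := S.e) (cH ^ l.1), map_inv, ← hw]
    exact (hcw.map (MulAut.conj w).toMonoidHom)
  have hr : w * m * w⁻¹ ∈ S.e.range := by
    rcases hl with e | e <;> rw [e] at hin
    · exact L.cent_y hin
    · exact L.cent_x hin
  have hwr : w ∈ S.e.range := ⟨_, rfl⟩
  have hmr : m ∈ S.e.range := by
    have := mul_mem (mul_mem (inv_mem hwr) hr) hwr
    simpa [mul_assoc] using this
  obtain ⟨i, j', k', l', rfl⟩ := exists_form S (Mz_le S hm) hmr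
  obtain rfl := form_zero S hm
  rw [← map_mul, ← map_mul] at hc
  obtain rfl := el_comm_l hn (S.inj hc)
  exact ⟨j', k', rfl⟩

theorem normalizer_form {m : Mz S} (hm : m ∈ normalizer ((plane S).range : Set (Mz S))) :
    ∃ j k : Fin 3, ∃ l : Fin 4, (m : G) = S.e (el 0 j.1 k.1 l.1) := by
  have hnJ : (m : G) ∈ normalizer (S.J : Set G) := by
    refine mem_normalizer_fintype fun q hq => ?_
    suffices h : S.J ≤ S.J.comap (MulAut.conj (m : G)).toMonoidHom from h hq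
    refine (closure_le _).2 ?_
    have hgen : ∀ j k : Fin 3,
        (m : G) * S.e (el 0 j.1 k.1 0) * (m : G)⁻¹ ∈ S.J := fun j k => by
      obtain ⟨j', k', h⟩ := (mem_plane S).1
        ((mem_set_normalizer_iff.1 hm ⟨_, pe_mem S j.1 k.1 0⟩).1 ((mem_plane S).2 ⟨j, k, rfl⟩))
      simp only [coe_mul, coe_inv] at h
      rw [h]
      exact el_J S _ _ _
    rintro _ (rfl | rfl | rfl) <;>
      simp only [SetLike.mem_coe, mem_comap, MulEquiv.coe_toMonoidHom, MulAut.conj_apply]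
    · rw [mem_centralizer_singleton_iff.1 (Mz_le S m.2), mul_inv_cancel_right]
      exact subset_closure (by simp)
    · simpa [c_conj.2.2.2.2.2.2.2.2.1] using hgen 1 0
    · simpa [c_conj.2.2.2.2.2.2.2.2.2.1] using hgen 0 1
  obtain ⟨i, j, k, l, h⟩ := exists_form S (Mz_le S m.2) (J_eq_normalizer S hnJ)
  obtain rfl := form_zero S (h ▸ m.2)
  exact ⟨j, k, l, h⟩

theorem not_dvd_Mz : ¬ 27 ∣ Nat.card (Mz S) := by
  haveI : Fact (Nat.Prime 3) := ⟨Nat.prime_three⟩
  intro hd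
  obtain ⟨Q, hQ⟩ := Sylow.exists_subgroup_card_pow_prime 3 (n := 3) (by simpa using hd : 3 ^ 3 ∣ _)
  obtain ⟨T, hT⟩ := sylow_J S
  set Q' : Subgroup (Cz S) := Q.map (inclusion (Mz_le S)) with hQ'
  have hc' : Nat.card Q' = 27 := by
    rw [hQ', card_map_of_injective (inclusion_injective _), hQ]
    norm_num
  obtain ⟨R, hR⟩ := (IsPGroup.of_card (n := 3) (p := 3) (G := Q') (by rw [hc']; norm_num))
    |>.exists_le_sylow
  obtain ⟨g, hg⟩ := MulAction.exists_smul_eq (Cz S) R T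
  have key : ∀ q ∈ Q', ∃ j k : Fin 3,
      (g : G) * (q : G) * (g : G)⁻¹ = S.e (el 0 j.1 k.1 0) := by
    intro q hq
    have h1 : g * q * g⁻¹ ∈ (T : Subgroup (Cz S)) := by
      rw [← hg, Sylow.coe_subgroup_smul]
      exact mem_map_of_mem _ (hR hq)
    rw [hT, mem_subgroupOf] at h1
    obtain ⟨i, j, k, he⟩ := mem_J_form S h1
    obtain ⟨w, -, rfl⟩ := hq
    have h2 : ((g * inclusion (Mz_le S) w * g⁻¹ : Cz S) : G) ∈ Mz S :=
      Mz_conj S g.2 w.2
    rw [he] at h2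
    obtain rfl := form_zero S h2
    exact ⟨j, k, he⟩
  choose fj fk hfk using key
  have hle : Nat.card Q' ≤ Nat.card (Fin 3 × Fin 3) := by
    refine Nat.card_le_card_of_injective
      (fun q : Q' => (fj q q.2, fk q q.2)) fun q q' he => ?_
    have a : (g : G) * ((q : Cz S) : G) * (g : G)⁻¹ = (g : G) * ((q' : Cz S) : G) * (g : G)⁻¹ :=
      (hfk q q.2).trans ((congrArg (fun a : Fin 3 × Fin 3 => S.e (el 0 a.1.1 a.2.1 0)) he).trans
        (hfk q' q'.2).symm)
    exact Subtype.ext (Subtype.ext (mul_left_cancel (mul_right_cancel a)))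
  rw [hc', Nat.card_prod, Nat.card_eq_fintype_card, Fintype.card_fin] at hle
  omega

include L in
theorem nine : Nine (Mz S) (plane S).range ⟨S.e cH, cH_mem S⟩ where
  card := by
    rw [Nat.card_congr (MonoidHom.ofInjective (plane_inj S)).toEquiv.symm,
      Nat.card_eq_fintype_card]
    rfl
  not_dvd := not_dvd_Mz
  comm := by
    rintro _ ⟨a, rfl⟩ _ ⟨b, rfl⟩
    rw [← map_mul, ← map_mul, mul_comm]
  exp := by
    rintro _ ⟨a, rfl⟩
    have : ∀ a : Multiplicative (Fin 3 × Fin 3), a ^ 3 = 1 := by decide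
    rw [← map_pow, this, map_one]
  four := Subtype.ext (by
    rw [SubmonoidClass.coe_pow, OneMemClass.coe_one, ← map_pow, cH_facts.2.2.2.2.2.2, map_one])
  nor_c := by
    refine mem_normalizer_fintype fun n hn => ?_
    obtain ⟨j, k, h⟩ := (mem_plane S).1 hn
    rw [SetLike.mem_coe, mem_plane]
    have hs : ∀ j k : Fin 3, ∃ j' k' : Fin 3,
        cH * el 0 j.1 k.1 0 * cH⁻¹ = el 0 j'.1 k'.1 0 := by decide +kernel
    obtain ⟨j', k', he⟩ := hs j k
    exact ⟨j', k', by simp only [coe_mul, coe_inv, h, ← map_mul, ← map_inv, he]⟩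
  nor := fun n hn => by
    obtain ⟨j, k, l, h⟩ := normalizer_form hn
    refine ⟨⟨_, pe_mem S j.1 k.1 0⟩, (mem_plane S).2 ⟨j, k, rfl⟩, l.1, Subtype.ext ?_⟩
    simp only [coe_mul, SubmonoidClass.coe_pow, ← map_pow, ← map_mul]
    rw [h, ← el_split]
  gen := fun a ha ha1 b hb => by
    obtain ⟨j, k, h⟩ := (mem_plane S).1 ha
    obtain ⟨j', k', h'⟩ := (mem_plane S).1 hb
    have hn : j ≠ 0 ∨ k ≠ 0 := by
      by_contra hh
      push Not at hh
      refine ha1 (Subtype.ext ?_)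
      rw [h, hh.1, hh.2]
      simp [el]
    obtain ⟨u, v, he⟩ := pe_gen j k hn j' k'
    have : b = a ^ u.1 * (⟨S.e cH, cH_mem S⟩ * a * (⟨S.e cH, cH_mem S⟩ : Mz S)⁻¹) ^ v.1 := by
      refine Subtype.ext ?_
      simp only [coe_mul, coe_inv, SubmonoidClass.coe_pow, h, h', ← map_mul, ← map_inv, ← map_pow,
        ← he]
    rw [this]
    exact mul_mem (pow_mem (subset_closure (by simp)) _) (pow_mem (subset_closure (by simp)) _)
  cent := fun a ha ha1 => by
    obtain ⟨j, k, h⟩ := (mem_plane S).1 ha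
    refine le_antisymm (fun m hm => ?_) fun m hm => ?_
    · have hn : j ≠ 0 ∨ k ≠ 0 := by
        by_contra hh
        push Not at hh
        refine ha1 (Subtype.ext ?_)
        rw [h, hh.1, hh.2]
        simp [el]
      have hc := congrArg Subtype.val (mem_centralizer_singleton_iff.1 hm)
      simp only [coe_mul, h] at hc
      exact (mem_plane S).2 (cent_facts L m.2 hn hc)
    · obtain ⟨u, rfl⟩ := hm
      obtain ⟨v, rfl⟩ := ha
      rw [mem_centralizer_singleton_iff, ← map_mul, ← map_mul, mul_comm]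
  sig := fun W hW hn => by
    refine map_eq_bot_iff_of_injective _ (subtype_injective _) |>.1 (L.signalizer _ ?_ ?_)
    · rwa [card_map_of_injective (subtype_injective _)]
    · rintro j hj _ ⟨w, hw, rfl⟩
      obtain ⟨i, j', k', rfl⟩ := mem_J_form S hj
      refine ⟨_, hn ⟨_, pe_mem S j'.1 k'.1 0⟩ ((mem_plane S).2 ⟨j', k', rfl⟩) w hw, ?_⟩
      have hc : Commute (S.e zH) ((⟨_, pe_mem S j'.1 k'.1 0⟩ * w *
          (⟨_, pe_mem S j'.1 k'.1 0⟩ : Mz S)⁻¹ : Mz S) : G) :=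
        (mem_centralizer_singleton_iff.1 (Mz_le S (SetLike.coe_mem _))).symm
      simp only [coe_subtype]
      rw [el_zero j'.1 k'.1 0 i.1, map_mul, map_pow]
      calc _ = S.e zH ^ i.1 * ((⟨_, pe_mem S j'.1 k'.1 0⟩ * w *
            (⟨_, pe_mem S j'.1 k'.1 0⟩ : Mz S)⁻¹ : Mz S) : G) * (S.e zH ^ i.1)⁻¹ := by
            rw [(hc.pow_left i.1).eq, mul_inv_cancel_right]
        _ = _ := by simp only [coe_mul, coe_inv]; group
  classes := by
    refine ⟨⟨S.e z2H, (z2_z3_mem S).1⟩, ⟨S.e z2H, (z2_z3_mem S).1⟩ * ⟨S.e z3H, (z2_z3_mem S).2⟩,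
      ?_, ?_, fun g hg => ?_⟩
    · rw [← orderOf_coe, orderOf_injective S.e S.inj]
      exact InJ_facts.2.2.1
    · rw [← orderOf_coe, coe_mul, ← map_mul, orderOf_injective S.e S.inj]
      exact InJ_facts.2.2.2.1
    · refine not_conj (L.fusion _ _ InJ_facts.1 InJ_facts.2.1 (isConj_iff.2 ⟨g, ?_⟩))
      rw [map_mul]
      exact congrArg Subtype.val hg

end CentZ

open CentZ in
/-- The centralizer of `z`. -/
theorem cent_z_cases : StmtCentZ.{u} := by
  intro G _ _ S L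
  rcases (nine L).result with hP | hA
  · left
    show Cz S ≤ S.e.range
    rw [← sup_eq S]
    refine sup_le (fun m hm => ?_) (Subgroup.zpowers_le.2 ⟨zH, rfl⟩)
    have hn : (⟨m, hm⟩ : Mz S) ∈ Subgroup.normalizer ((plane S).range : Set (Mz S)) := by
      rw [Subgroup.normalizer_eq_top_iff.2 hP]
      exact Subgroup.mem_top _
    obtain ⟨j, k, l, h⟩ := normalizer_form hn
    exact ⟨_, h.symm⟩
  · exact Or.inr ⟨Mz S, hA, Mz_le S, disjoint_Mz S, sup_eq S⟩

end CfsgLib.ANineThree
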