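import Cfsg.Agent.Lib.ANineThree.FusionModel

/-!
Fusion of involutions in a group with an alternating subgroup of degree nine containing the
centralizers of its elements of order three and of a four-group: the two classes of involutions
stay apart, the 2-part of the order is 64, and the centralizer of an elementary group of order
eight stays inside.
-/

set_option autoImplicit false
set_option linter.style.haveILetI false
set_option linter.unusedSectionVars false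

namespace CfsgLib.ANineThree

open Equiv Subgroup CfsgLib.AEightThree

universe u

variable {G : Type u} [Group G] (S : Emb G)

/-- the embedded alternating group of degree eight -/
def Emb.ι8 : A8 →* G := S.ι.comp inc

theorem Emb.inj8 : Function.Injective S.ι8 := S.inj.comp inc_inj

theorem Emb.mem8 (k : A8) : S.ι8 k ∈ S.ι.range := ⟨inc k, rfl⟩

theorem Emb.ι8_conj (k l : A8) : S.ι8 (k * l * k⁻¹) = S.ι8 k * S.ι8 l * (S.ι8 k)⁻¹ := by simp

/-- The centraliser of an element of order three lies in the alternating subgroup. -/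
theorem Emb.inside {k : A9} (h3 : k ^ 3 = 1) (hne : k ≠ 1) {g : G}
    (hg : g * S.ι k = S.ι k * g) : g ∈ S.ι.range := by
  obtain ⟨c, hc⟩ := three_conj h3 hne
  have key : ∀ w : A9, centralizer ({S.ι w} : Set G) ≤ S.ι.range → c * w * c⁻¹ = k →
      g ∈ S.ι.range := by
    intro w hw e
    rw [← e, map_mul, map_mul, map_inv] at hg
    have hk : (S.ι c)⁻¹ * g * S.ι c ∈ centralizer ({S.ι w} : Set G) := by
      refine mem_centralizer_singleton_iff.2 ?_
      calc (S.ι c)⁻¹ * g * S.ι c * S.ι w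
          = (S.ι c)⁻¹ * (g * (S.ι c * S.ι w * (S.ι c)⁻¹)) * S.ι c := by group
        _ = (S.ι c)⁻¹ * ((S.ι c * S.ι w * (S.ι c)⁻¹) * g) * S.ι c := by rw [hg]
        _ = _ := by group
    rw [show g = S.ι c * ((S.ι c)⁻¹ * g * S.ι c) * (S.ι c)⁻¹ by group]
    exact mul_mem (mul_mem ⟨c, rfl⟩ (hw hk)) (inv_mem ⟨c, rfl⟩)
  rcases hc with h | h | h
  · exact key _ S.cent_z h
  · exact key _ S.cent_y h
  · exact key _ S.cent_x h

theorem Emb.not_isConj_zy : ¬ IsConj (S.ι8 z8) (S.ι8 y8) := by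
  intro h
  obtain ⟨g, hg⟩ := isConj_iff.1 h
  have hy : S.ι8 y8 = S.ι y9 := by rw [← inc_values.2.1]; rfl
  have hF : g * S.ι8 f8 * g⁻¹ * S.ι8 y8 = S.ι8 y8 * (g * S.ι8 f8 * g⁻¹) := by
    have e : S.ι8 z8 * S.ι8 f8 = S.ι8 f8 * S.ι8 z8 := by rw [← map_mul, ← map_mul, z_comm_f]
    rw [← hg]
    calc g * S.ι8 f8 * g⁻¹ * (g * S.ι8 z8 * g⁻¹) = g * (S.ι8 f8 * S.ι8 z8) * g⁻¹ := by group
      _ = g * (S.ι8 z8 * S.ι8 f8) * g⁻¹ := by rw [e]
      _ = _ := by group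
  rw [hy] at hF
  obtain ⟨k, hk⟩ := S.inside (k := y9) (by decide +kernel) (by decide +kernel) hF
  have hky : k * y9 = y9 * k := S.inj (by rw [map_mul, map_mul, hk, hF])
  have hk5 : k ^ 5 = 1 := S.inj (by
    rw [map_pow, hk, conj_pow, ← map_pow, f_pow.1, map_one, map_one, mul_one, mul_inv_cancel])
  rw [y_five_nine hky hk5, map_one] at hk
  exact f_pow.2 (S.inj8 (by rw [map_one]; exact conj_eq_one_iff.1 hk.symm))

variable [Finite G]

theorem Emb.card_map8 {L : List A8} (h1 : (1 : A8) ∈ L) (hm : ∀ a ∈ L, ∀ b ∈ L, a * b ∈ L)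
    (hn : L.Nodup) : Nat.card ((listSubgroup L h1 hm).map S.ι8) = L.length := by
  rw [card_map_of_injective S.inj8, card_listSubgroup L h1 hm hn]

/-- Every element of order three is conjugate into the alternating subgroup. -/
theorem Emb.three_into {b : G} (hb : b ^ 3 = 1) : ∃ (g : G) (k : A9), g * b * g⁻¹ = S.ι k := by
  haveI : Fact (Nat.Prime 3) := ⟨Nat.prime_three⟩
  obtain ⟨Q, hQ⟩ := Sylow.exists_subgroup_card_pow_prime 3
    (show 3 ^ 4 ∣ Nat.card A9 by rw [card_A9]; norm_num)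
  have hf : (Nat.card G).factorization 3 = 4 := by
    have hp : Nat.Prime 3 := by norm_num
    apply le_antisymm
    · by_contra h
      refine S.not_dvd ?_
      have := (hp.pow_dvd_iff_le_factorization Nat.card_pos.ne').2
        (show 5 ≤ (Nat.card G).factorization 3 by omega)
      simpa using this
    · refine (hp.pow_dvd_iff_le_factorization Nat.card_pos.ne').1 ?_
      have := card_subgroup_dvd_card (Q.map S.ι)
      rwa [card_map_of_injective S.inj, hQ] at this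
  let P : Sylow 3 G := Sylow.ofCard (Q.map S.ι) (by rw [card_map_of_injective S.inj, hQ, hf])
  have hp : IsPGroup 3 (zpowers b) := by
    obtain ⟨j, -, hj⟩ := (Nat.dvd_prime_pow Nat.prime_three).1
      (show orderOf b ∣ 3 ^ 1 by simpa using orderOf_dvd_of_pow_eq_one hb)
    exact IsPGroup.of_card (n := j) (by rw [Nat.card_zpowers, hj])
  obtain ⟨P', hP'⟩ := hp.exists_le_sylow
  obtain ⟨g, hg⟩ := MulAction.exists_smul_eq G P' P
  have hmem : g * b * g⁻¹ ∈ (P : Subgroup G) := by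
    rw [← hg, Sylow.coe_subgroup_smul]
    exact ⟨b, hP' (mem_zpowers b), rfl⟩
  rw [Sylow.coe_ofCard] at hmem
  obtain ⟨k, -, hk⟩ := mem_map.1 hmem
  exact ⟨g, k, hk.symm⟩

include S in
/-- The centraliser of an involution has order not divisible by nine. -/
theorem Emb.not_nine {w : G} (h2 : w * w = 1) (hne : w ≠ 1) :
    ¬ 9 ∣ Nat.card (centralizer ({w} : Set G)) := by
  intro h
  haveI : Fact (Nat.Prime 3) := ⟨Nat.prime_three⟩
  obtain ⟨Q0, hQ0⟩ := Sylow.exists_subgroup_card_pow_prime 3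
    (show 3 ^ 2 ∣ Nat.card (centralizer ({w} : Set G)) by simpa using h)
  set Q := Q0.map (centralizer ({w} : Set G)).subtype with hQ
  have hcQ : Nat.card Q = 3 ^ 2 := by
    rw [hQ, card_map_of_injective (subtype_injective _), hQ0]
  haveI := IsPGroup.isMulCommutative_of_card_eq_prime_sq hcQ
  have hcomm : ∀ a b : Q, a * b = b * a := fun a b => mul_comm' a b
  have hQw : ∀ a ∈ Q, a * w = w * a := by
    rintro _ ⟨a, -, rfl⟩
    exact mem_centralizer_singleton_iff.1 a.2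
  obtain ⟨b, hb⟩ := exists_prime_orderOf_dvd_card' (G := Q) 3 (by rw [hcQ]; norm_num)
  have hb3 : (b : G) ^ 3 = 1 := by
    rw [← Subgroup.coe_pow, ← hb, pow_orderOf_eq_one]; rfl
  obtain ⟨g, k, hk⟩ := S.three_into hb3
  have hk3 : k ^ 3 = 1 := S.inj (by rw [map_pow, ← hk, conj_pow, hb3, map_one]; simp)
  have hk1 : k ≠ 1 := fun e => by
    rw [e, map_one, conj_eq_one_iff] at hk
    rw [← Subgroup.orderOf_coe, hk, orderOf_one] at hb
    omega
  have hin : ∀ a : G, a * b = b * a → g * a * g⁻¹ ∈ S.ι.range := fun a ha =>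
    S.inside hk3 hk1 (by rw [← hk, conj_mul, ha, ← conj_mul])
  obtain ⟨j, hj⟩ := hin w (hQw b b.2).symm
  have hj2 : j * j = 1 := S.inj (by rw [map_mul, hj, conj_mul, h2, map_one]; simp)
  have hj1 : j ≠ 1 := fun e => by
    rw [e, map_one] at hj
    exact hne (conj_eq_one_iff.1 hj.symm)
  refine not_nine_cent hj2 hj1 ?_
  set Q' := (Q.map (MulAut.conj g).toMonoidHom).comap S.ι with hQ'
  have hle : Q.map (MulAut.conj g).toMonoidHom ≤ S.ι.range := by
    rintro _ ⟨a, ha, rfl⟩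
    exact hin a (congrArg Subtype.val (hcomm ⟨a, ha⟩ b))
  have hcQ' : Nat.card Q' = 9 := by
    rw [← card_map_of_injective (f := S.ι) S.inj, hQ', map_comap_eq, inf_eq_right.2 hle,
      card_map_of_injective (MulAut.conj g).injective, hcQ]
    norm_num
  suffices hle' : Q' ≤ centralizer {j} by
    have := card_dvd_of_le hle'
    rwa [hcQ'] at this
  refine fun a ha => mem_centralizer_singleton_iff.2 (S.inj ?_)
  obtain ⟨c, hc, hca⟩ := mem_map.1 (mem_comap.1 ha)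
  rw [map_mul, map_mul, hj, ← hca]
  show g * c * g⁻¹ * (g * w * g⁻¹) = g * w * g⁻¹ * (g * c * g⁻¹)
  rw [conj_mul, conj_mul, hQw c hc]

/-- The two classes of involutions of the alternating subgroup are not fused. -/
theorem Emb.not_isConj : ¬ IsConj (S.ι8 t8) (S.ι8 u8) := by
  intro h
  obtain ⟨g, hg⟩ := isConj_iff.1 h
  haveI : Fact (Nat.Prime 3) := ⟨by norm_num⟩
  set C := centralizer ({S.ι8 t8} : Set G) with hC
  have hcC : S.ι8 c8 ∈ C := mem_centralizer_singleton_iff.2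
    (by rw [← map_mul, ← map_mul, t_comm_c])
  have hYC : g⁻¹ * S.ι8 (a8 * b8) * g ∈ C := by
    refine mem_centralizer_singleton_iff.2 ?_
    have e : S.ι8 u8 * S.ι8 (a8 * b8) = S.ι8 (a8 * b8) * S.ι8 u8 := by
      rw [← map_mul S.ι8 u8, ← map_mul S.ι8 _ u8, ab_comm]
    calc g⁻¹ * S.ι8 (a8 * b8) * g * S.ι8 t8
        = g⁻¹ * (S.ι8 (a8 * b8) * (g * S.ι8 t8 * g⁻¹)) * g := by group
      _ = g⁻¹ * ((g * S.ι8 t8 * g⁻¹) * S.ι8 (a8 * b8)) * g := by rw [hg, e]
      _ = _ := by group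
  have h9 : ¬ 9 ∣ Nat.card C := S.not_nine
    (by rw [← map_mul, show t8 * t8 = 1 by decide +kernel, map_one])
    (fun e => absurd (S.inj8 (e.trans (map_one _).symm)) (by decide +kernel))
  let c : C := ⟨S.ι8 c8, hcC⟩
  let Y : C := ⟨g⁻¹ * S.ι8 (a8 * b8) * g, hYC⟩
  have hc3 : c ^ 3 = 1 := Subtype.ext (by
    rw [coe_pow]; show S.ι8 c8 ^ 3 = 1; rw [← map_pow, c_cube, map_one])
  have hc1 : c ≠ 1 := fun e => c_ne.1 (S.inj8 ((congrArg Subtype.val e).trans (map_one S.ι8).symm))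
  have hab3 : (a8 * b8) ^ 3 = 1 ∧ a8 * b8 ≠ 1 := by decide +kernel
  have hY3 : Y ^ 3 = 1 := Subtype.ext (by
    rw [coe_pow]; show (g⁻¹ * S.ι8 (a8 * b8) * g) ^ 3 = 1
    have := conj_pow (i := 3) (a := g⁻¹) (b := S.ι8 (a8 * b8))
    rw [inv_inv] at this
    rw [this, ← map_pow, hab3.1, map_one, mul_one, inv_mul_cancel])
  have hY1 : Y ≠ 1 := fun e => hab3.2 (S.inj8 (by
    have h' : g⁻¹ * S.ι8 (a8 * b8) * g⁻¹⁻¹ = 1 := by rw [inv_inv]; exact congrArg Subtype.val e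
    rw [map_one]; exact conj_eq_one_iff.1 h'))
  let PY : Sylow 3 C := Sylow.ofCard (zpowers Y) (card_zpowers_three h9 hY3 hY1)
  let Pc : Sylow 3 C := Sylow.ofCard (zpowers c) (card_zpowers_three h9 hc3 hc1)
  obtain ⟨k, hk⟩ := MulAction.exists_smul_eq C PY Pc
  have hmem : k * Y * k⁻¹ ∈ (Pc : Subgroup C) := by
    rw [← hk, Sylow.coe_subgroup_smul, Subgroup.mem_pointwise_smul_iff_inv_smul_mem,
      ← map_inv, MulAut.smul_def, MulAut.conj_apply, inv_inv, Sylow.coe_ofCard]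
    have : k⁻¹ * (k * Y * k⁻¹) * k = Y := by group
    rw [this]; exact mem_zpowers Y
  rw [Sylow.coe_ofCard] at hmem
  have hconj : IsConj (S.ι8 y8) ((k : G) * (g⁻¹ * S.ι8 (a8 * b8) * g) * (k : G)⁻¹) := by
    refine isConj_iff.2 ⟨(k : G) * g⁻¹ * S.ι8 r8, ?_⟩
    rw [← ab_conj, S.ι8_conj]
    group
  have hcz : IsConj (S.ι8 z8) (S.ι8 c8) :=
    isConj_iff.2 ⟨S.ι8 s8, by rw [← S.ι8_conj, s_conj_z]⟩
  rcases zpowers_three hc3 hmem with e | e | e
  · exact hY1 (conj_eq_one_iff.1 e)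
  · have e' := congrArg Subtype.val e
    simp only [coe_mul, coe_inv, Y, c] at e'
    rw [e'] at hconj
    exact S.not_isConj_zy (hcz.trans hconj.symm)
  · have e' := congrArg Subtype.val e
    simp only [coe_mul, coe_inv, Y, c] at e'
    rw [e'] at hconj
    have : IsConj (S.ι8 c8) (S.ι8 c8)⁻¹ :=
      isConj_iff.2 ⟨S.ι8 e8, by rw [← S.ι8_conj, e_inv_c, map_inv]⟩
    exact S.not_isConj_zy ((hcz.trans this).trans hconj.symm)

/-- the centraliser of the four-group on the first four letters -/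
def Emb.CV : Subgroup G := centralizer ({S.ι8 t8, S.ι8 a8} : Set G)

theorem Emb.mem_CV {x : G} :
    x ∈ S.CV ↔ x * S.ι8 t8 = S.ι8 t8 * x ∧ x * S.ι8 a8 = S.ι8 a8 * x := by
  simp [Emb.CV, mem_centralizer_iff, eq_comm]

theorem Emb.CV_le : S.CV ≤ S.ι.range := by
  have h := S.cent_V
  rwa [← inc_values.2.2.1, ← inc_values.2.2.2] at h

theorem Emb.normV {x : G} (hp : ∃ p ∈ T0, x * S.ι8 t8 * x⁻¹ = S.ι8 p)
    (hq : ∃ q ∈ T0, x * S.ι8 a8 * x⁻¹ = S.ι8 q) : x ∈ S.ι.range := by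
  obtain ⟨p, hp, ep⟩ := hp
  obtain ⟨q, hq, eq'⟩ := hq
  have hne : p ≠ q := by
    rintro rfl
    have : S.ι8 t8 = S.ι8 a8 := conj_injective (x := x) (ep.trans eq'.symm)
    exact absurd (S.inj8 this) (by decide +kernel)
  obtain ⟨k, -, kp, kq⟩ := T0_pair p hp q hq hne
  have fix : ∀ {w r : A8}, k * w * k⁻¹ = r → x * S.ι8 w * x⁻¹ = S.ι8 r →
      (S.ι8 k)⁻¹ * x * S.ι8 w = S.ι8 w * ((S.ι8 k)⁻¹ * x) := by
    intro w r h1 h2
    rw [← h1, S.ι8_conj] at h2
    calc (S.ι8 k)⁻¹ * x * S.ι8 w = (S.ι8 k)⁻¹ * (x * S.ι8 w * x⁻¹) * x := by group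
      _ = (S.ι8 k)⁻¹ * (S.ι8 k * S.ι8 w * (S.ι8 k)⁻¹) * x := by rw [h2]
      _ = _ := by group
  have hCV : (S.ι8 k)⁻¹ * x ∈ S.CV := S.mem_CV.2 ⟨fix kp ep, fix kq eq'⟩
  have e : x = S.ι8 k * ((S.ι8 k)⁻¹ * x) := by group
  rw [e]
  exact mul_mem (S.mem8 k) (S.CV_le hCV)

theorem Emb.isConj_t_T0 {p : A8} (hp : p ∈ T0) : IsConj (S.ι8 t8) (S.ι8 p) := by
  obtain ⟨k, -, rfl⟩ := T0_conj p hp
  exact isConj_iff.2 ⟨S.ι8 k, (S.ι8_conj k t8).symm⟩

theorem Emb.normW {g : G} (hg : ∀ w ∈ L16, ∃ w' ∈ L16, g * S.ι8 w * g⁻¹ = S.ι8 w') :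
    g ∈ S.ι.range := by
  have img : ∀ w ∈ T0, w ∈ L16 → ∃ w' ∈ T0 ++ T1, g * S.ι8 w * g⁻¹ = S.ι8 w' := by
    intro w hw hw16
    obtain ⟨w', hw', e⟩ := hg w hw16
    refine ⟨w', ?_, e⟩
    rcases L16_type w' hw' with rfl | h | h | ⟨k, -, k', -, h⟩
    · exfalso
      rw [map_one] at e
      have hw1 : w = 1 := S.inj8 (by rw [map_one]; exact conj_eq_one_iff.1 e)
      subst hw1
      exact absurd hw (by decide +kernel)
    · exact List.mem_append_left _ h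
    · exact List.mem_append_right _ h
    · exfalso
      refine S.not_isConj (((S.isConj_t_T0 hw).trans (isConj_iff.2 ⟨g, e⟩)).trans ?_)
      rw [← h]
      exact (isConj_iff.2 ⟨S.ι8 (k * (s8 * k' * s8)), (S.ι8_conj _ u8).symm⟩).symm
  obtain ⟨p, hp, ep⟩ := img t8 (by simp [T0]) L16_mem.1
  obtain ⟨q, hq, eq'⟩ := img a8 (by simp [T0]) L16_mem.2.1
  obtain ⟨r, hr, er⟩ := img (t8 * a8) (by simp [T0]) L16_mem.2.2
  have hpq : r = p * q := S.inj8 (by rw [← er, map_mul, map_mul, ← ep, ← eq']; group)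
  rcases T_sides p hp q hq (hpq ▸ hr) with ⟨h1, h2⟩ | ⟨h1, h2⟩
  · exact S.normV ⟨p, h1, ep⟩ ⟨q, h2, eq'⟩
  · have hs : S.ι8 s8 * g ∈ S.ι.range := by
      refine S.normV ⟨s8 * p * s8⁻¹, T1_swap p h1, ?_⟩ ⟨s8 * q * s8⁻¹, T1_swap q h2, ?_⟩
      · rw [S.ι8_conj, ← ep]; group
      · rw [S.ι8_conj, ← eq']; group
    have e : g = (S.ι8 s8)⁻¹ * (S.ι8 s8 * g) := by group
    rw [e]
    exact mul_mem (inv_mem (S.mem8 s8)) hs

theorem Emb.normR {g : G} (hg : ∀ x ∈ L64, ∃ x' ∈ L64, g * S.ι8 x * g⁻¹ = S.ι8 x') :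
    g ∈ S.ι.range := by
  classical
  refine S.normW fun w hw => ?_
  let f : A8 → A8 := fun w => Function.invFun S.ι8 (g * S.ι8 w * g⁻¹)
  have hf : ∀ w ∈ L16, f w ∈ L64 ∧ S.ι8 (f w) = g * S.ι8 w * g⁻¹ := by
    intro w hw
    obtain ⟨x', hx', e⟩ := hg w (L16_sub w hw)
    have h : S.ι8 (f w) = g * S.ι8 w * g⁻¹ := Function.invFun_eq ⟨x', e.symm⟩
    exact ⟨(S.inj8 (h.trans e)) ▸ hx', h⟩
  obtain ⟨hwm, hwe⟩ := hf w hw
  refine ⟨f w, ?_, hwe.symm⟩
  have hsq : ∀ v ∈ L16, f v * f v = 1 := fun v hv => S.inj8 (by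
    rw [map_mul, (hf v hv).2, map_one,
      show g * S.ι8 v * g⁻¹ * (g * S.ι8 v * g⁻¹) = g * S.ι8 (v * v) * g⁻¹ by rw [map_mul]; group,
      L16_sq v hv, map_one, mul_one, mul_inv_cancel])
  by_contra hout
  have hlen := (L64_few (f w) hwm (hsq w hw)).resolve_left hout
  have hmaps : Set.MapsTo f ↑L16.toFinset
      ↑(L64.filter fun y => decide (y * y = 1) && decide (f w * y = y * f w)).toFinset := by
    intro v hv
    simp only [Finset.mem_coe, List.mem_toFinset] at hv ⊢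
    refine List.mem_filter.2 ⟨(hf v hv).1, ?_⟩
    simp only [Bool.and_eq_true, decide_eq_true_eq]
    refine ⟨hsq v hv, S.inj8 ?_⟩
    rw [map_mul, map_mul, (hf v hv).2, hwe,
      show g * S.ι8 w * g⁻¹ * (g * S.ι8 v * g⁻¹) = g * S.ι8 (w * v) * g⁻¹ by rw [map_mul]; group,
      L16_comm w hw v hv, map_mul]
    group
  have hinj : Set.InjOn f ↑L16.toFinset := by
    intro v hv v' hv' h
    simp only [Finset.mem_coe, List.mem_toFinset] at hv hv'
    exact S.inj8 (conj_injective (x := g)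
      ((hf v hv).2.symm.trans ((congrArg S.ι8 h).trans (hf v' hv').2)))
  have h16 := Finset.card_le_card_of_injOn f hmaps hinj
  rw [List.toFinset_card_of_nodup L16_nodup] at h16
  have := (List.toFinset_card_le _).trans hlen
  have h : L16.length = 16 := rfl
  omega

include S in
/-- The Sylow 2-subgroups have order at most 64. -/
theorem Emb.not_dvd_two_pow : ¬ 128 ∣ Nat.card G := by
  intro h
  haveI : Fact (Nat.Prime 2) := ⟨Nat.prime_two⟩
  set R : Subgroup G := (listSubgroup L64 L64_one L64_mul).map S.ι8 with hR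
  have hcR : Nat.card R = 64 := S.card_map8 L64_one L64_mul L64_nodup
  obtain ⟨P, hP⟩ := (IsPGroup.of_card (p := 2) (n := 6) (G := R) (by rw [hcR]; norm_num))
    |>.exists_le_sylow
  have h128 : 128 ≤ Nat.card P := by
    rw [P.card_eq_multiplicity, show (128 : ℕ) = 2 ^ 7 by norm_num]
    exact Nat.pow_le_pow_right (by norm_num)
      ((Nat.prime_two.pow_dvd_iff_le_factorization Nat.card_pos.ne').1 (by simpa using h))
  set R' : Subgroup P := R.subgroupOf P with hR'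
  have hcR' : Nat.card R' = 64 := by
    rw [Nat.card_congr (subgroupOfEquivOfLe hP).toEquiv, hcR]
  have hlt : R' < ⊤ := lt_top_iff_ne_top.2 fun e => by
    rw [e, card_top] at hcR'
    omega
  haveI : Group.IsNilpotent (P : Subgroup G) := P.2.isNilpotent
  have hnc : R' < normalizer (R' : Set P) := Group.normalizerCondition_of_isNilpotent R' hlt
  set N : Subgroup P := normalizer (R' : Set P) with hN
  have hle : N.map (P : Subgroup G).subtype ≤ S.ι.range := by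
    rintro _ ⟨n, hn, rfl⟩
    refine S.normR fun x hx => ?_
    have hxR : S.ι8 x ∈ R := mem_map.2 ⟨x, hx, rfl⟩
    have := (mem_normalizer_iff.1 hn ⟨S.ι8 x, hP hxR⟩).1 (mem_subgroupOf.2 hxR)
    obtain ⟨x', hx', e⟩ := mem_map.1 (mem_subgroupOf.1 this)
    exact ⟨x', hx', e.symm⟩
  have hd := card_dvd_of_le hle
  rw [← Nat.card_congr (N.equivMapOfInjective _ (subtype_injective _)).toEquiv,
    ← Nat.card_congr (MonoidHom.ofInjective S.inj).toEquiv, card_A9] at hd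
  obtain ⟨j, hj⟩ := IsPGroup.iff_card.1 (P.2.to_subgroup N)
  rw [hj] at hd
  have hj6 : j ≤ 6 := by
    by_contra hlt'
    have := (pow_dvd_pow 2 (show 7 ≤ j by omega)).trans hd
    norm_num at this
  have hle64 : Nat.card N ≤ 64 := by
    rw [hj]; exact (Nat.pow_le_pow_right (by norm_num) hj6).trans (by norm_num)
  exact hnc.ne (eq_of_le_of_card_ge hnc.le (by omega))

/-- the image of the subgroup of order eight -/
def Emb.E : Subgroup G := (listSubgroup L8 L8_mem.2.2.2 L8_mul).map S.ι8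

omit [Finite G] in
theorem Emb.mem_E {x : G} : x ∈ S.E ↔ ∃ k ∈ L8, S.ι8 k = x := mem_map

/-- The centralizer of the subgroup of order eight lies in the alternating subgroup. -/
theorem Emb.cent_E : centralizer ({S.ι8 t8, S.ι8 v8, S.ι8 e8} : Set G) ≤ S.ι.range := by
  set C := centralizer ({S.ι8 t8, S.ι8 v8, S.ι8 e8} : Set G) with hC
  have hgen : ∀ x, x ∈ C ↔ (x * S.ι8 t8 = S.ι8 t8 * x ∧ x * S.ι8 v8 = S.ι8 v8 * x ∧
      x * S.ι8 e8 = S.ι8 e8 * x) := by
    intro x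
    simp [hC, mem_centralizer_iff, eq_comm]
  have hall : ∀ x, x ∈ C ↔ ∀ l ∈ L8, x * S.ι8 l = S.ι8 l * x := by
    intro x
    refine ⟨fun hx l hl => ?_, fun h => (hgen x).2 ⟨h _ L8_mem.1, h _ L8_mem.2.1, h _ L8_mem.2.2.1⟩⟩
    obtain ⟨h1, h2, h3⟩ := (hgen x).1 hx
    obtain ⟨w, hw, d, hd, rfl⟩ := mem_prods.1 hl
    obtain ⟨a, ha, b, hb, rfl⟩ := mem_prods.1 hw
    have two : ∀ {p q : A8}, x * S.ι8 p = S.ι8 p * x → q ∈ [1, p] → Commute x (S.ι8 q) := by
      intro p q hpx hq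
      simp only [List.mem_cons, List.not_mem_nil, or_false] at hq
      rcases hq with rfl | rfl
      · rw [map_one]; exact Commute.one_right x
      · exact hpx
    rw [map_mul, map_mul]
    exact ((two h1 ha).mul_right (two h2 hb)).mul_right (two h3 hd)
  have hEC : S.E ≤ C := by
    intro x hx
    obtain ⟨k, hk, rfl⟩ := S.mem_E.1 hx
    refine (hall _).2 fun l hl => ?_
    have e : k * l = l * k := by
      have h1 := L8_sq _ (L8_mul k hk l hl)
      have hki : k⁻¹ = k := inv_eq_of_mul_eq_one_right (L8_sq k hk)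
      have hli : l⁻¹ = l := inv_eq_of_mul_eq_one_right (L8_sq l hl)
      rw [← inv_eq_of_mul_eq_one_right h1, mul_inv_rev, hki, hli]
    rw [← map_mul, e, map_mul]
  have hcE : ∀ e ∈ S.E, ∀ x ∈ C, e * x = x * e := by
    intro e he x hx
    obtain ⟨k, hk, rfl⟩ := S.mem_E.1 he
    exact ((hall x).1 hx k hk).symm
  have hEsq : ∀ e ∈ S.E, e * e = 1 := by
    intro e he
    obtain ⟨k, hk, rfl⟩ := S.mem_E.1 he
    rw [← map_mul, L8_sq k hk, map_one]
  have hHC : ∀ x ∈ C, x ∈ S.ι.range → x ∈ S.E := by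
    rintro _ hx ⟨k9, rfl⟩
    obtain ⟨h1, h2, h3⟩ := (hgen _).1 hx
    obtain ⟨k, rfl⟩ := fix_of_comm_u (k := k9) (S.inj (by
      rw [map_mul, map_mul]
      show S.ι k9 * S.ι8 (t8 * v8) = S.ι8 (t8 * v8) * S.ι k9
      rw [map_mul]
      exact (Commute.mul_right h1 h2)))
    change S.ι8 k * _ = _ * S.ι8 k at h1 h2 h3
    exact S.mem_E.2 ⟨k, E_self (S.inj8 (by rw [map_mul, map_mul, h1]))
      (S.inj8 (by rw [map_mul, map_mul, h2])) (S.inj8 (by rw [map_mul, map_mul, h3])), rfl⟩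
  have nrmE : ∀ {n : A8}, (∀ x ∈ L8, n * x * n⁻¹ ∈ L8) →
      ∀ x ∈ S.E, S.ι8 n * x * (S.ι8 n)⁻¹ ∈ S.E := by
    intro n hn x hx
    obtain ⟨k, hk, rfl⟩ := S.mem_E.1 hx
    exact S.mem_E.2 ⟨_, hn k hk, S.ι8_conj n k⟩
  have nrmC : ∀ {n : A8}, n * n = 1 → (∀ x ∈ L8, n * x * n⁻¹ ∈ L8) →
      ∀ x ∈ C, S.ι8 n * x * (S.ι8 n)⁻¹ ∈ C := by
    intro n hn2 hn x hx
    refine (hall _).2 fun l hl => ?_
    have h := (hall x).1 hx _ (hn l hl)
    rw [S.ι8_conj] at h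
    have hi : S.ι8 n * S.ι8 n = 1 := by rw [← map_mul, hn2, map_one]
    have hi' : (S.ι8 n)⁻¹ = S.ι8 n := inv_eq_of_mul_eq_one_right hi
    calc S.ι8 n * x * (S.ι8 n)⁻¹ * S.ι8 l
        = S.ι8 n * (x * ((S.ι8 n)⁻¹ * S.ι8 l * S.ι8 n)) * (S.ι8 n)⁻¹ := by group
      _ = S.ι8 n * (((S.ι8 n)⁻¹ * S.ι8 l * S.ι8 n) * x) * (S.ι8 n)⁻¹ := by
          rw [hi'] at h ⊢
          rw [h]
      _ = _ := by group
  have fixA : ∀ x ∈ C, x⁻¹ * (S.ι8 a8 * x * (S.ι8 a8)⁻¹) ∈ S.E → x ∈ S.E := by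
    intro x hx he
    obtain ⟨l, hl, e⟩ := S.mem_E.1 he
    have ex : x⁻¹ * S.ι8 a8 * x = S.ι8 (l * a8) := by rw [map_mul, e]; group
    have ha2 : S.ι8 a8 * S.ι8 a8 = 1 := by rw [← map_mul, a_sq, map_one]
    have hl2 : l * a8 * (l * a8) = 1 := S.inj8 (by
      rw [map_mul, ← ex, map_one,
        show x⁻¹ * S.ι8 a8 * x * (x⁻¹ * S.ι8 a8 * x) = x⁻¹ * (S.ι8 a8 * S.ι8 a8) * x by group,
        ha2, mul_one, inv_mul_cancel])
    have hT : l * a8 ∈ T0 := by
      rcases L8_a_inv l hl hl2 with rfl | rfl | ⟨k, -, k', -, h⟩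
      · simp [T0]
      · simp [T0]
      · exfalso
        refine S.not_isConj ((S.isConj_t_T0 (p := a8) (by simp [T0])).trans ?_)
        refine IsConj.trans (isConj_iff.2 ⟨x⁻¹, by rw [inv_inv]⟩ :
          IsConj (S.ι8 a8) (x⁻¹ * S.ι8 a8 * x)) ?_
        rw [ex, ← h]
        exact (isConj_iff.2 ⟨S.ι8 (k * (s8 * k' * s8)), (S.ι8_conj _ u8).symm⟩).symm
    have hr : x⁻¹ ∈ S.ι.range := by
      refine S.normV ⟨t8, by simp [T0], ?_⟩ ⟨l * a8, hT, by rw [inv_inv]; exact ex⟩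
      rw [inv_inv, mul_assoc, ← (hall x).1 hx t8 L8_mem.1, inv_mul_cancel_left]
    exact hHC x hx (by simpa using inv_mem hr)
  have fixB : ∀ x ∈ C, x⁻¹ * (S.ι8 b8 * x * (S.ι8 b8)⁻¹) ∈ S.E → x ∈ S.E := by
    intro x hx he
    have hk2 : S.ι8 k8 * S.ι8 k8 = 1 := by rw [← map_mul, k_sq, map_one]
    have hki : (S.ι8 k8)⁻¹ = S.ι8 k8 := inv_eq_of_mul_eq_one_right hk2
    have hba : S.ι8 k8 * S.ι8 b8 * (S.ι8 k8)⁻¹ = S.ι8 a8 := by
      rw [← S.ι8_conj, show k8 * b8 * k8⁻¹ = a8 by decide +kernel]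
    have e : (S.ι8 k8 * x * (S.ι8 k8)⁻¹)⁻¹ *
        (S.ι8 a8 * (S.ι8 k8 * x * (S.ι8 k8)⁻¹) * (S.ι8 a8)⁻¹) =
          S.ι8 k8 * (x⁻¹ * (S.ι8 b8 * x * (S.ι8 b8)⁻¹)) * (S.ι8 k8)⁻¹ := by
      rw [← hba]; group
    have h1 := fixA _ (nrmC k_sq L8_k x hx) (by rw [e]; exact nrmE L8_k _ he)
    have := nrmE L8_k _ h1
    rw [hki] at this
    rwa [show S.ι8 k8 * (S.ι8 k8 * x * S.ι8 k8) * S.ι8 k8 =
      S.ι8 k8 * S.ι8 k8 * x * (S.ι8 k8 * S.ι8 k8) by group, hk2, one_mul, mul_one] at this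
  have invA := invert_mod hEC hcE (by rw [← map_mul, a_sq, map_one]) (nrmC a_sq L8_a)
    (nrmE L8_a) fixA
  have invB := invert_mod hEC hcE (by rw [← map_mul, b_sq, map_one]) (nrmC b_sq L8_b)
    (nrmE L8_b) fixB
  intro z hz
  have hzE : z ∈ S.E := by
    have h2E := invA z hz
    have h1E := invB z hz
    set A := S.ι8 a8 with hA
    set B := S.ι8 b8 with hB
    set e1 := B * z * B⁻¹ * z with he1
    set e2 := A * z * A⁻¹ * z with he2
    set e1' := A * e1 * A⁻¹ with he1'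
    have h1E' : e1' ∈ S.E := nrmE L8_a _ h1E
    have hY : A * B * z * (A * B)⁻¹ = z * (e1' * e2⁻¹) := by
      calc A * B * z * (A * B)⁻¹ = e1' * z * e2⁻¹ := by rw [he1', he1, he2]; group
        _ = z * (e1' * e2⁻¹) := by rw [hcE _ h1E' z hz, mul_assoc]
    generalize he3 : e1' * e2⁻¹ = e3 at hY
    have h3E : e3 ∈ S.E := he3 ▸ mul_mem h1E' (inv_mem h2E)
    have hY2 : A * B * (z * z) * (A * B)⁻¹ = z * z := by
      calc A * B * (z * z) * (A * B)⁻¹
          = (A * B * z * (A * B)⁻¹) * (A * B * z * (A * B)⁻¹) := by group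
        _ = z * (e3 * z) * e3 := by rw [hY]; group
        _ = z * z * (e3 * e3) := by rw [hcE _ h3E z hz]; group
        _ = z * z := by rw [hEsq _ h3E, mul_one]
    have hY3 : z * z * S.ι8 (a8 * b8) = S.ι8 (a8 * b8) * (z * z) := by
      rw [map_mul]
      calc z * z * (A * B) = (A * B * (z * z) * (A * B)⁻¹) * (A * B) := by rw [hY2]
        _ = A * B * (z * z) := by group
    have hzz : z * z ∈ S.E := by
      refine hHC _ (mul_mem hz hz) ?_
      exact S.inside (k := inc (a8 * b8)) (by decide +kernel) (by decide +kernel) hY3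
    apply fixA z hz
    have : z⁻¹ * (A * z * A⁻¹) = e2 * (z * z)⁻¹ := by
      calc z⁻¹ * (A * z * A⁻¹) = z⁻¹ * e2 * z⁻¹ := by rw [he2]; group
        _ = e2 * (z * z)⁻¹ := by rw [← hcE _ h2E _ (inv_mem hz)]; group
    rw [this]
    exact mul_mem h2E (inv_mem hzz)
  obtain ⟨k, -, rfl⟩ := S.mem_E.1 hzE
  exact S.mem8 k

end CfsgLib.ANineThree
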