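import Cfsg.Agent.Lib.ANineThree.Basic
import Cfsg.Agent.Lib.AEightThree.Fusion
import Cfsg.Agent.Lib.AEightThree.RecogniseModel

/-!
Facts about the alternating group of degree nine used for the fusion of involutions: the inclusion
of the alternating group of degree eight as the stabiliser of the last point, the classes of
elements of order three and the orders of centralisers of involutions.
-/

set_option autoImplicit false
set_option maxRecDepth 100000

namespace CfsgLib.ANineThree

open Equiv Subgroup CfsgLib.AEightThree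

/-- the alternating group of degree nine -/
abbrev A9 := alternatingGroup (Fin 9)

/-- the first eight points -/
def eightEquiv : Fin 8 ≃ {i : Fin 9 // i.1 < 8} where
  toFun i := ⟨i.castSucc, i.2⟩
  invFun i := ⟨i.1.1, i.2⟩
  left_inv _ := rfl
  right_inv _ := rfl

/-- the inclusion as the stabiliser of the last point -/
def inc : A8 →* A9 :=
  ((Perm.extendDomainHom eightEquiv).comp (alternatingGroup (Fin 8)).subtype).codRestrict _
    fun σ => Perm.mem_alternatingGroup.2 (by
      show Perm.sign (Perm.extendDomain σ.1 eightEquiv) = 1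
      rw [Perm.sign_extendDomain]
      exact Perm.mem_alternatingGroup.1 σ.2)

theorem inc_inj : Function.Injective inc := fun a b h =>
  Subtype.ext (Perm.extendDomainHom_injective eightEquiv (congrArg Subtype.val h))

theorem inc_values : inc z8 = z9 ∧ inc y8 = y9 ∧ inc t8 = t9 ∧ inc a8 = a9 := by decide +kernel

theorem fix_eight {k : A9} (hk : (k : P9) 8 = 8) : ∃ σ : A8, inc σ = k := by
  have hlt : ∀ (l : P9), l 8 = 8 → ∀ i : Fin 8, (l i.castSucc).1 < 8 := by
    intro l hl i
    have hne : l i.castSucc ≠ 8 := fun h => by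
      have := congrArg Fin.val (l.injective (h.trans hl.symm))
      simp at this
      omega
    have h8 : (l i.castSucc).1 ≠ 8 := fun h => hne (Fin.ext h)
    omega
  have hk' : (k : P9)⁻¹ 8 = 8 := by
    rw [Perm.inv_eq_iff_eq]; exact hk.symm
  let σ : Perm (Fin 8) :=
    { toFun := fun i => ⟨_, hlt _ hk i⟩
      invFun := fun i => ⟨_, hlt _ hk' i⟩
      left_inv := fun i => Fin.ext (by simp)
      right_inv := fun i => Fin.ext (by simp) }
  have he : Perm.extendDomain σ eightEquiv = (k : P9) := by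
    refine Equiv.ext fun i => ?_
    by_cases hi : i.1 < 8
    · rw [Perm.extendDomain_apply_subtype (b := i) σ eightEquiv hi]
      exact Fin.ext rfl
    · rw [Perm.extendDomain_apply_not_subtype (b := i) σ eightEquiv hi,
        show i = 8 from Fin.ext (by have := i.2; simp; omega), hk]
  refine ⟨⟨σ, Perm.mem_alternatingGroup.2 ?_⟩, Subtype.ext he⟩
  rw [← Perm.sign_extendDomain σ eightEquiv, he]
  exact Perm.mem_alternatingGroup.1 k.2

theorem u_only_fix : ∀ i : Fin 9, ((inc u8 : A9) : P9) i = i → i = 8 := by decide +kernel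

theorem fix_of_comm_u {k : A9} (h : k * inc u8 = inc u8 * k) : ∃ σ : A8, inc σ = k := by
  refine fix_eight (u_only_fix _ ?_)
  have h8 : ((inc u8 : A9) : P9) 8 = 8 := by decide +kernel
  have := DFunLike.congr_fun (congrArg Subtype.val h) 8
  simp only [Subgroup.coe_mul, Perm.mul_apply, h8] at this
  exact this.symm

theorem comm_reflect {σ l : A8} (h : inc σ * inc l = inc l * inc σ) : σ * l = l * σ :=
  inc_inj (by rw [map_mul, map_mul, h])

/-- an odd permutation centralising the representative -/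
theorem odd_cent : (Perm.sign (swap (3 : Fin 9) 4) = -1 ∧
      swap (3 : Fin 9) 4 * (z9 : P9) = (z9 : P9) * swap 3 4) ∧
    (Perm.sign (swap (6 : Fin 9) 7) = -1 ∧
      swap (6 : Fin 9) 7 * (y9 : P9) = (y9 : P9) * swap 6 7) ∧
    (Perm.sign (swap (0 : Fin 9) 3 * swap 1 4 * swap 2 5) = -1 ∧
      swap (0 : Fin 9) 3 * swap 1 4 * swap 2 5 * (x9 : P9) =
        (x9 : P9) * (swap 0 3 * swap 1 4 * swap 2 5)) := by
  decide +kernel

theorem types : (z9 : P9).cycleType = Multiset.replicate 1 3 ∧
    (y9 : P9).cycleType = Multiset.replicate 2 3 ∧ (x9 : P9).cycleType = Multiset.replicate 3 3 := by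
  decide +kernel

theorem conj_of_type {w k : A9} {o : P9} (ho : Perm.sign o = -1)
    (how : o * (w : P9) = (w : P9) * o) (h : (w : P9).cycleType = (k : P9).cycleType) :
    ∃ c : A9, c * w * c⁻¹ = k := by
  obtain ⟨c, hc⟩ := isConj_iff.1 (Perm.isConj_iff_cycleType_eq.2 h)
  rcases Int.units_eq_one_or (Perm.sign c) with hs | hs
  · exact ⟨⟨c, Perm.mem_alternatingGroup.2 hs⟩, Subtype.ext hc⟩
  · refine ⟨⟨c * o, Perm.mem_alternatingGroup.2 (by rw [map_mul, hs, ho]; rfl)⟩, Subtype.ext ?_⟩
    show c * o * (w : P9) * (c * o)⁻¹ = k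
    rw [← hc, mul_assoc c, how]
    group

/-- The three classes of elements of order three. -/
theorem three_conj {k : A9} (h3 : k ^ 3 = 1) (hne : k ≠ 1) :
    ∃ c : A9, c * z9 * c⁻¹ = k ∨ c * y9 * c⁻¹ = k ∨ c * x9 * c⁻¹ = k := by
  haveI : Fact (Nat.Prime 3) := ⟨Nat.prime_three⟩
  have ho : orderOf (k : P9) = 3 := orderOf_eq_prime
    (by rw [← Subgroup.coe_pow, h3]; rfl) (fun h => hne (Subtype.ext h))
  obtain ⟨n, hn⟩ := Perm.cycleType_prime_order (σ := (k : P9)) (by rw [ho]; norm_num)
  rw [ho] at hn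
  have hsum := Perm.sum_cycleType_le (k : P9)
  rw [hn, Multiset.sum_replicate, Fintype.card_fin, smul_eq_mul] at hsum
  obtain ⟨⟨h1, h1'⟩, ⟨h2, h2'⟩, ⟨h4, h4'⟩⟩ := odd_cent
  have hn3 : n = 0 ∨ n = 1 ∨ n = 2 := by omega
  rcases hn3 with rfl | rfl | rfl
  · obtain ⟨c, hc⟩ := conj_of_type h1 h1' (types.1.trans hn.symm)
    exact ⟨c, Or.inl hc⟩
  · obtain ⟨c, hc⟩ := conj_of_type h2 h2' (types.2.1.trans hn.symm)
    exact ⟨c, Or.inr (Or.inl hc)⟩
  · obtain ⟨c, hc⟩ := conj_of_type h4 h4' (types.2.2.trans hn.symm)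
    exact ⟨c, Or.inr (Or.inr hc)⟩

theorem card_cent_dvd (k : A9) : Nat.card (centralizer ({k} : Set A9)) ∣
    Nat.card (centralizer ({(k : P9)} : Set P9)) := by
  rw [← card_map_of_injective (alternatingGroup (Fin 9)).subtype_injective]
  refine card_dvd_of_le ?_
  rintro _ ⟨c, hc, rfl⟩
  exact mem_centralizer_singleton_iff.2
    (congrArg Subtype.val (mem_centralizer_singleton_iff.1 hc))

theorem not_nine_cent {k : A9} (h2 : k * k = 1) (hne : k ≠ 1) :
    ¬ 9 ∣ Nat.card (centralizer ({k} : Set A9)) := by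
  haveI : Fact (Nat.Prime 2) := ⟨Nat.prime_two⟩
  intro h
  have hP := h.trans (card_cent_dvd k)
  have ho : orderOf (k : P9) = 2 := orderOf_eq_prime
    (by rw [pow_two]; exact congrArg Subtype.val h2) (fun h => hne (Subtype.ext h))
  obtain ⟨n, hn⟩ := Perm.cycleType_prime_order (σ := (k : P9)) (by rw [ho]; norm_num)
  rw [ho] at hn
  have hsum := Perm.sum_cycleType_le (k : P9)
  rw [hn, Multiset.sum_replicate, Fintype.card_fin, smul_eq_mul] at hsum
  have hsign := Perm.mem_alternatingGroup.1 k.2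
  rw [Perm.sign_of_cycleType, hn] at hsign
  rw [Perm.nat_card_centralizer, hn, Fintype.card_fin] at hP
  have hn4 : n = 0 ∨ n = 1 ∨ n = 2 ∨ n = 3 := by omega
  rcases hn4 with rfl | rfl | rfl | rfl
  · exact absurd hsign (by decide)
  · exact absurd hP (by decide)
  · exact absurd hsign (by decide)
  · exact absurd hP (by decide)

theorem y_five_nine {k : A9} (hy : k * y9 = y9 * k) (h5 : k ^ 5 = 1) : k = 1 := by
  have h1 : Nat.card (centralizer ({(y9 : P9)} : Set P9)) = 108 := by
    rw [Perm.nat_card_centralizer, types.2.1, Fintype.card_fin]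
    decide
  have h2 : orderOf (⟨k, mem_centralizer_singleton_iff.2 hy⟩ : centralizer ({y9} : Set A9)) ∣ 108 :=
    h1 ▸ (_root_.orderOf_dvd_natCard _).trans (card_cent_dvd y9)
  rw [Subgroup.orderOf_mk] at h2
  exact orderOf_eq_one_iff.1 (Nat.eq_one_of_dvd_coprimes (by norm_num : Nat.Coprime 5 108)
    (orderOf_dvd_of_pow_eq_one h5) h2)

theorem card_A9 : Nat.card A9 = 181440 := by
  rw [nat_card_alternatingGroup, Nat.card_fin]
  rfl

end CfsgLib.ANineThree
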