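import Cfsg.Agent.Lib.ANineThree.Basic
import Cfsg.Agent.Lib.Recog.CarmichaelPresentation

/-!
The alternating group of degree six on the points `3, …, 8`, and the extension of the
thirty-six elements fixing the first block.
-/

set_option autoImplicit false
set_option maxRecDepth 100000
set_option linter.style.haveILetI false

namespace CfsgLib.ANineThree.GlueModel

open Equiv Subgroup CfsgLib.Recog

/-- The points outside the first block. -/
def emb : Fin 6 ≃ {i : Fin 9 // 3 ≤ i.1} where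
  toFun i := ⟨⟨i.1 + 3, by omega⟩, Nat.le_add_left 3 i.1⟩
  invFun i := ⟨i.1.1 - 3, by omega⟩
  left_inv i := Fin.ext (by simp)
  right_inv i := Subtype.ext (Fin.ext (by
    have := i.2
    simp only
    omega))

/-- Permutations of six letters on the points outside the first block. -/
def ι9 : Perm (Fin 6) →* P9 := Perm.ofSubtype.comp emb.permCongrHom.toMonoidHom

/-- The alternating group of degree six on the points outside the first block. -/
def ι6 : alternatingGroup (Fin 6) →* P9 := ι9.comp (alternatingGroup (Fin 6)).subtype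

theorem ι9_fix (σ : Perm (Fin 6)) {i : Fin 9} (h : i.1 < 3) : ι9 σ i = i :=
  Perm.ofSubtype_apply_of_not_mem _ (by omega)

theorem ι9_emb (σ : Perm (Fin 6)) (j : Fin 6) : ι9 σ (emb j) = emb (σ j) := by
  show Perm.ofSubtype (emb.permCongr σ) (emb j) = _
  rw [Perm.ofSubtype_apply_coe, Equiv.permCongr_apply, Equiv.symm_apply_apply]

theorem sign_ι9 (σ : Perm (Fin 6)) : Perm.sign (ι9 σ) = Perm.sign σ := by
  show Perm.sign (Perm.ofSubtype (emb.permCongr σ)) = _
  rw [Perm.sign_ofSubtype, Perm.sign_permCongr]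

theorem ι9_injective : Function.Injective ι9 :=
  Perm.ofSubtype_injective.comp emb.permCongrHom.injective

theorem ι6_injective : Function.Injective ι6 := ι9_injective.comp Subtype.val_injective

theorem exists_ι9 (σ : P9) (h : ∀ i : Fin 9, i.1 < 3 → σ i = i) : ∃ m, ι9 m = σ := by
  have h' : ∀ i : Fin 9, 3 ≤ (σ i).1 ↔ 3 ≤ i.1 := fun i => by
    by_cases hi : i.1 < 3
    · rw [h i hi]
    · refine iff_of_true (not_lt.1 fun hlt => hi ?_) (not_lt.1 hi)
      exact σ.injective (h (σ i) hlt) ▸ hlt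
  refine ⟨emb.permCongrHom.symm (σ.subtypePerm h'), ?_⟩
  show Perm.ofSubtype (emb.permCongrHom (emb.permCongrHom.symm (σ.subtypePerm h'))) = σ
  rw [MulEquiv.apply_symm_apply]
  exact Perm.ofSubtype_subtypePerm h' fun i hi => not_lt.1 fun hlt => hi (h i hlt)

theorem exists_ι6 (σ : P9) (h : ∀ i : Fin 9, i.1 < 3 → σ i = i) (hs : Perm.sign σ = 1) :
    ∃ m, ι6 m = σ := by
  obtain ⟨m, rfl⟩ := exists_ι9 σ h
  exact ⟨⟨m, Perm.mem_alternatingGroup.2 (by rwa [sign_ι9] at hs)⟩, rfl⟩

theorem commute_swap (σ : Perm (Fin 6)) : Commute (swap (1 : Fin 9) 2) (ι9 σ) := by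
  refine Perm.Disjoint.commute fun i => ?_
  by_cases h : i.1 < 3
  · exact Or.inr (ι9_fix σ h)
  · exact Or.inl (swap_apply_of_ne_of_ne (fun e => h (by simp [e])) fun e => h (by simp [e]))

/-- `(0 1 2)` -/
def a6 : alternatingGroup (Fin 6) :=
  ⟨swap 0 1 * swap 1 2, Perm.mem_alternatingGroup.2 (by decide +kernel)⟩

/-- `(0 3 1 4)(2 5)` -/
def c6 : alternatingGroup (Fin 6) :=
  ⟨swap 0 3 * swap 3 1 * swap 1 4 * swap 2 5, Perm.mem_alternatingGroup.2 (by decide +kernel)⟩

/-- `(3 6 4 7)(5 8)` -/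
def cH : Hm := ⟨swap 3 6 * swap 6 4 * swap 4 7 * swap 5 8, by decide +kernel⟩

/-- `(1 2)` -/
def t6 : Perm (Fin 6) := swap 1 2

theorem ι6_gens : ι6 a6 = z2 ∧ ι6 c6 = (cH : P9) ∧ t = swap 1 2 * ι9 t6 := by decide +kernel

theorem t_conj (m : alternatingGroup (Fin 6)) :
    t * ι6 m * t⁻¹ = ι6 (MulAut.conjNormal t6 m) := by
  have h1 : ι6 (MulAut.conjNormal t6 m) = ι9 t6 * ι6 m * (ι9 t6)⁻¹ := by
    show ι9 ↑(MulAut.conjNormal t6 m) = ι9 t6 * ι9 m * (ι9 t6)⁻¹
    rw [MulAut.conjNormal_apply, map_mul, map_mul, map_inv]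
  have h2 : Commute (swap (1 : Fin 9) 2) (ι6 (MulAut.conjNormal t6 m)) := commute_swap _
  rw [ι6_gens.2.2, mul_inv_rev, h1]
  calc _ = swap 1 2 * (ι9 t6 * ι6 m * (ι9 t6)⁻¹) * (swap 1 2)⁻¹ := by group
    _ = _ := by rw [← h1, h2.eq]; group

/-- An element of the group of order thirty-six. -/
def wd {H : Type*} [Group H] (a c : H) (w : Fin 3 × Fin 3 × Fin 4) : H :=
  a ^ w.1.1 * (c * a * c⁻¹) ^ w.2.1.1 * c ^ w.2.2.1

theorem map_wd {H H' : Type*} [Group H] [Group H'] (f : H →* H') (a c : H)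
    (w : Fin 3 × Fin 3 × Fin 4) : f (wd a c w) = wd (f a) (f c) w := by
  simp only [wd, map_mul, map_pow, map_inv]

theorem wd_cover : ∀ m : Perm (Fin 6),
    (∀ i j : Fin 6, (m i).1 / 3 = (m j).1 / 3 ↔ i.1 / 3 = j.1 / 3) → Perm.sign m = 1 →
    ∃ w, m = wd (a6 : Perm (Fin 6)) (c6 : Perm (Fin 6)) w := by decide +kernel

/-- The elements of the normalizer of `J` fixing the first block pointwise. -/
theorem exists_wd (m : alternatingGroup (Fin 6)) (h : ι6 m ∈ Hm) :
    ∃ w, m = wd a6 c6 w := by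
  have hb : ∀ i j : Fin 6, ((m : Perm (Fin 6)) i).1 / 3 = ((m : Perm (Fin 6)) j).1 / 3 ↔
      i.1 / 3 = j.1 / 3 := fun i j => by
    have he : ∀ k : Fin 6, ((emb k : Fin 9) : ℕ) / 3 = k.1 / 3 + 1 := fun k => by
      show (k.1 + 3) / 3 = _
      omega
    have := (mem_Hm.1 h).2 (emb i) (emb j)
    change ((ι9 m) (emb i)).1 / 3 = ((ι9 m) (emb j)).1 / 3 ↔ _ at this
    rw [ι9_emb, ι9_emb, he, he, he, he] at this
    simpa using this
  obtain ⟨w, hw⟩ := wd_cover m hb (Perm.mem_alternatingGroup.1 m.2)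
  exact ⟨w, Subtype.ext (hw.trans (map_wd (alternatingGroup (Fin 6)).subtype a6 c6 w).symm)⟩

/-- Images of Carmichael's generators. -/
def car {H : Type*} [Mul H] (a b d : H) : Fin 4 → H := ![a, d, b * b, b * a * a * b]

/-- The element of order four as a word in Carmichael's generators. -/
def wc {H : Type*} [Mul H] (x : Fin 4 → H) : H := x 1 * x 2 * x 0 * x 1 * x 3 * x 0 * x 2 * x 1

/-- Carmichael's relations. -/
def Rels {H : Type*} [Monoid H] (x : Fin 4 → H) : Prop :=
  ∀ i j : Fin 4, (i.1 = 0 → x i ^ 3 = 1) ∧ (1 ≤ i.1 → x i ^ 2 = 1) ∧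
    (j.1 = i.1 + 1 → (x i * x j) ^ 3 = 1) ∧ (i.1 + 1 < j.1 → (x i * x j) ^ 2 = 1)

instance {H : Type*} [Monoid H] [DecidableEq H] (x : Fin 4 → H) : Decidable (Rels x) :=
  inferInstanceAs (Decidable (∀ _ _, _ ∧ _ ∧ _ ∧ _))

/-- Carmichael's generators in degree six. -/
def gens6 (i : Fin 4) : alternatingGroup (Fin 6) :=
  ⟨carmichaelGen 4 i, carmichaelGen_mem 4 i⟩

theorem gens6_car : (∀ i, gens6 i = car a6 c6 (gens6 1) i) ∧ wc gens6 = c6 := by decide +kernel

/-- The two classes of elements of order three. -/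
def rep (k : Fin 2) : Perm (Fin 6) :=
  if k = 0 then swap 0 1 * swap 1 2 else swap 0 1 * swap 1 2 * (swap 3 4 * swap 4 5)

/-- The hypotheses on the element of order four. -/
def Good (a b : Perm (Fin 6)) : Prop :=
  b * b * (b * b) = 1 ∧ b * b ≠ 1 ∧ b * b * a = a⁻¹ * (b * b) ∧
    a * (b * a * b⁻¹) = b * a * b⁻¹ * a ∧ Perm.sign b = 1

instance (a b : Perm (Fin 6)) : Decidable (Good a b) :=
  inferInstanceAs (Decidable (_ ∧ _ ∧ _ ∧ _ ∧ _))

/-- The extending element. -/
def Ext (a b d : Perm (Fin 6)) : Prop :=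
  d * d = 1 ∧ Rels (car a b d) ∧ wc (car a b d) = b ∧ Perm.sign d = 1

instance (a b d : Perm (Fin 6)) : Decidable (Ext a b d) :=
  inferInstanceAs (Decidable (_ ∧ _ ∧ _ ∧ _))

theorem extend_table : ∀ k : Fin 2, ∀ b : Perm (Fin 6), Good (rep k) b →
    ∃ d, Ext (rep k) b d := by
  decide +kernel

theorem unique_table : ∀ d : Perm (Fin 6), d * d = 1 →
    Rels (car (a6 : Perm (Fin 6)) (c6 : Perm (Fin 6)) d) →
    wc (car (a6 : Perm (Fin 6)) (c6 : Perm (Fin 6)) d) = (c6 : Perm (Fin 6)) →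
    d = (gens6 1 : Perm (Fin 6)) := by decide +kernel

theorem closure_gens6 : closure (Set.range gens6) = ⊤ := by
  refine Subgroup.map_injective (alternatingGroup (Fin 6)).subtype_injective ?_
  rw [MonoidHom.map_closure, ← Set.range_comp, ← MonoidHom.range_eq_map, range_subtype]
  refine le_antisymm ((closure_le _).2 ?_) fun g hg => ?_
  · rintro _ ⟨i, rfl⟩
    exact (gens6 i).2
  · exact alternatingGroup_le_closure 4 (by norm_num) hg

/-- A homomorphism with given values on Carmichael's generators. -/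
theorem exists_hom {H : Type*} [Group H] (x : Fin 4 → H) (hx : Rels x) :
    ∃ α : alternatingGroup (Fin 6) →* H, ∀ i, α (gens6 i) = x i := by
  have hrel : ∀ r ∈ carmichaelRelators 4, FreeGroup.lift x r = 1 := by
    rintro r (((⟨i, hi, rfl⟩ | ⟨i, hi, rfl⟩) | ⟨i, j, hij, rfl⟩) | ⟨i, j, hij, rfl⟩) <;>
      simp only [map_pow, map_mul, FreeGroup.lift_apply_of]
    exacts [(hx i i).1 hi, (hx i i).2.1 hi, (hx i j).2.2.1 hij, (hx i j).2.2.2 hij]
  set φ : PresentedGroup (carmichaelRelators 4) →* alternatingGroup (Fin 6) :=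
    PresentedGroup.toGroup (f := gens6) (fun r hr => by
      refine Subtype.ext ?_
      have e : (alternatingGroup (Fin 6)).subtype.comp (FreeGroup.lift gens6) =
          FreeGroup.lift (fun i => carmichaelGen 4 i) := FreeGroup.ext_hom _ _ fun i => by
        simp [gens6]
      rw [show ((FreeGroup.lift gens6 r : alternatingGroup (Fin 6)) : Perm (Fin 6)) =
        ((alternatingGroup (Fin 6)).subtype.comp (FreeGroup.lift gens6)) r from rfl, e,
        lift_carmichaelGen_eq_one 4 r hr]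
      rfl) with hφ
  have hφs : Function.Surjective φ := by
    rw [← MonoidHom.range_eq_top, eq_top_iff, ← closure_gens6, closure_le]
    rintro _ ⟨i, rfl⟩
    exact ⟨PresentedGroup.of i, PresentedGroup.toGroup.of _⟩
  obtain ⟨e0⟩ := presentation_alternating 4 (by norm_num)
  haveI : Finite (PresentedGroup (carmichaelRelators 4)) := Finite.of_equiv _ e0.symm.toEquiv
  have hbij : Function.Bijective φ :=
    (Nat.bijective_iff_surjective_and_card φ).2 ⟨hφs, Nat.card_congr e0.toEquiv⟩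
  refine ⟨(PresentedGroup.toGroup hrel).comp (MulEquiv.ofBijective φ hbij).symm.toMonoidHom,
    fun i => ?_⟩
  have e : (MulEquiv.ofBijective φ hbij).symm (gens6 i) = PresentedGroup.of i := by
    rw [MulEquiv.symm_apply_eq]
    show gens6 i = φ (PresentedGroup.of i)
    rw [hφ, PresentedGroup.toGroup.of]
  show (PresentedGroup.toGroup hrel) ((MulEquiv.ofBijective φ hbij).symm (gens6 i)) = x i
  rw [e]
  exact PresentedGroup.toGroup.of _

theorem map_wc {H H' : Type*} [Group H] [Group H'] (f : H →* H') (x : Fin 4 → H) :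
    f (wc x) = wc fun i => f (x i) := by simp only [wc, map_mul]

theorem map_car {H H' : Type*} [Group H] [Group H'] (f : H →* H') (a b d : H) :
    (fun i => f (car a b d i)) = car (f a) (f b) (f d) := by
  funext i
  fin_cases i <;> simp [car, map_mul]

/-- Every embedding of the thirty-six elements extends. -/
theorem exists_auto_rep (k : Fin 2) (a b : alternatingGroup (Fin 6))
    (ha : (a : Perm (Fin 6)) = rep k)
    (h4 : b ^ 4 = 1) (h2 : b * b ≠ 1) (hi : b * b * a = a⁻¹ * (b * b))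
    (hc : a * (b * a * b⁻¹) = b * a * b⁻¹ * a) :
    ∃ α : alternatingGroup (Fin 6) →* alternatingGroup (Fin 6), α a6 = a ∧ α c6 = b := by
  set f := (alternatingGroup (Fin 6)).subtype with hf
  have key := extend_table k (b : Perm (Fin 6))
  rw [← ha] at key
  have h4' : b * b * (b * b) = 1 := by rw [← sq, ← sq, ← pow_mul, h4]
  obtain ⟨d, -, hr, hw, hd⟩ := key ⟨congrArg Subtype.val h4', fun e => h2 (Subtype.ext e),
    congrArg Subtype.val hi, congrArg Subtype.val hc, Perm.mem_alternatingGroup.1 b.2⟩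
  set d6 : alternatingGroup (Fin 6) := ⟨d, Perm.mem_alternatingGroup.2 hd⟩
  have hm : (fun i => f (car a b d6 i)) = car (a : Perm (Fin 6)) b d := map_car f a b d6
  have hr6 : Rels (car a b d6) := fun i j => by
    have e : ∀ i, f (car a b d6 i) = car (a : Perm (Fin 6)) b d i := congrFun hm
    refine ⟨fun h => ?_, fun h => ?_, fun h => ?_, fun h => ?_⟩ <;>
      refine (alternatingGroup (Fin 6)).subtype_injective ?_ <;>
      simp only [map_pow, map_mul, map_one, ← hf, e]
    exacts [(hr i j).1 h, (hr i j).2.1 h, (hr i j).2.2.1 h, (hr i j).2.2.2 h]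
  obtain ⟨α, hα⟩ := exists_hom _ hr6
  refine ⟨α, ?_, ?_⟩
  · rw [show a6 = gens6 0 from (gens6_car.1 0).symm, hα]
    rfl
  · rw [← gens6_car.2, map_wc, funext hα]
    refine (alternatingGroup (Fin 6)).subtype_injective ?_
    rw [← hf, map_wc, hm]
    exact hw

theorem conjTypes : (swap 0 1 * swap 1 2 : Perm (Fin 6)).cycleType = Multiset.replicate 1 3 ∧
    (swap 0 1 * swap 1 2 * (swap 3 4 * swap 4 5) : Perm (Fin 6)).cycleType =
      Multiset.replicate 2 3 := by decide +kernel

theorem exists_conj_rep (a : Perm (Fin 6)) (h3 : a ^ 3 = 1) (h1 : a ≠ 1) :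
    ∃ σ : Perm (Fin 6), ∃ k : Fin 2, σ * a * σ⁻¹ = if k = 0 then swap 0 1 * swap 1 2
      else swap 0 1 * swap 1 2 * (swap 3 4 * swap 4 5) := by
  haveI : Fact (Nat.Prime 3) := ⟨Nat.prime_three⟩
  have ho : orderOf a = 3 := orderOf_eq_prime h3 h1
  obtain ⟨n, hn⟩ := Perm.cycleType_prime_order (σ := a) (ho ▸ Nat.prime_three)
  rw [ho] at hn
  have hs : a.cycleType.sum ≤ 6 := (Perm.sum_cycleType_le a).trans (by simp)
  rw [hn, Multiset.sum_replicate, smul_eq_mul] at hs
  have hk : n = 0 ∨ n = 1 := by omega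
  rcases hk with rfl | rfl
  · obtain ⟨σ, hσ⟩ := isConj_iff.1 (Perm.isConj_iff_cycleType_eq.2 (hn.trans conjTypes.1.symm))
    exact ⟨σ, 0, by simpa using hσ⟩
  · obtain ⟨σ, hσ⟩ := isConj_iff.1 (Perm.isConj_iff_cycleType_eq.2 (hn.trans conjTypes.2.symm))
    exact ⟨σ, 1, by simpa using hσ⟩

/-- Every embedding of the thirty-six elements extends to an automorphism. -/
theorem exists_auto (a b : alternatingGroup (Fin 6)) (h3 : a ^ 3 = 1) (h1 : a ≠ 1)
    (h4 : b ^ 4 = 1) (h2 : b * b ≠ 1) (hi : b * b * a = a⁻¹ * (b * b))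
    (hc : a * (b * a * b⁻¹) = b * a * b⁻¹ * a) :
    ∃ α : alternatingGroup (Fin 6) ≃* alternatingGroup (Fin 6), α a6 = a ∧ α c6 = b := by
  obtain ⟨σ, k, hσ⟩ := exists_conj_rep a (congrArg Subtype.val h3) fun e => h1 (Subtype.ext e)
  set q : MulAut (alternatingGroup (Fin 6)) := MulAut.conjNormal σ
  obtain ⟨α, ha, hb⟩ := exists_auto_rep k (q a) (q b) ((MulAut.conjNormal_apply σ a).trans hσ)
    (by rw [← map_pow, h4, map_one])
    (fun e => h2 (q.injective (by rwa [map_mul, map_one])))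
    (by rw [← map_mul, ← map_mul, ← map_inv, ← map_mul, hi])
    (by simp only [← map_mul, ← map_inv, hc])
  have hinj : Function.Injective α := by
    haveI : IsSimpleGroup (alternatingGroup (Fin 6)) := alternatingGroup.isSimpleGroup (by simp)
    rw [← MonoidHom.ker_eq_bot_iff]
    refine ((inferInstance : α.ker.Normal).eq_bot_or_eq_top).resolve_right fun e => ?_
    have h : α a6 = 1 := MonoidHom.mem_ker.1 (e ▸ Subgroup.mem_top _)
    rw [ha] at h
    exact h1 ((map_eq_one_iff q q.injective).1 h)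
  refine ⟨(MulEquiv.ofBijective α ⟨hinj, Finite.surjective_of_injective hinj⟩).trans q.symm,
    ?_, ?_⟩
  · exact q.symm_apply_eq.2 ha
  · exact q.symm_apply_eq.2 hb

/-- An endomorphism fixing the generators of the thirty-six elements is trivial. -/
theorem end_eq_id (β : alternatingGroup (Fin 6) →* alternatingGroup (Fin 6))
    (ha : β a6 = a6) (hc : β c6 = c6) (m : alternatingGroup (Fin 6)) : β m = m := by
  set f := (alternatingGroup (Fin 6)).subtype.comp β with hf
  have hx : (fun i => f (gens6 i)) =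
      car (a6 : Perm (Fin 6)) (c6 : Perm (Fin 6)) (f (gens6 1)) := by
    rw [funext gens6_car.1, map_car f, ← gens6_car.1 1]
    simp only [hf, MonoidHom.comp_apply, ha, hc, Subgroup.subtype_apply]
  have hg : Rels gens6 := by decide +kernel
  have hd : f (gens6 1) = (gens6 1 : Perm (Fin 6)) := by
    refine unique_table _ ?_ ?_ ?_
    · rw [← map_mul, ← sq, (hg 1 1).2.1 le_rfl, map_one]
    · rw [← hx]
      intro i j
      exact ⟨fun h => by simp only [← map_pow, (hg i j).1 h, map_one],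
        fun h => by simp only [← map_pow, (hg i j).2.1 h, map_one],
        fun h => by simp only [← map_mul, ← map_pow, (hg i j).2.2.1 h, map_one],
        fun h => by simp only [← map_mul, ← map_pow, (hg i j).2.2.2 h, map_one]⟩
    · rw [← hx, ← map_wc, gens6_car.2]
      simp [hf, hc]
  have hd' : β (gens6 1) = gens6 1 := Subtype.ext hd
  refine DFunLike.congr_fun (MonoidHom.eq_of_eqOn_dense (f := β) (g := MonoidHom.id _)
    closure_gens6 ?_) m
  rintro _ ⟨i, rfl⟩
  rw [MonoidHom.id_apply, gens6_car.1 i]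
  fin_cases i <;> simp [car, ha, hc, hd']

end CfsgLib.ANineThree.GlueModel
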