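import Cfsg.Agent.Lib.ANineThree.Interface
import Cfsg.Agent.Lib.ANineThree.GlueModel

/-!
The normalizer of `⟨z⟩` in the nonlocal case is the stabilizer of the first block.
-/

set_option autoImplicit false
set_option maxRecDepth 100000
set_option linter.style.haveILetI false

namespace CfsgLib.ANineThree

open Equiv Subgroup GlueModel

universe u

namespace GlueProof

variable {H : Type*} [Group H]

theorem exists_pow_three {g x : H} (h3 : g ^ 3 = 1) (hx : x ∈ zpowers g) :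
    x = 1 ∨ x = g ∨ x = g⁻¹ := by
  obtain ⟨i, rfl⟩ := mem_zpowers_iff.1 hx
  have e : g ^ i = g ^ (i % 3) := by
    conv_lhs => rw [← Int.emod_add_mul_ediv i 3]
    rw [zpow_add, zpow_mul, show g ^ (3 : ℤ) = g ^ (3 : ℕ) from zpow_natCast g 3, h3, one_zpow,
      mul_one]
  have h : i % 3 = 0 ∨ i % 3 = 1 ∨ i % 3 = 2 := by omega
  rw [e]
  rcases h with h | h | h <;> rw [h]
  · exact Or.inl (zpow_zero g)
  · exact Or.inr (Or.inl (zpow_one g))
  · refine Or.inr (Or.inr (eq_inv_of_mul_eq_one_left ?_))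
    rw [show g ^ (2 : ℤ) = g ^ (2 : ℕ) from zpow_natCast g 2, ← pow_succ, h3]

theorem exists_pow_two {g x : H} (h2 : g ^ 2 = 1) (hx : x ∈ zpowers g) : x = 1 ∨ x = g := by
  obtain ⟨i, rfl⟩ := mem_zpowers_iff.1 hx
  have e : g ^ i = g ^ (i % 2) := by
    conv_lhs => rw [← Int.emod_add_mul_ediv i 2]
    rw [zpow_add, zpow_mul, show g ^ (2 : ℤ) = g ^ (2 : ℕ) from zpow_natCast g 2, h2, one_zpow,
      mul_one]
  rcases (by omega : i % 2 = 0 ∨ i % 2 = 1) with h | h <;> rw [e, h]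
  · exact Or.inl (zpow_zero g)
  · exact Or.inr (zpow_one g)

theorem hm_facts : zH ^ 3 = 1 ∧ zH ≠ 1 ∧ tH * tH = 1 ∧ tH * zH * tH⁻¹ = zH⁻¹ ∧
    tH * zH ≠ zH * tH ∧ z2H ^ 3 = 1 ∧ z2H ≠ 1 ∧ cH ^ 4 = 1 ∧ cH * cH ≠ 1 ∧
    z2H * zH = zH * z2H ∧ cH * zH = zH * cH ∧ z3H * zH = zH * z3H ∧
    cH * cH * z2H = z2H⁻¹ * (cH * cH) ∧
    z2H * (cH * z2H * cH⁻¹) = cH * z2H * cH⁻¹ * z2H := by decide +kernel

theorem z2H_comm : ∃ i j : Fin 3,
    z2H = cH * (z2H ^ i.1 * z3H ^ j.1) * cH⁻¹ * (z2H ^ i.1 * z3H ^ j.1)⁻¹ := by decide +kernel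

theorem first_block : ∀ a b c : Fin 9, a.1 < 3 → b.1 < 3 → c.1 < 3 → a ≠ b → a ≠ c → b ≠ c →
    ∃ (i : Fin 3) (j : Fin 2), (z ^ i.1 * t ^ j.1) 0 = a ∧ (z ^ i.1 * t ^ j.1) 1 = b ∧
      (z ^ i.1 * t ^ j.1) 2 = c := by decide +kernel

theorem p9_facts : z ∈ K ∧ t ∈ K ∧ z⁻¹ 0 ≠ 0 ∧ z 0 ≠ 0 ∧ t 1 ≠ 1 ∧ (z * t) 0 ≠ 0 ∧
    (z⁻¹ * t) 0 ≠ 0 := by decide +kernel

end GlueProof

open GlueProof in
set_option maxHeartbeats 1600000 in
/-- The normalizer of `⟨z⟩` in the nonlocal case. -/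
theorem exists_glue : StmtGlue.{u} := by
  classical
  intro G _ _ S M _ hMiso hMC hdis hsup
  obtain ⟨f⟩ := hMiso
  obtain ⟨hz3, hz1, htt, htz, htz', ha3, ha1, hc4, hc2, haz, hcz, hbz, hinvert, hcomm⟩ := hm_facts
  set C := centralizer ({S.e zH} : Set G) with hC
  set Z := S.e zH with hZdef
  set T := S.e tH with hTdef
  have hZ3 : Z ^ 3 = 1 := by rw [hZdef, ← map_pow, hz3, map_one]
  have hZ1 : Z ≠ 1 := fun e => hz1 (S.inj (e.trans (map_one S.e).symm))
  have hTT : T * T = 1 := by rw [hTdef, ← map_mul, htt, map_one]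
  have hTi : T⁻¹ = T := inv_eq_of_mul_eq_one_left hTT
  have hTZ : T * Z * T⁻¹ = Z⁻¹ := by
    rw [hTdef, hZdef, ← map_mul, ← map_inv, ← map_mul, htz, map_inv]
  have hTnot : T ∉ C := fun h => htz' (S.inj (by
    rw [map_mul, map_mul]; exact mem_centralizer_singleton_iff.1 h))
  have hmemC : ∀ {g : G}, g ∈ C ↔ g * Z = Z * g := mem_centralizer_singleton_iff
  have heC : ∀ {h : Hm}, h * zH = zH * h → S.e h ∈ C := fun {h} e =>
    hmemC.2 (by rw [hZdef, ← map_mul, ← map_mul, e])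
  -- the decomposition of the centralizer
  have hnZ : zpowers Z ≤ normalizer (M : Set G) := by
    rw [zpowers_le]
    exact centralizer_le_normalizer (M : Set G)
      (mem_centralizer_iff.2 fun m hm => hmemC.1 (hMC hm))
  have hdec : ∀ c ∈ C, ∃ m ∈ M, ∃ w ∈ zpowers Z, c = m * w := by
    intro c hc
    rw [← hsup, ← SetLike.mem_coe, coe_mul_of_right_le_normalizer_left M (zpowers Z) hnZ] at hc
    obtain ⟨m, hm, w, hw, rfl⟩ := hc
    exact ⟨m, hm, w, hw, rfl⟩
  have hdis' : ∀ {g : G}, g ∈ M → g ∈ zpowers Z → g = 1 := fun hg hg' =>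
    Subgroup.disjoint_def.1 hdis hg hg'
  have hZcomm : ∀ {g w : G}, g ∈ C → w ∈ zpowers Z → Commute g w := fun {g w} hg hw => by
    obtain ⟨i, rfl⟩ := mem_zpowers_iff.1 hw
    exact (show Commute g Z from hmemC.1 hg).zpow_right i
  -- elements of order dividing four
  have hfour : ∀ c ∈ C, c ^ 4 = 1 → c ∈ M := by
    intro c hc h4
    obtain ⟨m, hm, w, hw, rfl⟩ := hdec c hc
    have hp := (hZcomm (hMC hm) hw).mul_pow 4
    have hw3 : w ^ 3 = 1 := by
      rcases exists_pow_three hZ3 hw with rfl | rfl | rfl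
      · exact one_pow 3
      · exact hZ3
      · rw [inv_pow, hZ3, inv_one]
    rw [h4, pow_succ w 3, hw3, one_mul] at hp
    have hwM : w ∈ M := by
      have e : w = (m ^ 4)⁻¹ := eq_inv_of_mul_eq_one_right hp.symm
      exact e ▸ inv_mem (pow_mem hm 4)
    exact mul_mem hm hwM
  have hcC : S.e cH ∈ C := heC hcz
  have hcM : S.e cH ∈ M := hfour _ hcC (by rw [← map_pow, hc4, map_one])
  -- commutators lie in `M`
  have haM : S.e z2H ∈ M := by
    obtain ⟨i, j, hij⟩ := z2H_comm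
    obtain ⟨v, hv⟩ : ∃ v, v = z2H ^ i.1 * z3H ^ j.1 := ⟨_, rfl⟩
    rw [hij, ← hv, map_mul, map_mul, map_mul, map_inv, map_inv]
    have hvC : S.e v ∈ C := hv ▸
      heC (((show Commute z2H zH from haz).pow_left _).mul_left
        ((show Commute z3H zH from hbz).pow_left _))
    obtain ⟨n, hn, w, hw, e⟩ := hdec _ hvC
    rw [e, mul_inv_rev, show S.e cH * (n * w) * (S.e cH)⁻¹ * (w⁻¹ * n⁻¹) =
      S.e cH * n * (S.e cH)⁻¹ * n⁻¹ by
        have h1 : Commute (S.e cH)⁻¹ w := hZcomm (inv_mem hcC) hw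
        calc _ = S.e cH * n * (w * (S.e cH)⁻¹) * w⁻¹ * n⁻¹ := by group
          _ = _ := by rw [← h1.eq]; group]
    exact mul_mem (mul_mem (mul_mem hcM hn) (inv_mem hcM)) (inv_mem hn)
  -- the homomorphism on the alternating group of degree six
  have lift : ∀ {x y : M}, (x : G) = y → f x = f y := fun h => congrArg f (Subtype.ext h)
  set am : M := ⟨S.e z2H, haM⟩ with ham
  set cm : M := ⟨S.e cH, hcM⟩ with hcm
  obtain ⟨α, hαa, hαc⟩ := exists_auto (f am) (f cm)
    (by rw [← map_pow, ← map_one f]; exact lift (by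
      rw [coe_pow, ham, ← map_pow, ha3, map_one, coe_one]))
    (fun e => ha1 (S.inj (by
      rw [map_one]; exact congrArg Subtype.val (f.map_eq_one_iff.1 e))))
    (by rw [← map_pow, ← map_one f]; exact lift (by
      rw [coe_pow, hcm, ← map_pow, hc4, map_one, coe_one]))
    (fun e => hc2 (S.inj (by
      rw [map_one, map_mul]
      exact congrArg Subtype.val (f.map_eq_one_iff.1 ((map_mul f cm cm).trans e)))))
    (by simp only [← map_mul, ← map_inv]
        exact lift (by simp only [coe_mul, coe_inv, ham, hcm, ← map_mul, ← map_inv, hinvert]))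
    (by simp only [← map_mul, ← map_inv]
        exact lift (by simp only [coe_mul, coe_inv, ham, hcm, ← map_mul, ← map_inv, hcomm]))
  set F : alternatingGroup (Fin 6) ≃* M := α.trans f.symm with hF
  set φ : alternatingGroup (Fin 6) →* G := M.subtype.comp F.toMonoidHom with hφ
  have hφa : φ a6 = S.e z2H := by
    simp [hφ, hF, hαa, ham]
  have hφc : φ c6 = S.e cH := by
    simp [hφ, hF, hαc, hcm]
  have hφM : ∀ m, φ m ∈ M := fun m => (F m).2
  have hφC : ∀ m, φ m ∈ C := fun m => hMC (hφM m)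
  have hφinj : Function.Injective φ := Subtype.val_injective.comp F.injective
  have agree36 : ∀ (h : Hm) m, ι6 m = (h : P9) → φ m = S.e h := by
    intro h m hm
    obtain ⟨w, rfl⟩ := exists_wd m (hm ▸ h.2)
    have e : h = wd z2H cH w := Subtype.ext (by
      rw [← hm, map_wd, ι6_gens.1, ι6_gens.2.1]
      exact (map_wd Hm.subtype z2H cH w).symm)
    rw [map_wd, hφa, hφc, e, map_wd]
  -- the action of `T`
  have hTC : ∀ c ∈ C, T * c * T⁻¹ ∈ C := fun c hc => hmemC.2 (by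
    have h1 : Commute (T * c * T⁻¹) (T * Z * T⁻¹) := by
      show T * c * T⁻¹ * (T * Z * T⁻¹) = T * Z * T⁻¹ * (T * c * T⁻¹)
      calc _ = T * (c * Z) * T⁻¹ := by group
        _ = T * (Z * c) * T⁻¹ := by rw [hmemC.1 hc]
        _ = _ := by group
    rw [hTZ] at h1
    have h2 := h1.inv_right
    rw [inv_inv] at h2
    exact h2.eq)
  have htι : ∀ (h : Hm) m, ι6 m = (h : P9) →
      ι6 (MulAut.conjNormal t6 m) = ((tH * h * tH⁻¹ : Hm) : P9) := fun h m hm => by
    rw [← t_conj, hm]; rfl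
  set ω : alternatingGroup (Fin 6) →* G :=
    ((MulAut.conj T).toMonoidHom.comp φ).comp (MulAut.conjNormal t6 : MulAut _).toMonoidHom with hω
  have hωeq : ∀ m, ω m = T * φ (MulAut.conjNormal t6 m) * T⁻¹ := fun m => rfl
  have hω36 : ∀ (h : Hm) m, ι6 m = (h : P9) → ω m = S.e h := fun h m hm => by
    rw [hωeq, agree36 _ _ (htι h m hm), hTdef, ← map_inv, ← map_mul, ← map_mul]
    refine congrArg S.e ?_
    have hti : tH⁻¹ = tH := inv_eq_of_mul_eq_one_left htt
    calc _ = tH * tH * h * (tH⁻¹ * tH⁻¹) := by group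
      _ = h := by rw [hti, htt, one_mul, mul_one]
  have hωa : ω a6 = S.e z2H := hω36 z2H a6 ι6_gens.1
  have hωc : ω c6 = S.e cH := hω36 cH c6 ι6_gens.2.1
  have hωM : ∀ m, ω m ∈ M := by
    have hle : (⊤ : Subgroup (alternatingGroup (Fin 6))) ≤ M.comap ω := by
      rw [← closure_gens6, closure_le]
      rintro _ ⟨i, rfl⟩
      show ω (gens6 i) ∈ M
      by_cases hi : i = 0
      · subst hi
        rw [show gens6 0 = a6 from gens6_car.1 0, hωa]
        exact haM
      · have h2 : gens6 i ^ 4 = 1 := by revert i; decide +kernel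
        refine hfour _ (by rw [hωeq]; exact hTC _ (hφC _)) ?_
        rw [← map_pow, h2, map_one]
    exact fun m => hle (Subgroup.mem_top m)
  have hφω : ∀ m, ω m = φ m := by
    set β : alternatingGroup (Fin 6) →* alternatingGroup (Fin 6) :=
      F.symm.toMonoidHom.comp (ω.codRestrict M hωM) with hβ
    have key : ∀ m, φ (β m) = ω m := fun m => by simp [hφ, hβ]
    intro m
    rw [← key, end_eq_id β (hφinj (by rw [key, hωa, hφa])) (hφinj (by rw [key, hωc, hφc]))]
  have hconj : ∀ m, T * φ m * T⁻¹ = φ (MulAut.conjNormal t6 m) := fun m => by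
    rw [← hφω (MulAut.conjNormal t6 m), hωeq]
    congr
    refine Subtype.ext ?_
    simp only [MulAut.conjNormal_apply, t6, swap_inv]
    simp [mul_assoc]
  -- the graph
  set zp : P9 × G := (z, Z) with hzp
  set tp : P9 × G := (t, T) with htp
  set pr : alternatingGroup (Fin 6) →* P9 × G := ι6.prod φ with hpr
  have hzι : ∀ m, Commute z (ι6 m) := fun m => by
    refine Perm.Disjoint.commute fun i => ?_
    by_cases h : i.1 < 3
    · exact Or.inr (ι9_fix _ h)
    · refine Or.inl ?_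
      show swap 0 1 (swap 1 2 i) = i
      have h0 : i ≠ 0 := fun e => h (by simp [e])
      have h1 : i ≠ 1 := fun e => h (by simp [e])
      have h2 : i ≠ 2 := fun e => h (by simp [e])
      rw [swap_apply_of_ne_of_ne h1 h2, swap_apply_of_ne_of_ne h0 h1]
  have hzn : zpowers zp ≤ normalizer (pr.range : Set (P9 × G)) := by
    rw [zpowers_le]
    refine centralizer_le_normalizer (pr.range : Set (P9 × G)) (mem_centralizer_iff.2 ?_)
    rintro _ ⟨m, rfl⟩
    exact Prod.ext (hzι m).eq.symm (hmemC.1 (hφC m))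
  set Γ₀ := zpowers zp ⊔ pr.range with hΓ₀
  have htp2 : tp * tp = 1 := Prod.ext (congrArg Subtype.val htt) hTT
  have htpi : tp⁻¹ = tp := inv_eq_of_mul_eq_one_left htp2
  have hmap : Γ₀ ≤ Γ₀.comap (MulAut.conj tp).toMonoidHom := by
    rw [hΓ₀, sup_le_iff, zpowers_le]
    refine ⟨mem_sup_left ?_, ?_⟩
    · show tp * zp * tp⁻¹ ∈ zpowers zp
      rw [show tp * zp * tp⁻¹ = zp⁻¹ from Prod.ext (congrArg Subtype.val htz) hTZ]
      exact inv_mem (mem_zpowers zp)
    · rintro _ ⟨m, rfl⟩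
      refine mem_sup_right ⟨MulAut.conjNormal t6 m, ?_⟩
      exact Prod.ext (t_conj m).symm (hconj m).symm
  have htn : zpowers tp ≤ normalizer (Γ₀ : Set (P9 × G)) := by
    rw [zpowers_le, mem_normalizer_iff]
    refine fun x => ⟨fun hx => hmap hx, fun hx => ?_⟩
    have h := hmap hx
    change tp * (tp * x * tp⁻¹) * tp⁻¹ ∈ Γ₀ at h
    rw [htpi] at h
    rwa [show tp * (tp * x * tp) * tp = tp * tp * x * (tp * tp) by group, htp2, one_mul,
      mul_one] at h
  set Γ := Γ₀ ⊔ zpowers tp with hΓ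
  have hΓmem : ∀ x ∈ Γ, ∃ a ∈ zpowers zp, ∃ m, ∃ b ∈ zpowers tp, x = a * pr m * b := by
    intro x hx
    rw [hΓ, ← SetLike.mem_coe, coe_mul_of_right_le_normalizer_left Γ₀ (zpowers tp) htn] at hx
    obtain ⟨u, hu, b, hb, rfl⟩ := hx
    rw [hΓ₀, coe_mul_of_left_le_normalizer_right (zpowers zp) pr.range hzn] at hu
    obtain ⟨a, ha, _, ⟨m, rfl⟩, rfl⟩ := hu
    exact ⟨a, ha, m, b, hb, rfl⟩
  have hzp3 : zp ^ 3 = 1 := Prod.ext (congrArg Subtype.val hz3) hZ3
  have htp2' : tp ^ 2 = 1 := by rw [sq, htp2]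
  have hzΓ : zp ∈ Γ := mem_sup_left (mem_sup_left (mem_zpowers zp))
  have htΓ : tp ∈ Γ := mem_sup_right (mem_zpowers tp)
  have hprΓ : ∀ m, pr m ∈ Γ := fun m => mem_sup_left (mem_sup_right ⟨m, rfl⟩)
  set p₁ : Γ →* P9 := (MonoidHom.fst P9 G).comp Γ.subtype with hp₁
  set p₂ : Γ →* G := (MonoidHom.snd P9 G).comp Γ.subtype with hp₂
  have hfix : ∀ (m : alternatingGroup (Fin 6)) (i : Fin 9), i.1 < 3 → ι6 m i = i :=
    fun m i h => ι9_fix _ h
  have hp₁i : Function.Injective p₁ := by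
    rw [← MonoidHom.ker_eq_bot_iff, eq_bot_iff]
    rintro ⟨x, hx⟩ he
    rw [MonoidHom.mem_ker] at he
    change x.1 = 1 at he
    rw [Subgroup.mem_bot]
    refine Subtype.ext ?_
    show x = 1
    obtain ⟨a, ha, m, b, hb, rfl⟩ := hΓmem x hx
    change a.1 * ι6 m * b.1 = 1 at he
    have hcm : Commute a.1 (ι6 m) := by
      rcases exists_pow_three hzp3 ha with rfl | rfl | rfl
      · exact Commute.one_left _
      · exact hzι m
      · exact (hzι m).inv_left
    have hfb : ∀ i : Fin 9, i.1 < 3 → (a.1 * b.1) i = i := fun i hi => by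
      have h1 : ι6 m * (a.1 * b.1) = 1 := by rw [← mul_assoc, ← hcm.eq, he]
      have h2 : (a.1 * b.1) i = (ι6 m)⁻¹ i := by rw [eq_inv_of_mul_eq_one_right h1]
      rw [h2, Perm.inv_eq_iff_eq, hfix m i hi]
    obtain ⟨-, -, q1, q2, q3, q4, q5⟩ := p9_facts
    rcases exists_pow_three hzp3 ha with rfl | rfl | rfl <;>
      rcases exists_pow_two htp2' hb with rfl | rfl
    · have hm : m = 1 := ι6_injective (by simpa using he)
      simp [hm]
    · exact absurd (hfb 1 (by decide)) (by simpa [htp] using q3)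
    · exact absurd (hfb 0 (by decide)) (by simpa [hzp] using q2)
    · exact absurd (hfb 0 (by decide)) (by simpa [htp, hzp] using q4)
    · exact absurd (hfb 0 (by decide)) (by simpa [hzp] using q1)
    · exact absurd (hfb 0 (by decide)) (by simpa [htp, hzp] using q5)
  have hp₂i : Function.Injective p₂ := by
    rw [← MonoidHom.ker_eq_bot_iff, eq_bot_iff]
    rintro ⟨x, hx⟩ he
    rw [MonoidHom.mem_ker] at he
    change x.2 = 1 at he
    rw [Subgroup.mem_bot]
    refine Subtype.ext ?_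
    show x = 1
    obtain ⟨a, ha, m, b, hb, rfl⟩ := hΓmem x hx
    change a.2 * φ m * b.2 = 1 at he
    have haZ : a.2 ∈ zpowers Z := by
      obtain ⟨i, rfl⟩ := mem_zpowers_iff.1 ha
      exact mem_zpowers_iff.2 ⟨i, rfl⟩
    have hZC : zpowers Z ≤ C := zpowers_le.2 (hmemC.2 rfl)
    have hb1 : b = 1 := by
      refine (exists_pow_two htp2' hb).resolve_right fun e => hTnot ?_
      have h2 : T = (a.2 * φ m)⁻¹ := by
        rw [e] at he
        exact eq_inv_of_mul_eq_one_right he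
      rw [h2]
      exact inv_mem (mul_mem (hZC haZ) (hφC m))
    rw [hb1, Prod.snd_one, mul_one] at he
    have hm1 : φ m = 1 := hdis' (hφM m) (by
      rw [eq_inv_of_mul_eq_one_right he]; exact inv_mem haZ)
    rw [hm1, mul_one] at he
    have hm : m = 1 := hφinj (hm1.trans (map_one φ).symm)
    have ha1' : a = 1 := by
      rcases exists_pow_three hzp3 ha with rfl | rfl | rfl
      · rfl
      · exact absurd he hZ1
      · exact absurd he (by simpa [hzp] using hZ1)
    simp [hb1, hm, ha1']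
  have hp₁r : p₁.range = K := by
    apply le_antisymm
    · rintro _ ⟨⟨x, hx⟩, rfl⟩
      obtain ⟨a, ha, m, b, hb, rfl⟩ := hΓmem x hx
      have h1 : a.1 ∈ K := by
        obtain ⟨i, rfl⟩ := mem_zpowers_iff.1 ha
        exact zpow_mem p9_facts.1 i
      have h2 : b.1 ∈ K := by
        obtain ⟨i, rfl⟩ := mem_zpowers_iff.1 hb
        exact zpow_mem p9_facts.2.1 i
      refine mul_mem (mul_mem h1 (mem_K.2 ⟨?_, fun i => ?_⟩)) h2
      · show Perm.sign (ι9 (m : Perm (Fin 6))) = 1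
        rw [sign_ι9]; exact Perm.mem_alternatingGroup.1 m.2
      · by_cases hi : i.1 < 3
        · rw [show (pr m).1 i = i from hfix m i hi]
        · refine iff_of_false (fun hlt => hi ?_) hi
          have := hfix m _ hlt
          exact (ι6 m).injective this ▸ hlt
    · intro k hk
      obtain ⟨hs, hblock⟩ := mem_K.1 hk
      obtain ⟨i, j, e0, e1, e2⟩ := first_block (k 0) (k 1) (k 2) ((hblock 0).2 (by decide))
        ((hblock 1).2 (by decide)) ((hblock 2).2 (by decide)) (k.injective.ne (by decide))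
        (k.injective.ne (by decide)) (k.injective.ne (by decide))
      set q := z ^ i.1 * t ^ j.1 with hq
      have hqK : q ∈ K := mul_mem (pow_mem p9_facts.1 _) (pow_mem p9_facts.2.1 _)
      obtain ⟨m, hm⟩ := exists_ι6 (q⁻¹ * k) (fun l hl => by
        have : l = 0 ∨ l = 1 ∨ l = 2 := by omega
        rw [Perm.mul_apply, Perm.inv_eq_iff_eq]
        rcases this with rfl | rfl | rfl
        exacts [e0.symm, e1.symm, e2.symm]) (mem_K.1 (mul_mem (inv_mem hqK) hk)).1
      refine ⟨⟨zp ^ i.1 * tp ^ j.1 * pr m,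
        mul_mem (mul_mem (pow_mem hzΓ _) (pow_mem htΓ _)) (hprΓ m)⟩, ?_⟩
      show z ^ i.1 * t ^ j.1 * ι6 m = k
      rw [hm, ← hq, mul_inv_cancel_left]
  set ε : Γ →* K := p₁.codRestrict K fun x => hp₁r ▸ ⟨x, rfl⟩ with hε
  have hεb : Function.Bijective ε := by
    refine ⟨fun a b h => hp₁i (congrArg Subtype.val h), fun k => ?_⟩
    obtain ⟨x, hx⟩ : (k : P9) ∈ p₁.range := hp₁r.symm ▸ k.2
    exact ⟨x, Subtype.ext hx⟩
  set E := MulEquiv.ofBijective ε hεb with hE
  set ψ : K →* G := p₂.comp E.symm.toMonoidHom with hψ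
  have hψr : ψ.range = p₂.range := by
    rw [hψ, MonoidHom.range_comp, MonoidHom.range_eq_top.2 E.symm.surjective,
      ← MonoidHom.range_eq_map]
  have hNmem : ∀ {g : G}, g * Z * g⁻¹ = Z ∨ g * Z * g⁻¹ = Z⁻¹ →
      g ∈ normalizer (zpowers Z : Set G) := fun {g} hg => by
    have hmap : (zpowers Z).map (MulAut.conj g).toMonoidHom = zpowers Z := by
      rw [MonoidHom.map_zpowers]
      show zpowers (g * Z * g⁻¹) = _
      rcases hg with e | e <;> rw [e]
      exact zpowers_inv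
    rw [mem_normalizer_iff]
    intro x
    constructor
    · intro hx
      rw [← hmap]
      exact ⟨x, hx, rfl⟩
    · intro hx
      rw [← hmap] at hx
      obtain ⟨y, hy, he⟩ := hx
      rwa [← (MulAut.conj g).injective he]
  refine ⟨⟨ψ, hp₂i.comp E.symm.injective, ?_, fun h hk => ?_⟩⟩
  · rw [hψr]
    apply le_antisymm
    · rintro _ ⟨⟨x, hx⟩, rfl⟩
      obtain ⟨a, ha, m, b, hb, rfl⟩ := hΓmem x hx
      refine mul_mem (mul_mem ?_ (hNmem (Or.inl ?_))) ?_
      · obtain ⟨i, rfl⟩ := mem_zpowers_iff.1 ha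
        exact le_normalizer (mem_zpowers_iff.2 ⟨i, rfl⟩)
      · exact mul_inv_eq_iff_eq_mul.2 (hmemC.1 (hφC m))
      · obtain ⟨i, rfl⟩ := mem_zpowers_iff.1 hb
        exact zpow_mem (hNmem (Or.inr hTZ)) i
    · intro g hg
      have hCr : C ≤ p₂.range := by
        rw [← hsup, sup_le_iff, zpowers_le]
        refine ⟨fun m hm => ⟨⟨pr (F.symm ⟨m, hm⟩), hprΓ _⟩, ?_⟩, ⟨⟨zp, hzΓ⟩, rfl⟩⟩
        show φ (F.symm ⟨m, hm⟩) = m
        simp [hφ]
      have hgz : g * Z * g⁻¹ ∈ zpowers Z := (mem_normalizer_iff.1 hg Z).1 (mem_zpowers Z)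
      rcases exists_pow_three hZ3 hgz with e | e | e
      · exact absurd (by simpa using e) hZ1
      · exact hCr (hmemC.2 (mul_inv_eq_iff_eq_mul.1 e))
      · have hTg : T * g ∈ C := hmemC.2 (mul_inv_eq_iff_eq_mul.1 (by
          calc T * g * Z * (T * g)⁻¹ = T * (g * Z * g⁻¹) * T⁻¹ := by group
            _ = (T * Z * T⁻¹)⁻¹ := by rw [e]; group
            _ = Z := by rw [hTZ, inv_inv]))
        have : T * (T * g) ∈ p₂.range := mul_mem ⟨⟨tp, htΓ⟩, rfl⟩ (hCr hTg)
        rwa [← mul_assoc, hTT, one_mul] at this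
  · obtain ⟨hs, hblock⟩ := mem_K.1 hk
    obtain ⟨i, j, e0, e1, e2⟩ := first_block ((h : P9) 0) ((h : P9) 1) ((h : P9) 2)
      ((hblock 0).2 (by decide)) ((hblock 1).2 (by decide)) ((hblock 2).2 (by decide))
      ((h : P9).injective.ne (by decide)) ((h : P9).injective.ne (by decide))
      ((h : P9).injective.ne (by decide))
    set q : Hm := zH ^ i.1 * tH ^ j.1 with hq
    have hqv : (q : P9) = z ^ i.1 * t ^ j.1 := by simp [hq, zH, tH]
    obtain ⟨m, hm⟩ := exists_ι6 ((q⁻¹ * h : Hm) : P9) (fun l hl => by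
      have : l = 0 ∨ l = 1 ∨ l = 2 := by omega
      rw [coe_mul, coe_inv, hqv, Perm.mul_apply, Perm.inv_eq_iff_eq]
      rcases this with rfl | rfl | rfl
      exacts [e0.symm, e1.symm, e2.symm]) (mem_Hm.1 (q⁻¹ * h).2).1
    have hx : zp ^ i.1 * tp ^ j.1 * pr m ∈ Γ :=
      mul_mem (mul_mem (pow_mem hzΓ _) (pow_mem htΓ _)) (hprΓ m)
    have hxE : E.symm ⟨(h : P9), hk⟩ = ⟨_, hx⟩ := E.symm_apply_eq.2 (Subtype.ext (by
      show (h : P9) = z ^ i.1 * t ^ j.1 * ι6 m
      rw [hm, coe_mul, coe_inv, hqv, mul_inv_cancel_left]))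
    show p₂ (E.symm ⟨(h : P9), hk⟩) = S.e h
    rw [hxE]
    show Z ^ i.1 * T ^ j.1 * φ m = S.e h
    rw [agree36 _ m hm, hZdef, hTdef, ← map_pow, ← map_pow, ← map_mul, ← map_mul,
      mul_inv_cancel_left]

end CfsgLib.ANineThree
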