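import Cfsg.Agent.Lib.ANineThree.Basic

/-!
The typed pieces of the recognition of the alternating group of degree nine.
-/

set_option autoImplicit false

namespace CfsgLib.ANineThree

open Subgroup

universe u

/-- The basic local facts hold. -/
def StmtLocal : Prop := ∀ {G : Type u} [Group G] [Finite G] (S : Data G), Local S

/-- The centralizer of `z` is local or a product of `z` and an alternating group of degree six. -/
def StmtCentZ : Prop := ∀ {G : Type u} [Group G] [Finite G] (S : Data G), Local S →
  centralizer ({S.e zH} : Set G) ≤ S.e.range ∨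
    ∃ M : Subgroup G, Nonempty (M ≃* alternatingGroup (Fin 6)) ∧
      M ≤ centralizer ({S.e zH} : Set G) ∧ Disjoint M (zpowers (S.e zH)) ∧
      M ⊔ zpowers (S.e zH) = centralizer ({S.e zH} : Set G)

/-- The classes of `p` and `x` separate only in the trivial case. -/
def StmtCaseB : Prop := ∀ {G : Type u} [Group G] [Finite G] (S : Data G), Local S →
  centralizer ({S.e zH} : Set G) ≤ S.e.range → ¬ IsConj (S.e pH) (S.e xH) → S.e.range = ⊤

/-- The local case with fused classes does not occur. -/
def StmtCaseC : Prop := ∀ {G : Type u} [Group G] [Finite G] (S : Data G), Local S →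
  centralizer ({S.e zH} : Set G) ≤ S.e.range → IsConj (S.e pH) (S.e xH) → False

/-- The normalizer of `⟨z⟩` in the nonlocal case. -/
def StmtGlue : Prop := ∀ {G : Type u} [Group G] [Finite G] (S : Data G) (M : Subgroup G),
  Local S → Nonempty (M ≃* alternatingGroup (Fin 6)) →
  M ≤ centralizer ({S.e zH} : Set G) → Disjoint M (zpowers (S.e zH)) →
  M ⊔ zpowers (S.e zH) = centralizer ({S.e zH} : Set G) → Nonempty (Glue S)

/-- The three possibilities for the centralizer of the four-group. -/
def StmtTrichotomy : Prop := ∀ {G : Type u} [Group G] [Finite G] (S : Data G) (T : Glue S),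
  Local S → T.v7 ∈ T.L ∨ T.L ≤ T.ψ.range ∨
    (T.v3 ∈ T.L ∧ T.L ≤ T.ψ.range ⊔ T.ψ.range.map (MulAut.conj (T.ψ cK * S.g)).toMonoidHom)

/-- The configuration of the symplectic group does not occur. -/
def StmtNoSeven : Prop := ∀ {G : Type u} [Group G] [Finite G] (S : Data G) (T : Glue S),
  Local S → T.v7 ∈ T.L → False

/-- The centralizer of the four-group is not small. -/
def StmtNoSmall : Prop := ∀ {G : Type u} [Group G] [Finite G] (S : Data G) (T : Glue S),
  Local S → T.L ≤ T.ψ.range → False

/-- The alternating subgroup. -/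
def StmtEmb : Prop := ∀ {G : Type u} [Group G] [Finite G] (S : Data G) (T : Glue S),
  Local S → T.v3 ∈ T.L →
  T.L ≤ T.ψ.range ⊔ T.ψ.range.map (MulAut.conj (T.ψ cK * S.g)).toMonoidHom → Nonempty (Emb G)

/-- Recognition from the alternating subgroup. -/
def StmtRecognise : Prop := ∀ {G : Type u} [Group G] [Finite G], Emb G →
  Nonempty (G ≃* alternatingGroup (Fin 9))

/-- The assembly. -/
theorem main (hL : StmtLocal.{u}) (hz : StmtCentZ.{u}) (hB : StmtCaseB.{u}) (hC : StmtCaseC.{u})
    (hG : StmtGlue.{u}) (hT : StmtTrichotomy.{u}) (h7 : StmtNoSeven.{u}) (h1 : StmtNoSmall.{u})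
    (hE : StmtEmb.{u}) (hR : StmtRecognise.{u}) {G : Type u} [Group G] [Finite G] (S : Data G) :
    S.e.range = ⊤ ∨ Nonempty (G ≃* alternatingGroup (Fin 9)) := by
  have L := hL S
  rcases hz S L with hc | ⟨M, hM, hle, hdis, hsup⟩
  · by_cases hf : IsConj (S.e pH) (S.e xH)
    · exact (hC S L hc hf).elim
    · exact Or.inl (hB S L hc hf)
  · obtain ⟨T⟩ := hG S M L hM hle hdis hsup
    rcases hT S T L with h | h | ⟨h3, hl⟩
    · exact (h7 S T L h).elim
    · exact (h1 S T L h).elim
    · obtain ⟨E⟩ := hE S T L h3 hl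
      exact Or.inr (hR E)

end CfsgLib.ANineThree
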