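import Cfsg.Agent.Lib.ANineThree.LocalThree
import Cfsg.Agent.Lib.OddOrder.PLengthOne
import Cfsg.Agent.S3347
import Cfsg.Agent.S0659
import Cfsg.Agent.S0058
import Cfsg.Agent.S0075

/-!
The basic local facts of the configuration of the alternating group of degree nine.
-/

set_option autoImplicit false
set_option linter.unusedSectionVars false
set_option linter.style.haveILetI false

namespace CfsgLib.ANineThree.LocalAux

open Equiv Subgroup

universe u

/-- The coefficients of `[J, τ]`. -/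
def pCoeff : AddSubgroup (Fin 3 × Fin 3 × Fin 3) where
  carrier := {v | v.1 + v.2.1 = 0}
  zero_mem' := rfl
  add_mem' := by
    intro a b ha hb
    show a.1 + b.1 + (a.2.1 + b.2.1) = 0
    rw [show a.1 + b.1 + (a.2.1 + b.2.1) = a.1 + a.2.1 + (b.1 + b.2.1) by abel,
      show a.1 + a.2.1 = 0 from ha, show b.1 + b.2.1 = 0 from hb, add_zero]
  neg_mem' := by
    intro a ha
    show -a.1 + -a.2.1 = 0
    rw [← neg_add, show a.1 + a.2.1 = 0 from ha, neg_zero]

/-- The coefficients of the subgroup with product of exponents trivial. -/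
def bCoeff : AddSubgroup (Fin 3 × Fin 3 × Fin 3) where
  carrier := {v | v.1 + v.2.1 + v.2.2 = 0}
  zero_mem' := rfl
  add_mem' := by
    intro a b ha hb
    show a.1 + b.1 + (a.2.1 + b.2.1) + (a.2.2 + b.2.2) = 0
    rw [show a.1 + b.1 + (a.2.1 + b.2.1) + (a.2.2 + b.2.2) =
      a.1 + a.2.1 + a.2.2 + (b.1 + b.2.1 + b.2.2) by abel,
      show a.1 + a.2.1 + a.2.2 = 0 from ha, show b.1 + b.2.1 + b.2.2 = 0 from hb, add_zero]
  neg_mem' := by
    intro a ha
    show -a.1 + -a.2.1 + -a.2.2 = 0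
    rw [← neg_add, ← neg_add, show a.1 + a.2.1 + a.2.2 = 0 from ha, neg_zero]

theorem coeff_card : ∀ v : Fin 3 × Fin 3 × Fin 3, (v.1 + v.2.1 = 0 → v + v + v = 0) := by
  decide +kernel

theorem card_PH : Nat.card (coeffSub pCoeff) = 9 := by
  rw [card_coeffSub]
  have : Nat.card pCoeff = Nat.card {v : Fin 3 × Fin 3 × Fin 3 // v.1 + v.2.1 = 0} :=
    Nat.card_congr (Equiv.subtypeEquivRight fun _ => Iff.rfl)
  rw [this, Nat.card_eq_fintype_card, Fintype.card_subtype]
  decide +kernel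

theorem card_BH : Nat.card (coeffSub bCoeff) = 9 := by
  rw [card_coeffSub]
  have : Nat.card bCoeff = Nat.card {v : Fin 3 × Fin 3 × Fin 3 // v.1 + v.2.1 + v.2.2 = 0} :=
    Nat.card_congr (Equiv.subtypeEquivRight fun _ => Iff.rfl)
  rw [this, Nat.card_eq_fintype_card, Fintype.card_subtype]
  decide +kernel

theorem PH_facts : (∀ v : Fin 3 × Fin 3 × Fin 3, v.1 + v.2.1 = 0 →
      jv v = (z * τ * z⁻¹ * τ⁻¹) ^ v.1.1 * ((z3 * τ * z3⁻¹ * τ⁻¹) ^ 2) ^ v.2.2.1) ∧
    τ * y = y * τ ∧ τ ≠ 1 ∧ Perm.sign τ = 1 ∧ y ≠ 1 ∧ y ^ 3 = 1 ∧ x ≠ 1 ∧ x ^ 3 = 1 ∧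
    jv (1, 1, 0) = y ∧ jv (1, 1, 1) = x ∧ p * x = x * p ∧
    (∀ v : Fin 3 × Fin 3 × Fin 3, ∃ k : Fin 3, (v.1 - k) + (v.2.1 - k) = 0 ∧
      jv (v.1 - k, v.2.1 - k, v.2.2) * y ^ k.1 = jv v) := by
  decide +kernel

variable {G : Type u} [Group G] [Finite G] (S : Data G)

theorem map_JH : JH.map S.e = S.J := by
  rw [JH_eq_closure, MonoidHom.map_closure, Set.image_insert_eq, Set.image_insert_eq,
    Set.image_singleton]
  rfl

theorem range_eq : S.e.range = normalizer (S.J : Set G) := S.range_eq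

theorem J_le_range : S.J ≤ S.e.range := map_JH S ▸ map_le_range _ _

theorem e_mem_J {h : Hm} : S.e h ∈ S.J ↔ h ∈ JH := by
  rw [← map_JH S, mem_map_iff_mem S.inj]

theorem mem_J {g : G} (hg : g ∈ S.J) : ∃ v, S.e (jH v) = g := by
  rw [← map_JH S] at hg
  obtain ⟨h, hh, rfl⟩ := hg
  obtain ⟨v, rfl⟩ := mem_JH.1 hh
  exact ⟨v, rfl⟩

theorem card_J : Nat.card S.J = 27 := by
  rw [← map_JH S, card_map_of_injective S.inj, card_JH]

theorem J_comm {a b : G} (ha : a ∈ S.J) (hb : b ∈ S.J) : a * b = b * a := by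
  obtain ⟨v, rfl⟩ := mem_J S ha
  obtain ⟨w, rfl⟩ := mem_J S hb
  rw [← map_mul, ← map_mul, jH_comm]

theorem isPGroup_J : IsPGroup 3 S.J := IsPGroup.of_card (n := 3) (by rw [card_J S]; norm_num)

theorem mem_range_of_conj {n : G} (h : ∀ j ∈ S.J, n * j * n⁻¹ ∈ S.J) : n ∈ S.e.range := by
  rw [range_eq S]
  have e : S.J.map (MulAut.conj n).toMonoidHom = S.J := by
    refine eq_of_le_of_card_ge ?_ (by rw [card_map_of_injective (MulEquiv.injective _)])
    rintro _ ⟨j, hj, rfl⟩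
    exact h j hj
  refine mem_normalizer_iff.2 fun j => ⟨fun hj => h j hj, fun hj => ?_⟩
  rw [← e] at hj
  obtain ⟨j', hj', e'⟩ := hj
  exact (MulEquiv.injective (MulAut.conj n) e') ▸ hj'

/-- Conjugates of `J` inside a three-subgroup of the normalizer containing `J` are `J`. -/
theorem conj_eq_of_le {R : Subgroup G} (hR : IsPGroup 3 R) (hJ : S.J ≤ R) (hle : R ≤ S.e.range)
    {g : G} (hg : S.J.map (MulAut.conj g).toMonoidHom ≤ R) :
    S.J.map (MulAut.conj g).toMonoidHom = S.J := by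
  set A := S.J.map (MulAut.conj g).toMonoidHom with hA
  have hAr : A ≤ S.e.range := hg.trans hle
  have hcard : Nat.card (A.comap S.e) = 27 := by
    rw [← card_map_of_injective S.inj (K := A.comap S.e), map_comap_eq_self hAr, hA,
      card_map_of_injective (MulEquiv.injective _), card_J S]
  have hcomm : ∀ a ∈ A.comap S.e, ∀ b ∈ A.comap S.e, a * b = b * a := by
    intro a ha b hb
    obtain ⟨i, hi, ei⟩ := mem_comap.1 ha
    obtain ⟨k, hk, ek⟩ := mem_comap.1 hb
    refine S.inj ?_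
    rw [map_mul, map_mul, ← ei, ← ek, ← map_mul, ← map_mul, J_comm S hi hk]
  have e := abelian_eq (R := R.comap S.e) (hR.comap_of_injective S.e S.inj)
    (fun h hh => mem_comap.2 (hJ ((e_mem_J S).2 hh))) (comap_mono hg) hcomm
    (hcard ▸ dvd_rfl)
  rw [← map_comap_eq_self hAr, e, map_JH S]

/-- Every three-subgroup containing `J` normalises it. -/
theorem three_le_range {R : Subgroup G} (hR : IsPGroup 3 R) (hJ : S.J ≤ R) : R ≤ S.e.range := by
  haveI : Fact (Nat.Prime 3) := ⟨Nat.prime_three⟩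
  by_contra hne
  haveI := hR.isNilpotent
  set R1 : Subgroup R := S.e.range.subgroupOf R with hR1
  have hlt : R1 < ⊤ := lt_top_iff_ne_top.2 fun e => hne (subgroupOf_eq_top.1 e)
  obtain ⟨n, hn, hn1⟩ := SetLike.exists_of_lt (Group.normalizerCondition_of_isNilpotent R1 hlt)
  refine hn1 (mem_subgroupOf.2 (mem_range_of_conj S fun j hj => ?_))
  have hle : S.J.map (MulAut.conj (n : G)).toMonoidHom ≤ R ⊓ S.e.range := by
    rintro _ ⟨k, hk, rfl⟩
    have hm := (mem_normalizer_iff.1 hn ⟨k, hJ hk⟩).1 (mem_subgroupOf.2 (J_le_range S hk))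
    refine mem_inf.2 ⟨?_, mem_subgroupOf.1 hm⟩
    show (n : G) * k * (n : G)⁻¹ ∈ R
    exact mul_mem (mul_mem n.2 (hJ hk)) (inv_mem n.2)
  rw [← conj_eq_of_le S (hR.to_le inf_le_left) (le_inf hJ (J_le_range S)) inf_le_right hle]
  exact ⟨j, hj, rfl⟩

theorem weakly_closed (g : G) (T : Subgroup G) (hT : IsPGroup 3 T) (hJ : S.J ≤ T)
    (h : S.J.map (MulAut.conj g).toMonoidHom ≤ T) :
    S.J.map (MulAut.conj g).toMonoidHom = S.J :=
  conj_eq_of_le S hT hJ (three_le_range S hT hJ) h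

include S in
theorem not_dvd : ¬ 243 ∣ Nat.card G := by
  intro hd
  haveI : Fact (Nat.Prime 3) := ⟨Nat.prime_three⟩
  obtain ⟨P, hP⟩ := (isPGroup_J S).exists_le_sylow
  have hle := three_le_range S P.isPGroup' hP
  have hcop : Nat.Coprime 243 (P : Subgroup G).index := by
    rw [show (243 : ℕ) = 3 ^ 5 from rfl]
    exact ((Nat.prime_three.coprime_iff_not_dvd).2 P.not_dvd_index).pow_left 5
  have h1 : 243 ∣ Nat.card P := hcop.dvd_of_dvd_mul_right (by rwa [card_mul_index])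
  have h2 := h1.trans (card_dvd_of_le hle)
  rw [← Nat.card_congr (MonoidHom.ofInjective S.inj).toEquiv, card_Hm] at h2
  norm_num at h2

theorem cent_J : centralizer (S.J : Set G) = S.J := by
  refine le_antisymm (fun c hc => ?_) fun j hj =>
    mem_centralizer_iff.2 fun k hk => J_comm S hk hj
  obtain ⟨h, rfl⟩ : c ∈ S.e.range := range_eq S ▸ centralizer_le_normalizer _ hc
  have key : ∀ q : Hm, q ∈ JH → h * q = q * h := fun q hq => S.inj (by
    rw [map_mul, map_mul]
    exact (mem_centralizer_iff.1 hc _ ((e_mem_J S).2 hq)).symm)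
  refine (e_mem_J S).2 (cent_JH (key _ ?_) (key _ ?_) (key _ ?_)) <;>
    rw [JH_eq_closure] <;> exact subset_closure (by simp)

theorem fusion (a b : Hm) (ha : InJ a) (hb : InJ b) (h : IsConj (S.e a) (S.e b)) : IsConj a b := by
  haveI : Fact (Nat.Prime 3) := ⟨Nat.prime_three⟩
  obtain ⟨g, hg⟩ := isConj_iff.1 h
  have haJ := (e_mem_J S).2 (inJ_iff.1 ha)
  have hbJ := (e_mem_J S).2 (inJ_iff.1 hb)
  set C := centralizer ({S.e b} : Set G) with hC
  set A := S.J.map (MulAut.conj g).toMonoidHom with hA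
  have hJC : S.J ≤ C := fun j hj => mem_centralizer_singleton_iff.2 (J_comm S hj hbJ)
  have hAC : A ≤ C := by
    rintro _ ⟨j, hj, rfl⟩
    refine mem_centralizer_singleton_iff.2 ?_
    show g * j * g⁻¹ * S.e b = S.e b * (g * j * g⁻¹)
    rw [← hg, show g * j * g⁻¹ * (g * S.e a * g⁻¹) = g * (j * S.e a) * g⁻¹ by group,
      J_comm S hj haJ]
    group
  obtain ⟨T, hT⟩ := ((isPGroup_J S).comap_of_injective C.subtype C.subtype_injective).exists_le_sylow
  obtain ⟨U, hU⟩ := (((isPGroup_J S).map (MulAut.conj g).toMonoidHom).comap_of_injective C.subtype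
    C.subtype_injective).exists_le_sylow
  obtain ⟨c, hc⟩ := MulAction.exists_smul_eq C U T
  have hJT : S.J ≤ (T : Subgroup C).map C.subtype := fun j hj =>
    ⟨⟨j, hJC hj⟩, hT hj, rfl⟩
  have hle : S.J.map (MulAut.conj ((c : G) * g)).toMonoidHom ≤ (T : Subgroup C).map C.subtype := by
    rintro _ ⟨j, hj, rfl⟩
    have hjA : g * j * g⁻¹ ∈ A := ⟨j, hj, rfl⟩
    refine ⟨c * ⟨g * j * g⁻¹, hAC hjA⟩ * c⁻¹, ?_, ?_⟩
    · show c * ⟨g * j * g⁻¹, hAC hjA⟩ * c⁻¹ ∈ T
      rw [← hc, Sylow.smul_def]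
      exact ⟨_, hU hjA, rfl⟩
    · show (c : G) * (g * j * g⁻¹) * (c : G)⁻¹ = (c : G) * g * j * ((c : G) * g)⁻¹
      group
  have e := weakly_closed S _ _ (T.isPGroup'.map C.subtype) hJT hle
  obtain ⟨n, hn⟩ := mem_range_of_conj S (n := (c : G) * g) fun j hj => e.le ⟨j, hj, rfl⟩
  refine isConj_iff.2 ⟨n, S.inj ?_⟩
  rw [map_mul, map_mul, map_inv, hn]
  calc (c : G) * g * S.e a * ((c : G) * g)⁻¹ = c * (g * S.e a * g⁻¹) * (c : G)⁻¹ := by group
    _ = S.e b := by rw [hg, mem_centralizer_singleton_iff.1 c.2, mul_inv_cancel_right]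

/-- An element of a three-element centralizer of the model. -/
theorem card_cent_range (a : Hm) :
    Nat.card ↥(centralizer ({S.e a} : Set G) ⊓ S.e.range) = Nat.card (centralizer ({a} : Set Hm)) := by
  rw [← card_map_of_injective S.inj (K := centralizer ({a} : Set Hm))]
  congr 2
  ext g
  constructor
  · rintro ⟨hg, h, rfl⟩
    exact ⟨h, mem_centralizer_singleton_iff.2 (S.inj (by
      rw [map_mul, map_mul]; exact mem_centralizer_singleton_iff.1 hg)), rfl⟩
  · rintro ⟨h, hh, rfl⟩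
    exact ⟨mem_centralizer_singleton_iff.2 (by
      rw [← map_mul, ← map_mul, mem_centralizer_singleton_iff.1 hh]), h, rfl⟩

theorem orderOf_three {a : Hm} (h3 : (a : P9) ^ 3 = 1) (h1 : (a : P9) ≠ 1) : orderOf a = 3 := by
  haveI : Fact (Nat.Prime 3) := ⟨Nat.prime_three⟩
  rw [← Subgroup.orderOf_coe]
  exact orderOf_eq_prime h3 h1

theorem y_mem_JH : yH ∈ JH := mem_JH.2 ⟨(1, 1, 0), Subtype.ext PH_facts.2.2.2.2.2.2.2.2.1⟩

theorem x_mem_JH : xH ∈ JH := mem_JH.2 ⟨(1, 1, 1), Subtype.ext PH_facts.2.2.2.2.2.2.2.2.2.1⟩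

theorem cent_y : centralizer ({S.e yH} : Set G) ≤ S.e.range := by
  haveI : Fact (Nat.Prime 3) := ⟨Nat.prime_three⟩
  set C := centralizer ({S.e yH} : Set G) with hC
  have hJC : S.J ≤ C := fun j hj =>
    mem_centralizer_singleton_iff.2 (J_comm S hj ((e_mem_J S).2 y_mem_JH))
  -- `J` is a Sylow subgroup of `C`
  obtain ⟨P, hP⟩ := ((isPGroup_J S).comap_of_injective C.subtype C.subtype_injective).exists_le_sylow
  have hPJ : (P : Subgroup C) = S.J.subgroupOf C := by
    refine le_antisymm ?_ hP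
    have hJP : S.J ≤ (P : Subgroup C).map C.subtype := fun j hj => ⟨⟨j, hJC hj⟩, hP hj, rfl⟩
    have hle : (P : Subgroup C).map C.subtype ≤ C ⊓ S.e.range :=
      le_inf (map_subtype_le _) (three_le_range S (P.isPGroup'.map C.subtype) hJP)
    have hd : Nat.card ((P : Subgroup C).map C.subtype) ∣ 54 := by
      have := card_dvd_of_le hle
      rwa [card_cent_range S, card_cent_yH] at this
    obtain ⟨n, hn⟩ := P.isPGroup'.exists_card_eq
    rw [card_map_of_injective C.subtype_injective, hn] at hd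
    have hn3 : n ≤ 3 := by
      by_contra h4
      exact absurd ((pow_dvd_pow 3 (show 4 ≤ n by omega)).trans hd) (by norm_num)
    refine (eq_of_le_of_card_ge hP ?_).ge
    show _ ≤ Nat.card (S.J.subgroupOf C)
    rw [Nat.card_congr (subgroupOfEquivOfLe hJC).toEquiv, card_J S, hn]
    exact (Nat.pow_le_pow_right (by norm_num) hn3).trans (by norm_num)
  have hmemP : ∀ a ∈ (P : Subgroup C), (a : G) ∈ S.J := fun a ha =>
    mem_subgroupOf.1 (hPJ.le ha)
  have hab : IsMulCommutative (P : Subgroup C) := ⟨⟨fun a b => Subtype.ext (Subtype.ext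
    (J_comm S (hmemP _ a.2) (hmemP _ b.2)))⟩⟩
  -- the intersection with the residual
  set Q := (coeffSub pCoeff).map S.e with hQ
  have hQJ : Q ≤ S.J := map_JH S ▸ map_mono (coeffSub_le _)
  have hfocal := Cfsg.Agent.S0075.result P hab
  set W := Cfsg.pResidual 3 C with hW
  have hWn : W.Normal := by
    refine ⟨fun a ha g => ?_⟩
    have hle : W.map (MulAut.conj g).toMonoidHom ≤ W := by
      rw [hW, Cfsg.pResidual, MonoidHom.map_closure]
      refine (closure_le _).2 ?_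
      rintro _ ⟨b, hb, rfl⟩
      refine subset_closure ?_
      show Nat.Coprime (orderOf ((MulAut.conj g).toMonoidHom b)) 3
      rw [show orderOf ((MulAut.conj g).toMonoidHom b) = orderOf b from
        orderOf_injective _ (MulEquiv.injective (MulAut.conj g)) b]
      exact hb
    exact hle ⟨a, ha, rfl⟩
  have hτC : S.e τH ∈ C := mem_centralizer_singleton_iff.2 (by
    rw [← map_mul, ← map_mul]; exact congrArg S.e (Subtype.ext PH_facts.2.1))
  have hτN : (⟨S.e τH, hτC⟩ : C) ∈ normalizer ((P : Subgroup C) : Set C) := by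
    refine mem_normalizer_iff.2 fun a => ?_
    rw [hPJ, mem_subgroupOf, mem_subgroupOf]
    exact mem_normalizer_iff.1 (show S.e τH ∈ normalizer (S.J : Set G) from
      range_eq S ▸ ⟨τH, rfl⟩) a
  have hupper : ∀ a : C, a ∈ (P : Subgroup C) → a ∈ W → (a : G) ∈ Q := by
    intro a haP haW
    have hmem : a ∈ ⁅(P : Subgroup C), normalizer ((P : Subgroup C) : Set C)⁆ :=
      hfocal ▸ ⟨haP, haW⟩
    have hle : ⁅(P : Subgroup C), normalizer ((P : Subgroup C) : Set C)⁆ ≤ Q.subgroupOf C := by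
      refine commutator_le.2 fun j hj n hn => mem_subgroupOf.2 ?_
      rw [hPJ] at hj
      obtain ⟨v, hv⟩ := mem_J S (mem_subgroupOf.1 hj)
      obtain ⟨h, hh⟩ : (n : G) ∈ S.e.range := mem_range_of_conj S fun k hk => by
        have := (mem_normalizer_iff.1 hn ⟨k, hJC hk⟩).1 (by
          rw [hPJ]; exact mem_subgroupOf.2 hk)
        rw [hPJ] at this
        exact mem_subgroupOf.1 this
      have hhy : h * yH = yH * h := S.inj (by
        rw [map_mul, map_mul, hh]; exact mem_centralizer_singleton_iff.1 n.2)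
      obtain ⟨c, hc⟩ := exists_code h.2
      obtain ⟨w, hw, e⟩ := code_comm_y c (by rw [hc]; exact congrArg Subtype.val hhy)
        (by rw [hc]; exact (mem_Hm.1 h.2).1) v
      refine ⟨jH w, ⟨w, ?_, rfl⟩, ?_⟩
      · show w.1 + w.2.1 = 0
        exact Fin.ext (by rw [Fin.val_add]; exact hw)
      · rw [hc] at e
        have e' : jH v * h * (jH v)⁻¹ * h⁻¹ = jH w := Subtype.ext e
        rw [← e', map_mul, map_mul, map_mul, map_inv, map_inv, hv, hh]
        rfl
    exact hle hmem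
  have hlower : ∀ g ∈ Q, ∃ hg : g ∈ C, (⟨g, hg⟩ : C) ∈ W := by
    rintro _ ⟨_, ⟨v, hv, rfl⟩, rfl⟩
    have hvC : S.e (jH v) ∈ C := hJC ((e_mem_J S).2 (jH_mem v))
    refine ⟨hvC, ?_⟩
    have hgen : ∀ j : Hm, ∀ hj : j ∈ JH, ∃ hg : S.e (j * τH * j⁻¹ * τH⁻¹) ∈ C,
        (⟨_, hg⟩ : C) ∈ W := by
      intro j hj
      have hjP : (⟨S.e j, hJC ((e_mem_J S).2 hj)⟩ : C) ∈ (P : Subgroup C) := by
        rw [hPJ]; exact mem_subgroupOf.2 ((e_mem_J S).2 hj)
      obtain ⟨d, hd⟩ : ∃ d : C, d = (⟨S.e j, hJC ((e_mem_J S).2 hj)⟩ : C) * ⟨S.e τH, hτC⟩ *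
          (⟨S.e j, hJC ((e_mem_J S).2 hj)⟩ : C)⁻¹ * (⟨S.e τH, hτC⟩ : C)⁻¹ := ⟨_, rfl⟩
      have h1 : d ∈ (P : Subgroup C) ⊓ W := by
        rw [hfocal, hd]; exact commutator_mem_commutator hjP hτN
      have e : (d : G) = S.e (j * τH * j⁻¹ * τH⁻¹) := by
        rw [hd]
        rw [map_mul, map_mul, map_mul, map_inv, map_inv]; rfl
      refine ⟨e ▸ Subtype.coe_prop _, ?_⟩
      have h2 := h1.2
      rwa [show (⟨S.e (j * τH * j⁻¹ * τH⁻¹), e ▸ Subtype.coe_prop _⟩ : C) = d from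
        Subtype.ext e.symm]
    obtain ⟨g1, w1'⟩ := hgen zH (by rw [JH_eq_closure]; exact subset_closure (by simp))
    obtain ⟨g3, w3'⟩ := hgen z3H (by rw [JH_eq_closure]; exact subset_closure (by simp))
    have e : jH v = (zH * τH * zH⁻¹ * τH⁻¹) ^ v.1.1 *
        ((z3H * τH * z3H⁻¹ * τH⁻¹) ^ 2) ^ v.2.2.1 := Subtype.ext (PH_facts.1 v hv)
    have : (⟨S.e (jH v), hvC⟩ : C) =
        ⟨_, g1⟩ ^ v.1.1 * ((⟨_, g3⟩ : C) ^ 2) ^ v.2.2.1 := Subtype.ext (by
      show S.e (jH v) = _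
      rw [e, map_mul, map_pow, map_pow, map_pow]
      simp only [Subgroup.coe_mul, SubmonoidClass.coe_pow])
    rw [this]
    exact mul_mem (pow_mem w1' _) (pow_mem (pow_mem w3' _) _)
  have hyW : ∀ a : C, (a : G) = S.e yH → a ∉ W := by
    intro a ha haW
    obtain ⟨_, ⟨w, hw, rfl⟩, e⟩ := hupper a (by
      rw [hPJ]; exact mem_subgroupOf.2 (ha ▸ (e_mem_J S).2 y_mem_JH)) haW
    rw [ha] at e
    have e' : jv w = y := congrArg Subtype.val (S.inj e)
    have e'' : w = (1, 1, 0) := jv_injective (e'.trans PH_facts.2.2.2.2.2.2.2.2.1.symm)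
    rw [e''] at hw
    exact absurd (show ((1 : Fin 3) + 1 = 0) from hw) (by decide)
  -- the residual as a subgroup of `G`
  set R := W.map C.subtype with hR
  have hRC : R ≤ C := map_subtype_le _
  have hQR : Q ≤ R := fun g hg => by
    obtain ⟨hg', hm⟩ := hlower g hg
    exact ⟨_, hm, rfl⟩
  have hRJ : ∀ g ∈ R, g ∈ S.J → g ∈ Q := by
    rintro _ ⟨a, ha, rfl⟩ hj
    exact hupper a (by rw [hPJ]; exact mem_subgroupOf.2 hj) ha
  have hcQ : Nat.card Q = 9 := by rw [hQ, card_map_of_injective S.inj, card_PH]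
  set QR := Q.subgroupOf R with hQR'
  have hcQR : Nat.card QR = 9 := by
    rw [hQR', Nat.card_congr (subgroupOfEquivOfLe hQR).toEquiv, hcQ]
  have hQRp : IsPGroup 3 QR := IsPGroup.of_card (n := 2) (by rw [hcQR]; norm_num)
  -- `Q` is a Sylow subgroup of `R`
  obtain ⟨T, hT⟩ := hQRp.exists_le_sylow
  have hTQ : (T : Subgroup R) = QR := by
    refine (eq_of_le_of_card_ge hT ?_).symm
    obtain ⟨U, hU⟩ := ((T.isPGroup'.map R.subtype).comap_of_injective C.subtype
      C.subtype_injective).exists_le_sylow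
    obtain ⟨c, hc⟩ := MulAction.exists_smul_eq C U P
    rw [hcQR, ← hcQ]
    have hmem : ∀ t : R, t ∈ (T : Subgroup R) → (c : G) * t * (c : G)⁻¹ ∈ Q := by
      intro t ht
      have h1 : c * ⟨t, hRC t.2⟩ * c⁻¹ ∈ (P : Subgroup C) := by
        show c * ⟨t, hRC t.2⟩ * c⁻¹ ∈ P
        rw [← hc, Sylow.smul_def]
        exact ⟨_, hU ⟨t, ht, rfl⟩, rfl⟩
      refine hupper _ h1 (hWn.conj_mem _ ?_ c)
      obtain ⟨a, ha, e⟩ := t.2
      exact (show (⟨t, hRC t.2⟩ : C) = a from Subtype.ext e.symm) ▸ ha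
    exact Nat.card_le_card_of_injective (fun t : (T : Subgroup R) => (⟨_, hmem t.1 t.2⟩ : Q))
      fun a b e => Subtype.ext (Subtype.ext (mul_left_cancel (mul_right_cancel
        (congrArg Subtype.val e))))
  -- elements normalizing `Q` and centralizing `y` normalize `J`
  have hdec : ∀ j ∈ S.J, ∃ q ∈ Q, ∃ k : ℕ, q * S.e yH ^ k = j := by
    intro j hj
    obtain ⟨v, rfl⟩ := mem_J S hj
    obtain ⟨k, hk, e⟩ := PH_facts.2.2.2.2.2.2.2.2.2.2.2 v
    refine ⟨S.e (jH (v.1 - k, v.2.1 - k, v.2.2)), ⟨_, ⟨_, hk, rfl⟩, rfl⟩,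
      k.1, ?_⟩
    rw [← map_pow, ← map_mul]
    exact congrArg S.e (Subtype.ext e)
  have hnJ : ∀ c ∈ C, (∀ q ∈ Q, c * q * c⁻¹ ∈ Q) → c ∈ S.e.range := by
    intro c hc hq
    refine mem_range_of_conj S fun j hj => ?_
    obtain ⟨q, hqQ, k, rfl⟩ := hdec j hj
    have hy : c * S.e yH * c⁻¹ = S.e yH := by
      rw [mem_centralizer_singleton_iff.1 hc, mul_inv_cancel_right]
    rw [show c * (q * S.e yH ^ k) * c⁻¹ = c * q * c⁻¹ * (c * S.e yH ^ k * c⁻¹) by group,
      ← conj_pow, hy]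
    exact mul_mem (hQJ (hq q hqQ)) (pow_mem ((e_mem_J S).2 y_mem_JH) _)
  have hRres : Cfsg.pResidual 3 R = ⊤ := by
    refine (eq_top_iff' _).2 fun r => ?_
    obtain ⟨a, ha, e⟩ := r.2
    have key : W ≤ ((Cfsg.pResidual 3 R).map R.subtype).comap C.subtype := by
      refine (closure_le _).2 fun b hb => ?_
      have hbR : (b : G) ∈ R := ⟨b, subset_closure hb, rfl⟩
      refine ⟨⟨b, hbR⟩, subset_closure ?_, rfl⟩
      show Nat.Coprime (orderOf (⟨(b : G), hbR⟩ : R)) 3
      rw [← Subgroup.orderOf_coe, Subgroup.orderOf_coe b]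
      exact hb
    obtain ⟨r', hr', e'⟩ := key ha
    rwa [show r' = r from Subtype.ext (e'.trans e)] at hr'
  have hR3 : Cfsg.pPrimeCore 3 R = ⊥ := by
    have hCore : Cfsg.pPrimeCore 3 C = ⊥ := S.cores yH (orderOf_three
      PH_facts.2.2.2.2.2.1 PH_facts.2.2.2.2.1)
    set N := (Cfsg.pPrimeCore 3 W).map W.subtype with hN
    haveI : W.Normal := hWn
    haveI : N.Normal := ⟨by
      rintro _ ⟨a, ha, rfl⟩ g
      refine ⟨(MulAut.conjNormal g : MulAut W) a, ?_, MulAut.conjNormal_apply g a⟩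
      rw [← Base.map_pPrimeCore_mulEquiv (p := 3) (MulAut.conjNormal g : MulAut W)]
      exact mem_map_of_mem _ ha⟩
    have h1 : N ≤ Cfsg.pPrimeCore 3 C := Base.le_pPrimeCore (by
      rw [hN, card_map_of_injective W.subtype_injective]
      exact Base.pPrimeCore_coprime 3 W)
    rw [hCore, le_bot_iff, hN, map_eq_bot_iff_of_injective _ W.subtype_injective] at h1
    rw [← Base.map_pPrimeCore_mulEquiv (p := 3) (W.equivMapOfInjective _ C.subtype_injective),
      h1, Subgroup.map_bot]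
  have hmemT : ∀ a ∈ (T : Subgroup R), (a : G) ∈ Q := fun a ha =>
    mem_subgroupOf.1 (hTQ.le ha)
  have hTab : IsMulCommutative (T : Subgroup R) := ⟨⟨fun a b => Subtype.ext (Subtype.ext
    (J_comm S (hQJ (hmemT _ a.2)) (hQJ (hmemT _ b.2))))⟩⟩
  have hTc : ¬ IsCyclic (T : Subgroup R) := by
    intro hcyc
    obtain ⟨g, hg⟩ := IsCyclic.exists_generator (α := (T : Subgroup R))
    have hd : orderOf g = 9 := by
      rw [orderOf_eq_card_of_forall_mem_zpowers hg, hTQ, hcQR]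
    have hg3 : g ^ 3 = 1 := by
      refine Subtype.ext (Subtype.ext ?_)
      have hgJ : (((g : R)) : G) ∈ S.J := hQJ (hmemT _ g.2)
      obtain ⟨v, hv⟩ := mem_J S hgJ
      rw [SubmonoidClass.coe_pow, SubmonoidClass.coe_pow, ← hv, ← map_pow,
        show jH v ^ 3 = 1 from Subtype.ext (jv_inJ v).2.1, map_one]
      rfl
    have := orderOf_dvd_of_pow_eq_one hg3
    rw [hd] at this
    norm_num at this
  -- the automizer of `Q` in `R` has order two
  have hcentQ : centralizer ((T : Subgroup R) : Set R) = (T : Subgroup R) := by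
    refine le_antisymm (fun r hr => ?_) fun a ha => mem_centralizer_iff.2 fun b hb =>
      congrArg Subtype.val (hTab.is_comm.comm ⟨b, hb⟩ ⟨a, ha⟩)
    have hrJ : (r : G) ∈ S.J := by
      rw [← cent_J S]
      refine mem_centralizer_iff.2 fun j hj => ?_
      obtain ⟨q, hqQ, k, rfl⟩ := hdec j hj
      have h1 : q * (r : G) = r * q := congrArg Subtype.val
        (mem_centralizer_iff.1 hr ⟨q, hQR hqQ⟩ (by rw [SetLike.mem_coe, hTQ]; exact hqQ))
      have h2 : Commute (r : G) (S.e yH) := mem_centralizer_singleton_iff.1 (hRC r.2)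
      exact ((Commute.mul_right (show Commute (r : G) q from h1.symm) (h2.pow_right k)).eq).symm
    rw [hTQ]
    exact mem_subgroupOf.2 (hRJ _ r.2 hrJ)
  set N := normalizer ((T : Subgroup R) : Set R) with hNdef
  have hNr : ∀ r ∈ N, (r : G) ∈ S.e.range := by
    intro r hr
    refine hnJ r (hRC r.2) fun q hq => ?_
    have := (mem_normalizer_iff.1 hr ⟨q, hQR hq⟩).1 (by rw [hTQ]; exact hq)
    rw [hTQ] at this
    exact mem_subgroupOf.1 this
  have hcardN : Nat.card N = 18 := by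
    have hle : N.map R.subtype ≤ C ⊓ S.e.range := by
      rintro _ ⟨r, hr, rfl⟩
      exact ⟨hRC r.2, hNr r hr⟩
    have hd : Nat.card N ∣ 54 := by
      have := card_dvd_of_le hle
      rwa [card_cent_range S, card_cent_yH, card_map_of_injective R.subtype_injective] at this
    have h9 : 9 ∣ Nat.card N := by
      rw [← hcQR, ← hTQ]; exact card_dvd_of_le le_normalizer
    have hτW : (⟨S.e τH, hτC⟩ : C) ∈ W := subset_closure (by
      show Nat.Coprime (orderOf (⟨S.e τH, hτC⟩ : C)) 3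
      rw [← Subgroup.orderOf_coe]
      have h2 : orderOf (S.e τH) ∣ 2 := orderOf_dvd_of_pow_eq_one (by
        rw [pow_two]; exact Data.g_mul_g S)
      exact Nat.Coprime.coprime_dvd_left h2 (by norm_num))
    have hτR : S.e τH ∈ R := ⟨_, hτW, rfl⟩
    have hτN' : (⟨S.e τH, hτR⟩ : R) ∈ N := by
      have key : ∀ q ∈ Q, S.e τH * q * (S.e τH)⁻¹ ∈ Q := fun q hq => by
        refine hRJ _ (mul_mem (mul_mem hτR (hQR hq)) (inv_mem hτR)) ?_
        exact (mem_normalizer_iff.1 (show S.e τH ∈ normalizer (S.J : Set G) from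
          range_eq S ▸ ⟨τH, rfl⟩) q).1 (hQJ hq)
      have hτi : (S.e τH)⁻¹ = S.e τH := inv_eq_of_mul_eq_one_right (Data.g_mul_g S)
      refine mem_normalizer_iff.2 fun a => ?_
      rw [hTQ, mem_subgroupOf, mem_subgroupOf]
      refine ⟨key _, fun h => ?_⟩
      have h' := key _ h
      have e : S.e τH * (S.e τH * (a : G) * (S.e τH)⁻¹) * (S.e τH)⁻¹ = a := by
        rw [hτi]
        calc S.e τH * (S.e τH * a * S.e τH) * S.e τH
            = (S.e τH * S.e τH) * a * (S.e τH * S.e τH) := by group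
          _ = a := by rw [show S.e τH * S.e τH = 1 from Data.g_mul_g S, one_mul, mul_one]
      rwa [show (((⟨S.e τH, hτR⟩ : R) * a * (⟨S.e τH, hτR⟩ : R)⁻¹ : R) : G) =
        S.e τH * a * (S.e τH)⁻¹ from rfl, e] at h'
    have h2 : 2 ∣ Nat.card N := by
      have ho : orderOf (⟨_, hτN'⟩ : N) = 2 := by
        rw [← Subgroup.orderOf_coe, ← Subgroup.orderOf_coe, orderOf_injective S.e S.inj,
          ← Subgroup.orderOf_coe]
        exact orderOf_eq_prime (by rw [pow_two]; exact lab_facts.2.2.2) PH_facts.2.2.1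
      exact ho ▸ _root_.orderOf_dvd_natCard _
    have h54 : Nat.card N ≠ 54 := by
      intro e
      have hfull : N.map R.subtype = C ⊓ S.e.range := eq_of_le_of_card_ge hle (by
        rw [card_cent_range S, card_cent_yH, card_map_of_injective R.subtype_injective, e])
      obtain ⟨r, -, hr⟩ : S.e yH ∈ N.map R.subtype := by
        rw [hfull]
        exact ⟨mem_centralizer_singleton_iff.2 rfl, yH, rfl⟩
      obtain ⟨a, ha, e'⟩ := r.2
      exact hyW a (e'.trans hr) ha
    have hmem : Nat.card N ∈ Nat.divisors 54 := Nat.mem_divisors.2 ⟨hd, by norm_num⟩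
    rw [show Nat.divisors 54 = {1, 2, 3, 6, 9, 18, 27, 54} from by decide +kernel] at hmem
    simp only [Finset.mem_insert, Finset.mem_singleton] at hmem
    rcases hmem with e | e | e | e | e | e | e | e <;> omega
  have hidx : ((centralizer ((T : Subgroup R) : Set R)).subgroupOf N).index = 2 := by
    have h := card_mul_index ((centralizer ((T : Subgroup R) : Set R)).subgroupOf N)
    rw [hcentQ, hTQ] at h ⊢
    rw [Nat.card_congr (subgroupOfEquivOfLe (show QR ≤ N from hTQ ▸ le_normalizer)).toEquiv,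
      hcQR, hcardN] at h
    omega
  have hlen : Cfsg.PLengthLE 3 1 R :=
    (Cfsg.Agent.S3347.result 3 (by norm_num) T hTab hTc hidx).resolve_left fun h => h hRres
  -- `Q` is normal in `R`, so in `C`
  have hTn : ∀ r : R, ∀ t ∈ (T : Subgroup R), r * t * r⁻¹ ∈ (T : Subgroup R) := by
    have h1 := CfsgLib.OddOrder.map_le_pCore_quotient hlen T.isPGroup'
    set π := QuotientGroup.mk' (Cfsg.pPrimeCore 3 R)
    have hinj : Function.Injective π := (π.ker_eq_bot_iff).1 (by
      rw [QuotientGroup.ker_mk', hR3])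
    set K := (Cfsg.pCore 3 (R ⧸ Cfsg.pPrimeCore 3 R)).comap π with hK
    have hTK : (T : Subgroup R) ≤ K := fun t ht => h1 ⟨t, ht, rfl⟩
    have hKT : K = (T : Subgroup R) :=
      T.3 ((Base.isPGroup_pCore 3 _).comap_of_injective π hinj) hTK
    haveI : (Cfsg.pCore 3 (R ⧸ Cfsg.pPrimeCore 3 R)).Normal := Cfsg.pCore_normal 3 _
    have hKn : K.Normal := inferInstance
    intro r t ht
    rw [← hKT]
    exact hKn.conj_mem t (hTK ht) r
  intro c hc
  refine hnJ c hc fun q hq => ?_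
  have hcR : ∀ w ∈ R, c * w * c⁻¹ ∈ R := by
    rintro _ ⟨a, ha, rfl⟩
    exact ⟨⟨c, hc⟩ * a * ⟨c, hc⟩⁻¹, hWn.conj_mem a ha _, rfl⟩
  let φ : Q →* R :=
    { toFun := fun a => ⟨c * a * c⁻¹, hcR _ (hQR a.2)⟩
      map_one' := Subtype.ext (by simp)
      map_mul' := fun a b => Subtype.ext (by
        show c * ((a : G) * b) * c⁻¹ = c * a * c⁻¹ * (c * b * c⁻¹)
        group) }
  have hX : IsPGroup 3 φ.range := (IsPGroup.of_card (n := 2) (by
    rw [hcQ]; norm_num) : IsPGroup 3 Q).of_surjective φ.rangeRestrict φ.rangeRestrict_surjective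
  obtain ⟨U, hU⟩ := hX.exists_le_sylow
  obtain ⟨r, hr⟩ := MulAction.exists_smul_eq R T U
  have h2 : φ ⟨q, hq⟩ ∈ (r • T : Sylow 3 R) := hr.symm ▸ hU ⟨⟨q, hq⟩, rfl⟩
  rw [Sylow.smul_def] at h2
  obtain ⟨t, ht, e⟩ := h2
  have h3 := hTn r t ht
  rw [show r * t * r⁻¹ = φ ⟨q, hq⟩ from e, hTQ] at h3
  exact mem_subgroupOf.1 h3

theorem cent_x : centralizer ({S.e xH} : Set G) ≤ S.e.range := by
  haveI : Fact (Nat.Prime 3) := ⟨Nat.prime_three⟩
  set C := centralizer ({S.e xH} : Set G) with hC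
  set P0 := (C ⊓ S.e.range).subgroupOf C with hP0
  have hJC : S.J ≤ C := fun j hj =>
    mem_centralizer_singleton_iff.2 (J_comm S hj ((e_mem_J S).2 x_mem_JH))
  have hc0 : Nat.card P0 = 81 := by
    rw [hP0, Nat.card_congr (subgroupOfEquivOfLe inf_le_left).toEquiv, card_cent_range S,
      card_cent_xH]
  obtain ⟨P, hP⟩ := (IsPGroup.of_card (n := 4) (by rw [hc0]; norm_num) : IsPGroup 3 P0).exists_le_sylow
  have hJP : S.J ≤ (P : Subgroup C).map C.subtype := fun j hj =>
    ⟨⟨j, hJC hj⟩, hP ⟨hJC hj, J_le_range S hj⟩, rfl⟩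
  have hPr := three_le_range S (P.isPGroup'.map C.subtype) hJP
  have hPeq : (P : Subgroup C) = P0 :=
    le_antisymm (fun a ha => ⟨a.2, hPr ⟨a, ha, rfl⟩⟩) hP
  -- the abelian Thompson subgroup is `J`
  set JP := (S.J.subgroupOf C).subgroupOf (P : Subgroup C) with hJPd
  have hJle : S.J.subgroupOf C ≤ (P : Subgroup C) := fun a ha => hP ⟨a.2, J_le_range S ha⟩
  have hcJP : Nat.card JP = 27 := by
    rw [hJPd, Nat.card_congr (subgroupOfEquivOfLe hJle).toEquiv,
      Nat.card_congr (subgroupOfEquivOfLe hJC).toEquiv, card_J S]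
  have huniq : ∀ B : Subgroup (P : Subgroup C), IsMulCommutative B → 27 ∣ Nat.card B → B = JP := by
    intro B hB h27
    set B' := (B.map (P : Subgroup C).subtype).map C.subtype with hB'
    have hB'c : Nat.card B' = Nat.card B := by
      rw [hB', card_map_of_injective C.subtype_injective,
        card_map_of_injective (P : Subgroup C).subtype_injective]
    have hB'P : B' ≤ (P : Subgroup C).map C.subtype := map_mono (map_subtype_le _)
    have hB'r : B' ≤ S.e.range := hB'P.trans hPr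
    have e := abelian_eq (R := ((P : Subgroup C).map C.subtype).comap S.e) (A := B'.comap S.e)
      ((P.isPGroup'.map C.subtype).comap_of_injective S.e S.inj)
      (fun h hh => mem_comap.2 (hJP ((e_mem_J S).2 hh))) (comap_mono hB'P) (fun a ha b hb => by
        obtain ⟨_, ⟨i, hi, rfl⟩, ei⟩ := mem_comap.1 ha
        obtain ⟨_, ⟨k, hk, rfl⟩, ek⟩ := mem_comap.1 hb
        refine S.inj ?_
        rw [map_mul, map_mul, ← ei, ← ek]
        exact congrArg (fun w : B => ((w : (P : Subgroup C)) : C).1)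
          (hB.is_comm.comm ⟨i, hi⟩ ⟨k, hk⟩))
      (by rwa [← card_map_of_injective S.inj (K := B'.comap S.e), map_comap_eq_self hB'r, hB'c])
    have e2 : B' = S.J := by rw [← map_comap_eq_self hB'r, e, map_JH S]
    refine eq_of_le_of_card_ge (fun b hb => ?_) (by rw [hcJP, ← hB'c, e2, card_J S])
    exact mem_subgroupOf.2 (mem_subgroupOf.2 (e2 ▸ ⟨_, ⟨b, hb, rfl⟩, rfl⟩))
  have hJPab : IsMulCommutative JP := ⟨⟨fun a b => Subtype.ext (Subtype.ext (Subtype.ext
    (J_comm S (mem_subgroupOf.1 (mem_subgroupOf.1 a.2)) (mem_subgroupOf.1 (mem_subgroupOf.1 b.2)))))⟩⟩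
  have hmax : Cfsg.maxAbelianSubgroups (P : Subgroup C) = {JP} := by
    have h27 : ∀ B : Subgroup (P : Subgroup C), IsMulCommutative B → 27 ≤ Nat.card B →
        B = JP := by
      intro B hB hge
      refine huniq B hB ?_
      obtain ⟨n, hn⟩ := (P.isPGroup'.to_subgroup B).exists_card_eq
      rw [hn] at hge ⊢
      have : 3 ≤ n := by
        by_contra h
        have := Nat.pow_le_pow_right (show 0 < 3 by norm_num) (show n ≤ 2 by omega)
        omega
      exact (show (27 : ℕ) = 3 ^ 3 from rfl) ▸ pow_dvd_pow 3 this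
    ext B
    constructor
    · rintro ⟨hB, hmaxB⟩
      exact h27 B hB (hcJP ▸ hmaxB JP hJPab)
    · rintro rfl
      refine ⟨hJPab, fun B hB => ?_⟩
      by_contra hlt
      have := h27 B hB (by omega)
      rw [this] at hlt
      omega
  have hZ : Cfsg.centerThompsonAOf (P : Subgroup C) = S.J.subgroupOf C := by
    have e : Cfsg.thompsonSubgroupAOf (P : Subgroup C) = S.J.subgroupOf C := by
      rw [Cfsg.thompsonSubgroupAOf, Cfsg.thompsonSubgroupA, hmax, sSup_singleton, hJPd,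
        subgroupOf_map_subtype, inf_eq_left.2 hJle]
    rw [Cfsg.centerThompsonAOf, e]
    exact inf_eq_left.2 fun a ha => mem_centralizer_iff.2 fun b hb =>
      Subtype.ext (J_comm S (mem_subgroupOf.1 hb) (mem_subgroupOf.1 ha))
  have hN : Cfsg.HasNormalPComplement 3
      ↥(normalizer (Cfsg.centerThompsonAOf (P : Subgroup C) : Set C)) := by
    rw [hZ]
    set N := normalizer ((S.J.subgroupOf C : Subgroup C) : Set C) with hNd
    have hNP : N ≤ (P : Subgroup C) := by
      intro n hn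
      refine hP ⟨n.2, mem_range_of_conj S fun j hj => ?_⟩
      exact mem_subgroupOf.1 ((mem_normalizer_iff.1 hn ⟨j, hJC hj⟩).1 (mem_subgroupOf.2 hj))
    have hNp : IsPGroup 3 N := P.isPGroup'.to_le hNP
    obtain ⟨Q, hQ⟩ := (hNp.to_subgroup (⊤ : Subgroup N)).exists_le_sylow
    refine ⟨Q, ⊥, inferInstance, ?_⟩
    rw [top_le_iff.1 hQ]
    exact isComplement'_bot_top
  obtain ⟨Q, N, hNn, hNQ⟩ := Cfsg.Agent.S0659.result (by norm_num) P hN
  have hcore : Cfsg.pPrimeCore 3 C = ⊥ :=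
    S.cores xH (orderOf_three PH_facts.2.2.2.2.2.2.2.1 PH_facts.2.2.2.2.2.2.1)
  have hN1 : N = ⊥ := by
    have h : N ≤ Cfsg.pPrimeCore 3 C := by
      haveI := hNn
      refine Base.le_pPrimeCore_of_not_dvd ?_
      rw [← hNQ.index_eq_card]
      exact Q.not_dvd_index
    exact le_bot_iff.1 (hcore ▸ h)
  have hQtop : (Q : Subgroup C) = ⊤ := isComplement'_bot_left.1 (hN1 ▸ hNQ)
  obtain ⟨g, hg⟩ := MulAction.exists_smul_eq C Q P
  intro c hc
  refine hPr ⟨⟨c, hc⟩, ?_, rfl⟩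
  show (⟨c, hc⟩ : C) ∈ P
  rw [← hg, Sylow.smul_def]
  exact ⟨g⁻¹ * ⟨c, hc⟩ * g, by rw [SetLike.mem_coe, hQtop]; exact mem_top _, by
    show g * (g⁻¹ * ⟨c, hc⟩ * g) * g⁻¹ = _
    group⟩

theorem signalizer (W : Subgroup G) (hW : (Nat.card W).Coprime 3)
    (hn : ∀ j ∈ S.J, ∀ w ∈ W, j * w * j⁻¹ ∈ W) : W = ⊥ := by
  set B := (coeffSub bCoeff).map S.e with hB
  have hBJ : B ≤ S.J := map_JH S ▸ map_mono (coeffSub_le _)
  have hJn : ∀ j ∈ S.J, j ∈ normalizer (W : Set G) := fun j hj => by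
    refine mem_normalizer_iff.2 fun w => ⟨hn j hj w, fun h => ?_⟩
    have h' := hn _ (inv_mem hj) _ h
    rwa [inv_inv, show j⁻¹ * (j * w * j⁻¹) * j = w by group] at h'
  haveI : IsMulCommutative B := ⟨⟨fun a b => Subtype.ext (J_comm S (hBJ a.2) (hBJ b.2))⟩⟩
  have hcB : Nat.card B = 9 := by rw [hB, card_map_of_injective S.inj, card_BH]
  have hBc : ¬ IsCyclic B := by
    intro hcyc
    obtain ⟨g, hg⟩ := IsCyclic.exists_generator (α := B)
    have hd : orderOf g = 9 := by rw [orderOf_eq_card_of_forall_mem_zpowers hg, hcB]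
    obtain ⟨v, hv⟩ := mem_J S (hBJ g.2)
    have hg3 : g ^ 3 = 1 := Subtype.ext (by
      rw [SubmonoidClass.coe_pow, ← hv, ← map_pow,
        show jH v ^ 3 = 1 from Subtype.ext (jv_inJ v).2.1, map_one]; rfl)
    have := orderOf_dvd_of_pow_eq_one hg3
    rw [hd] at this
    norm_num at this
  have hcop : (Nat.card B).Coprime (Nat.card W) := by
    rw [hcB, show (9 : ℕ) = 3 ^ 2 from rfl]
    exact (hW.symm).pow_left 2
  have hgen := Cfsg.Agent.S0058.result B W hBc (fun b hb => hJn b (hBJ hb)) hcop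
  rw [← hgen]
  refine le_bot_iff.1 (iSup₂_le fun b hb => ?_)
  obtain ⟨⟨_, ⟨v, hv, rfl⟩, rfl⟩, hb1⟩ := hb
  have hCb : centralizer ({S.e (jH v)} : Set G) ≤ S.e.range := by
    obtain ⟨c, hs, hc⟩ := signalizer_types v (fun e => hb1 (by rw [e, jH_zero, map_one]))
      (by
        have := congrArg Fin.val (show v.1 + v.2.1 + v.2.2 = 0 from hv)
        simp only [Fin.val_add, Fin.val_zero] at this
        omega)
    obtain ⟨h, hh⟩ : ∃ h : Hm, (h : P9) = mkB c := ⟨⟨_, mem_Hm.2 ⟨hs, mkB_blocks c⟩⟩, rfl⟩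
    have key : ∀ q : Hm, centralizer ({S.e q} : Set G) ≤ S.e.range →
        h * jH v = q * h → centralizer ({S.e (jH v)} : Set G) ≤ S.e.range := by
      intro q hq e g hg
      have h1 : S.e h * g * (S.e h)⁻¹ ∈ centralizer ({S.e q} : Set G) := by
        refine mem_centralizer_singleton_iff.2 ?_
        have e1 : S.e q = S.e h * S.e (jH v) * (S.e h)⁻¹ := by
          rw [← map_mul, e, map_mul, mul_inv_cancel_right]
        rw [e1]
        have e2 := mem_centralizer_singleton_iff.1 hg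
        calc S.e h * g * (S.e h)⁻¹ * (S.e h * S.e (jH v) * (S.e h)⁻¹)
            = S.e h * (g * S.e (jH v)) * (S.e h)⁻¹ := by group
          _ = _ := by rw [e2]; group
      have h2 := mul_mem (mul_mem (inv_mem (show S.e h ∈ S.e.range from ⟨h, rfl⟩)) (hq h1))
        (show S.e h ∈ S.e.range from ⟨h, rfl⟩)
      rwa [show (S.e h)⁻¹ * (S.e h * g * (S.e h)⁻¹) * S.e h = g by group] at h2
    rcases hc with e | e
    · exact key yH (cent_y S) (Subtype.ext (by
        show (h : P9) * jv v = y * h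
        rw [hh, e]))
    · exact key xH (cent_x S) (Subtype.ext (by
        show (h : P9) * jv v = x * h
        rw [hh, e]))
  intro w hw
  have hwr : w ∈ normalizer (S.J : Set G) := range_eq S ▸ hCb hw.2
  have hwJ : w ∈ S.J := by
    rw [← cent_J S]
    refine mem_centralizer_iff.2 fun j hj => ?_
    have h1 : j * w * j⁻¹ * w⁻¹ ∈ W := mul_mem (hn j hj w hw.1) (inv_mem hw.1)
    have h2 : j * w * j⁻¹ * w⁻¹ ∈ S.J := by
      rw [show j * w * j⁻¹ * w⁻¹ = j * (w * j⁻¹ * w⁻¹) by group]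
      exact mul_mem hj ((mem_normalizer_iff.1 hwr _).1 (inv_mem hj))
    have h3 : j * w * j⁻¹ * w⁻¹ = 1 := by
      have hcJW : (Nat.card S.J).Coprime (Nat.card W) := by
        rw [card_J S, show (27 : ℕ) = 3 ^ 3 from rfl]
        exact (hW.symm).pow_left 3
      exact mem_bot.1 ((Coprime.inf_eq_bot_of_coprime hcJW).le ⟨h2, h1⟩)
    calc j * w = j * w * j⁻¹ * w⁻¹ * (w * j) := by group
      _ = w * j := by rw [h3, one_mul]
  have hcJW : (Nat.card S.J).Coprime (Nat.card W) := by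
    rw [card_J S, show (27 : ℕ) = 3 ^ 3 from rfl]
    exact (hW.symm).pow_left 3
  exact (Coprime.inf_eq_bot_of_coprime hcJW).le ⟨hwJ, hw.1⟩

end CfsgLib.ANineThree.LocalAux

namespace CfsgLib.ANineThree

universe u

/-- The basic local facts. -/
theorem local_facts : StmtLocal.{u} := fun S =>
  ⟨LocalAux.not_dvd S, LocalAux.cent_J S, LocalAux.fusion S, LocalAux.weakly_closed S,
    LocalAux.cent_y S, LocalAux.cent_x S, LocalAux.signalizer S⟩

end CfsgLib.ANineThree
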