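import Cfsg.Agent.Lib.ANineThree.Basic

/-!
Facts on the model of the normalizer of `J`, checked over the 1296 elements preserving the blocks.
-/

set_option autoImplicit false
set_option maxRecDepth 100000
set_option synthInstance.maxSize 2000
set_option synthInstance.maxHeartbeats 200000

namespace CfsgLib.ANineThree.LocalAux

open Equiv

/-- The point of a block and a place in it. -/
abbrev e9 : Fin 3 × Fin 3 ≃ Fin 9 := finProdFinEquiv

/-- A permutation of the blocks and one inside each block. -/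
abbrev Code := Perm (Fin 3) × Perm (Fin 3) × Perm (Fin 3) × Perm (Fin 3)

/-- The permutation of a code. -/
def mkB (c : Code) : P9 :=
  e9.permCongr
    (((Equiv.prodCongrRight ![c.2.1, c.2.2.1, c.2.2.2]).trans (c.1.prodCongr (Equiv.refl _))))

theorem mkB_apply (c : Code) (i j : Fin 3) :
    mkB c (e9 (i, j)) =
      e9 (c.1 i, (![c.2.1, c.2.2.1, c.2.2.2] : Fin 3 → Perm (Fin 3)) i j) := by
  simp [mkB, Equiv.permCongr_apply, Equiv.prodCongrRight]

theorem mkB_injective : Function.Injective mkB := by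
  intro c d h
  have key : ∀ i j : Fin 3, (c.1 i, (![c.2.1, c.2.2.1, c.2.2.2] : Fin 3 → Perm (Fin 3)) i j) =
      (d.1 i, (![d.2.1, d.2.2.1, d.2.2.2] : Fin 3 → Perm (Fin 3)) i j) := fun i j =>
    e9.injective (by rw [← mkB_apply, ← mkB_apply, h])
  have h1 : c.1 = d.1 := Equiv.ext fun i => congrArg Prod.fst (key i 0)
  have h2 : ∀ i, (![c.2.1, c.2.2.1, c.2.2.2] : Fin 3 → Perm (Fin 3)) i =
      (![d.2.1, d.2.2.1, d.2.2.2] : Fin 3 → Perm (Fin 3)) i := fun i =>
    Equiv.ext fun j => congrArg Prod.snd (key i j)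
  exact Prod.ext h1 (Prod.ext (h2 0) (Prod.ext (h2 1) (h2 2)))

theorem mkB_blocks : ∀ (c : Code) (i j : Fin 9),
    (mkB c i).1 / 3 = (mkB c j).1 / 3 ↔ i.1 / 3 = j.1 / 3 := by
  intro c i j
  obtain ⟨⟨a, b⟩, rfl⟩ := e9.surjective i
  obtain ⟨⟨a', b'⟩, rfl⟩ := e9.surjective j
  have key : ∀ u v : Fin 3, (e9 (u, v) : Fin 9).1 / 3 = u.1 := by decide +kernel
  rw [mkB_apply, mkB_apply, key, key, key, key, ← Fin.ext_iff, ← Fin.ext_iff]
  exact c.1.injective.eq_iff

theorem exists_code {σ : P9} (h : σ ∈ Hm) : ∃ c, mkB c = σ := by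
  obtain ⟨g, hg⟩ : ∃ g : Fin 3 → Fin 3 → Fin 3 × Fin 3,
      g = fun i j => e9.symm (σ (e9 (i, j))) := ⟨_, rfl⟩
  have hgσ : ∀ i j, e9 (g i j) = σ (e9 (i, j)) := fun i j => by
    rw [hg]; exact Equiv.apply_symm_apply _ _
  have key : ∀ u : Fin 3 × Fin 3, (e9 u : Fin 9).1 / 3 = u.1.1 := by decide +kernel
  have hblk : ∀ i j i' j', (g i j).1 = (g i' j').1 ↔ i = i' := fun i j i' j' => by
    have := (mem_Hm.1 h).2 (e9 (i, j)) (e9 (i', j'))
    rw [← hgσ, ← hgσ, key, key, key, key, ← Fin.ext_iff, ← Fin.ext_iff] at this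
    exact this
  have hπ : Function.Bijective fun i => (g i 0).1 :=
    (Finite.injective_iff_bijective).1 fun a b e => (hblk a 0 b 0).1 e
  have hf : ∀ i, Function.Bijective fun j => (g i j).2 := fun i =>
    (Finite.injective_iff_bijective).1 fun a b e => by
      have e' : g i a = g i b := Prod.ext ((hblk i a i b).2 rfl) e
      have := congrArg e9 e'
      rw [hgσ, hgσ] at this
      exact congrArg Prod.snd (e9.injective (σ.injective this))
  refine ⟨(ofBijective _ hπ, ofBijective _ (hf 0), ofBijective _ (hf 1), ofBijective _ (hf 2)),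
    Equiv.ext fun k => ?_⟩
  obtain ⟨⟨i, j⟩, rfl⟩ := e9.surjective k
  rw [mkB_apply, ← hgσ]
  refine congrArg _ (Prod.ext ((hblk i 0 i j).2 rfl) ?_)
  fin_cases i <;> rfl

/-- The element `z ^ a * z2 ^ b * z3 ^ c`. -/
def jv (v : Fin 3 × Fin 3 × Fin 3) : P9 := z ^ v.1.1 * z2 ^ v.2.1.1 * z3 ^ v.2.2.1

theorem code_inJ : ∀ c : Code,
    (mkB c ^ 9 = 1 ∧ ∀ i : Fin 9, (mkB c i).1 / 3 = i.1 / 3) →
    ∃ v, mkB c = jv v := by decide +kernel

theorem jv_inJ : ∀ v, Perm.sign (jv v) = 1 ∧ (jv v) ^ 3 = 1 ∧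
    ∀ i : Fin 9, (jv v i).1 / 3 = i.1 / 3 := by decide +kernel

theorem code_cent_J : ∀ c : Code, mkB c * z = z * mkB c → mkB c * z2 = z2 * mkB c →
    mkB c * z3 = z3 * mkB c → Perm.sign (mkB c) = 1 → ∃ v, mkB c = jv v := by decide +kernel

theorem code_outside : ∀ c : Code, mkB c ^ 9 = 1 → (∃ i : Fin 9, (mkB c i).1 / 3 ≠ i.1 / 3) →
    (Finset.univ.filter fun v => mkB c * jv v = jv v * mkB c).card ≤ 3 := by decide +kernel

theorem card_even :
    (Finset.univ.filter fun c : Code => Perm.sign (mkB c) = 1).card = 648 := by decide +kernel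

theorem card_cent_y : (Finset.univ.filter fun c : Code =>
    mkB c * y = y * mkB c ∧ Perm.sign (mkB c) = 1).card = 54 := by decide +kernel

theorem card_cent_x : (Finset.univ.filter fun c : Code =>
    mkB c * x = x * mkB c ∧ Perm.sign (mkB c) = 1).card = 81 := by decide +kernel

theorem code_comm_y : ∀ c : Code, mkB c * y = y * mkB c → Perm.sign (mkB c) = 1 → ∀ v,
    ∃ w : Fin 3 × Fin 3 × Fin 3, (w.1.1 + w.2.1.1) % 3 = 0 ∧
      jv v * mkB c * (jv v)⁻¹ * (mkB c)⁻¹ = jv w := by decide +kernel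

theorem signalizer_types : ∀ v : Fin 3 × Fin 3 × Fin 3, v ≠ 0 →
    (v.1.1 + v.2.1.1 + v.2.2.1) % 3 = 0 →
    ∃ c : Code, Perm.sign (mkB c) = 1 ∧ (mkB c * jv v = y * mkB c ∨ mkB c * jv v = x * mkB c) := by
  decide +kernel

end CfsgLib.ANineThree.LocalAux
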