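import Cfsg.Agent.Lib.ANineThree.Interface
import Cfsg.Agent.Lib.ANineThree.LocalModel

/-!
The subgroup `J` in the model and in the group: it is the only abelian subgroup of its order in a
three-group containing it, so it is weakly closed and controls its own fusion.
-/

set_option autoImplicit false
set_option linter.unusedSectionVars false
set_option linter.style.haveILetI false

namespace CfsgLib.ANineThree.LocalAux

open Equiv Subgroup

universe u

theorem jv_mul : ∀ v w, jv v * jv w = jv (v + w) := by decide +kernel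

theorem jv_zero : jv 0 = 1 := by decide +kernel

theorem jv_injective : Function.Injective jv := by
  have h : ∀ v, jv v = 1 → v = 0 := by decide +kernel
  intro v w e
  have e2 : jv (v + -w) = 1 := by rw [← jv_mul, e, jv_mul, add_neg_cancel, jv_zero]
  exact add_neg_eq_zero.1 (h _ e2)

/-- The element of `J` in the model. -/
def jH (v : Fin 3 × Fin 3 × Fin 3) : Hm :=
  ⟨jv v, mem_Hm.2 ⟨(jv_inJ v).1, fun i j => by rw [(jv_inJ v).2.2, (jv_inJ v).2.2]⟩⟩

theorem jH_mul (v w : Fin 3 × Fin 3 × Fin 3) : jH v * jH w = jH (v + w) := Subtype.ext (jv_mul v w)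

theorem jH_zero : jH 0 = 1 := Subtype.ext jv_zero

theorem jH_injective : Function.Injective jH := fun _ _ h =>
  jv_injective (congrArg Subtype.val h)

theorem jH_comm (v w : Fin 3 × Fin 3 × Fin 3) : jH v * jH w = jH w * jH v := by
  rw [jH_mul, jH_mul, add_comm]

/-- The subgroup given by a subgroup of the coefficients. -/
def coeffSub (s : AddSubgroup (Fin 3 × Fin 3 × Fin 3)) : Subgroup Hm where
  carrier := {h | ∃ v ∈ s, jH v = h}
  one_mem' := ⟨0, s.zero_mem, jH_zero⟩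
  mul_mem' := by
    rintro _ _ ⟨v, hv, rfl⟩ ⟨w, hw, rfl⟩
    exact ⟨v + w, s.add_mem hv hw, (jH_mul v w).symm⟩
  inv_mem' := by
    rintro _ ⟨v, hv, rfl⟩
    refine ⟨-v, s.neg_mem hv, eq_inv_of_mul_eq_one_left ?_⟩
    rw [jH_mul, neg_add_cancel, jH_zero]

/-- `J` in the model. -/
def JH : Subgroup Hm := coeffSub ⊤

theorem mem_JH {h : Hm} : h ∈ JH ↔ ∃ v, jH v = h :=
  ⟨fun ⟨v, _, e⟩ => ⟨v, e⟩, fun ⟨v, e⟩ => ⟨v, trivial, e⟩⟩

theorem jH_mem (v : Fin 3 × Fin 3 × Fin 3) : jH v ∈ JH := mem_JH.2 ⟨v, rfl⟩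

theorem coeffSub_le (s : AddSubgroup (Fin 3 × Fin 3 × Fin 3)) : coeffSub s ≤ JH :=
  fun _ ⟨v, _, e⟩ => mem_JH.2 ⟨v, e⟩

theorem card_coeffSub (s : AddSubgroup (Fin 3 × Fin 3 × Fin 3)) :
    Nat.card (coeffSub s) = Nat.card s :=
  (Nat.card_congr (Equiv.ofBijective (fun v : s => (⟨jH v, v, v.2, rfl⟩ : coeffSub s))
    ⟨fun a b e => Subtype.ext (jH_injective (congrArg Subtype.val e)),
      fun ⟨_, v, hv, e⟩ => ⟨⟨v, hv⟩, Subtype.ext e⟩⟩)).symm

theorem card_JH : Nat.card JH = 27 := by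
  rw [JH, card_coeffSub, AddSubgroup.card_top, Nat.card_eq_fintype_card]
  rfl

theorem JH_eq_closure : JH = Subgroup.closure ({zH, z2H, z3H} : Set Hm) := by
  refine le_antisymm (fun h hh => ?_) ((closure_le _).2 ?_)
  · obtain ⟨v, rfl⟩ := mem_JH.1 hh
    rw [show jH v = zH ^ v.1.1 * z2H ^ v.2.1.1 * z3H ^ v.2.2.1 from Subtype.ext rfl]
    exact mul_mem (mul_mem (pow_mem (subset_closure (by simp)) _)
      (pow_mem (subset_closure (by simp)) _)) (pow_mem (subset_closure (by simp)) _)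
  · rintro h (rfl | rfl | rfl)
    exacts [mem_JH.2 ⟨(1, 0, 0), Subtype.ext (by decide +kernel)⟩,
      mem_JH.2 ⟨(0, 1, 0), Subtype.ext (by decide +kernel)⟩,
      mem_JH.2 ⟨(0, 0, 1), Subtype.ext (by decide +kernel)⟩]

theorem inJ_iff {h : Hm} : InJ h ↔ h ∈ JH := by
  constructor
  · rintro ⟨h3, hb⟩
    obtain ⟨c, hc⟩ := exists_code h.2
    have h9 : (h : P9) ^ 9 = 1 := (pow_mul (h : P9) 3 3).trans (by rw [h3, one_pow])
    obtain ⟨v, hv⟩ := code_inJ c (by rw [hc]; exact ⟨h9, hb⟩)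
    exact mem_JH.2 ⟨v, Subtype.ext (hv.symm.trans hc)⟩
  · intro hh
    obtain ⟨v, rfl⟩ := mem_JH.1 hh
    exact ⟨(jv_inJ v).2.1, (jv_inJ v).2.2⟩

theorem cent_JH {h : Hm} (h1 : h * zH = zH * h) (h2 : h * z2H = z2H * h)
    (h3 : h * z3H = z3H * h) : h ∈ JH := by
  obtain ⟨c, hc⟩ := exists_code h.2
  obtain ⟨v, hv⟩ := code_cent_J c (by rw [hc]; exact congrArg Subtype.val h1)
    (by rw [hc]; exact congrArg Subtype.val h2) (by rw [hc]; exact congrArg Subtype.val h3)
    (by rw [hc]; exact (mem_Hm.1 h.2).1)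
  exact mem_JH.2 ⟨v, Subtype.ext (hv.symm.trans hc)⟩

theorem card_count {P : P9 → Prop} [DecidablePred P] :
    Nat.card {h : Hm // P h.1} =
      (Finset.univ.filter fun c : Code => P (mkB c) ∧ Perm.sign (mkB c) = 1).card := by
  rw [← Fintype.card_subtype, ← Nat.card_eq_fintype_card]
  refine (Nat.card_congr (Equiv.ofBijective (fun c : {c : Code // P (mkB c) ∧
    Perm.sign (mkB c) = 1} => (⟨⟨mkB c.1, mem_Hm.2 ⟨c.2.2, mkB_blocks c.1⟩⟩, c.2.1⟩ :
      {h : Hm // P h.1})) ⟨fun a b e => ?_, fun h => ?_⟩)).symm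
  · exact Subtype.ext (mkB_injective
      (congrArg (fun q : {h : Hm // P h.1} => (q.1 : P9)) e))
  · obtain ⟨c, hc⟩ := exists_code h.1.2
    exact ⟨⟨c, by rw [hc]; exact ⟨h.2, (mem_Hm.1 h.1.2).1⟩⟩,
      Subtype.ext (Subtype.ext hc)⟩

theorem card_Hm : Nat.card Hm = 648 := by
  rw [← card_even]
  have h := card_count (P := fun _ => True)
  simp only [true_and] at h
  rw [← h]
  exact (Nat.card_congr (Equiv.subtypeUnivEquiv fun _ => trivial)).symm

theorem card_cent_yH : Nat.card (centralizer ({yH} : Set Hm)) = 54 := by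
  rw [← card_cent_y, ← card_count (P := fun σ => σ * y = y * σ)]
  exact Nat.card_congr (Equiv.subtypeEquivRight fun h =>
    mem_centralizer_singleton_iff.trans ⟨congrArg Subtype.val, fun e => Subtype.ext e⟩)

theorem card_cent_xH : Nat.card (centralizer ({xH} : Set Hm)) = 81 := by
  rw [← card_cent_x, ← card_count (P := fun σ => σ * x = x * σ)]
  exact Nat.card_congr (Equiv.subtypeEquivRight fun h =>
    mem_centralizer_singleton_iff.trans ⟨congrArg Subtype.val, fun e => Subtype.ext e⟩)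

theorem card_le_81 {R : Subgroup Hm} (hR : IsPGroup 3 R) : Nat.card R ∣ 81 := by
  haveI : Fact (Nat.Prime 3) := ⟨Nat.prime_three⟩
  obtain ⟨n, hn⟩ := hR.exists_card_eq
  have hd := R.card_subgroup_dvd_card
  rw [hn, card_Hm] at hd
  rw [hn]
  have hn4 : n ≤ 4 := by
    by_contra h5
    exact absurd ((pow_dvd_pow 3 (show 5 ≤ n by omega)).trans hd) (by norm_num)
  exact (show (81 : ℕ) = 3 ^ 4 from rfl) ▸ pow_dvd_pow 3 hn4

instance JH_normal : JH.Normal := ⟨fun a ha g => by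
  rw [← inJ_iff] at ha ⊢
  refine ⟨?_, fun i => ?_⟩
  · rw [Subgroup.coe_mul, Subgroup.coe_mul, Subgroup.coe_inv, conj_pow, ha.1, mul_one,
      mul_inv_cancel]
  · have h1 := ((mem_Hm.1 g.2).2 ((a : P9) ((g : P9)⁻¹ i)) ((g : P9)⁻¹ i)).2 (ha.2 _)
    simpa [Perm.mul_apply] using h1⟩

theorem card_map_mul (X : Subgroup Hm) :
    Nat.card (X.map (QuotientGroup.mk' JH)) * Nat.card ↥(X ⊓ JH) = Nat.card X := by
  let f := (QuotientGroup.mk' JH).comp X.subtype
  have hf : f.range = X.map (QuotientGroup.mk' JH) := by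
    rw [MonoidHom.range_comp, range_subtype]
  have hk : f.ker = JH.subgroupOf X := by
    ext a
    rw [MonoidHom.mem_ker, mem_subgroupOf]
    exact QuotientGroup.eq_one_iff _
  have hk' : Nat.card f.ker = Nat.card ↥(X ⊓ JH) := by
    rw [hk, ← inf_subgroupOf_left]
    exact Nat.card_congr (subgroupOfEquivOfLe inf_le_left).toEquiv
  have := card_mul_index f.ker
  rw [index_ker, hf, hk', mul_comm] at this
  exact this

theorem map_card_dvd {R : Subgroup Hm} (hR : IsPGroup 3 R) (hJ : JH ≤ R) :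
    Nat.card (R.map (QuotientGroup.mk' JH)) ∣ 3 := by
  have h := card_map_mul R
  rw [inf_eq_right.2 hJ, card_JH] at h
  have h81 := card_le_81 hR
  rw [← h] at h81
  exact Nat.dvd_of_mul_dvd_mul_right (show 0 < 27 by norm_num) h81

theorem pow_nine {R : Subgroup Hm} (hR : IsPGroup 3 R) (hJ : JH ≤ R) {q : Hm} (hq : q ∈ R) :
    q ^ 9 = 1 := by
  have h : (⟨QuotientGroup.mk' JH q, ⟨q, hq, rfl⟩⟩ : R.map (QuotientGroup.mk' JH)) ^ 3 = 1 :=
    orderOf_dvd_iff_pow_eq_one.1 ((_root_.orderOf_dvd_natCard _).trans (map_card_dvd hR hJ))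
  have h3 : q ^ 3 ∈ JH := (QuotientGroup.eq_one_iff _).1 (congrArg Subtype.val h)
  refine Subtype.ext ?_
  have e := (inJ_iff.2 h3).1
  rw [SubmonoidClass.coe_pow, ← pow_mul] at e
  simpa using e

/-- Only `J` is abelian of order divisible by `27` in a three-subgroup containing `J`. -/
theorem abelian_eq {R A : Subgroup Hm} (hR : IsPGroup 3 R) (hJ : JH ≤ R) (hA : A ≤ R)
    (hc : ∀ a ∈ A, ∀ b ∈ A, a * b = b * a) (h27 : 27 ∣ Nat.card A) : A = JH := by
  have hle : A ≤ JH := by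
    by_contra hne
    obtain ⟨q, hq, hqJ⟩ := SetLike.not_le_iff_exists.1 hne
    have hq9 : (q : P9) ^ 9 = 1 := congrArg Subtype.val (pow_nine hR hJ (hA hq))
    obtain ⟨c, hc'⟩ := exists_code q.2
    have hblk : ∃ i : Fin 9, (mkB c i).1 / 3 ≠ i.1 / 3 := by
      by_contra hno
      push Not at hno
      obtain ⟨v, hv⟩ := code_inJ c ⟨hc' ▸ hq9, hno⟩
      exact hqJ (mem_JH.2 ⟨v, Subtype.ext (hv.symm.trans hc')⟩)
    have hsmall := code_outside c (hc' ▸ hq9) hblk
    have h3 : Nat.card ↥(A ⊓ JH) ≤ 3 := by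
      have hex : ∀ a : ↥(A ⊓ JH), ∃ v : {v // mkB c * jv v = jv v * mkB c}, jH v.1 = a.1 := by
        intro a
        obtain ⟨v, hv⟩ := mem_JH.1 a.2.2
        refine ⟨⟨v, ?_⟩, hv⟩
        rw [hc']
        exact congrArg Subtype.val (hc q hq (jH v) (hv ▸ a.2.1))
      choose g hg using hex
      have hgi : Function.Injective g := fun a b e => Subtype.ext (by rw [← hg a, ← hg b, e])
      refine le_trans (Nat.card_le_card_of_injective g hgi) (le_trans ?_ hsmall)
      rw [Nat.card_eq_fintype_card, Fintype.card_subtype]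
    have h := card_map_mul A
    have hm : Nat.card (A.map (QuotientGroup.mk' JH)) ≤ 3 :=
      Nat.le_of_dvd (by norm_num) ((card_dvd_of_le (map_mono hA)).trans (map_card_dvd hR hJ))
    have h9 : Nat.card A ≤ 9 := h ▸ Nat.mul_le_mul hm h3
    have := Nat.le_of_dvd Nat.card_pos h27
    omega
  exact eq_of_le_of_card_ge hle (by rw [card_JH]; exact Nat.le_of_dvd Nat.card_pos h27)

end CfsgLib.ANineThree.LocalAux
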