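import Cfsg.Agent.Lib.ANineThree.NoSeven.Words

/-!
The configuration of the symplectic group does not occur.

With `a = v3`, `b = (0 1)(3 7)`, `c = (0 1)(7 8)`, `e = (0 1)(3 6)` the Coxeter relations of type
`D₄` hold and all four commute with `X = (0 1)(4 5)`; so the cube `k` of `a b c e` is one of four
elements of the normalizer of `⟨(3 7 8)⟩`.  Each possibility forces the element exchanging the first
two lines into the normalizer of the first one.
-/

set_option autoImplicit false
set_option maxRecDepth 100000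

namespace CfsgLib.ANineThree.NoSeven

open CfsgLib.PresCert Equiv Subgroup

universe u

/-- carries the first block to `{3, 7, 8}` after `τ` -/
def ccK : K := wK [4, 3, 2, 5, 4, 3]

/-- `(0 1)(3 7)` -/
def qb : K := wK [0, 2, 4, 3, 2, 0, 4]
/-- `(0 1)(7 8)` -/
def qc : K := wK [5]
/-- `(0 1)(4 5)` -/
def qX : K := wK [2]
/-- `(0 1)(3 6)` -/
def qe : K := wK [0, 3, 2, 0, 3]

/-- `(0 1)(3 4)` -/
def kb : K := ⟨swap 0 1 * swap 3 4, by decide +kernel⟩
/-- `(1 2)(3 4)` -/
def kc : K := ⟨swap 1 2 * swap 3 4, by decide +kernel⟩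
/-- `(3 4)(6 7)` -/
def kX : K := ⟨swap 3 4 * swap 6 7, by decide +kernel⟩

/-- an element of the stabilizer commuting with the four is one of four involutions or trivial -/
theorem cand_of_commute {q : K} (hz : Commute q zK) (hb : Commute q kb) (hc : Commute q kc)
    (hX : Commute q kX) :
    q = 1 ∨ q = kX ∨ q = wK [3, 4, 3, 5, 4, 3] ∨ q = wK [1, 3, 4, 5, 4, 3] := by
  have hq := mem_K.1 q.2
  set σ : P9 := (q : P9) with hσ
  have cm : ∀ r : K, Commute q r → ∀ i, σ ((r : P9) i) = (r : P9) (σ i) := fun r h i => by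
    have := congrArg (fun k : K => (k : P9) i) h.eq
    simpa [hσ] using this
  have fx : ∀ r : K, Commute q r → ∀ i, (r : P9) i = i ↔ (r : P9) (σ i) = σ i := fun r h i => by
    rw [← cm r h i, σ.injective.eq_iff]
  have key : ∀ i j : Fin 9, (j.1 < 3 ↔ i.1 < 3) → ((kb : P9) i = i ↔ (kb : P9) j = j) →
      ((kc : P9) i = i ↔ (kc : P9) j = j) → ((kX : P9) i = i ↔ (kX : P9) j = j) →
      (i.1 < 3 → j = i) ∧ (i = 3 → j = 3 ∨ j = 4) ∧ (i = 4 → j = 3 ∨ j = 4) ∧
        (i = 5 → j = 5 ∨ j = 8) ∧ (i = 8 → j = 5 ∨ j = 8) ∧ (i = 6 → j = 6 ∨ j = 7) ∧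
        (i = 7 → j = 6 ∨ j = 7) := by decide +kernel
  have kk := fun i => key i (σ i) (hq.2 i) (fx kb hb i) (fx kc hc i) (fx kX hX i)
  have e4 : σ 4 = (kb : P9) (σ 3) := by
    rw [← cm kb hb 3]; rfl
  have e7 : σ 7 = (kX : P9) (σ 6) := by
    rw [← cm kX hX 6]; rfl
  have e8 : σ 8 = swap 5 8 (σ 5) := by
    have hne : σ 8 ≠ σ 5 := fun h => absurd (σ.injective h) (by decide)
    rcases (kk 5).2.2.2.1 rfl with h5 | h5 <;> rcases (kk 8).2.2.2.2.1 rfl with h8 | h8 <;>
      first
        | exact absurd (h8.trans h5.symm) hne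
        | (rw [h5, h8]; decide +kernel)
  have e0 : σ 0 = 0 := (kk 0).1 (by decide)
  have e1 : σ 1 = 1 := (kk 1).1 (by decide)
  have e2 : σ 2 = 2 := (kk 2).1 (by decide)
  have hval : σ = swap 3 (σ 3) * swap 5 (σ 5) * swap 6 (σ 6) := by
    rcases (kk 3).2.1 rfl with h3 | h3 <;> rcases (kk 5).2.2.2.1 rfl with h5 | h5 <;>
      rcases (kk 6).2.2.2.2.2.1 rfl with h6 | h6 <;>
      · rw [h3] at e4
        rw [h5] at e8
        rw [h6] at e7
        refine Equiv.ext fun i => ?_
        rw [h3, h5, h6]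
        fin_cases i <;> (simp only [Fin.reduceFinMk, Fin.isValue, Fin.zero_eta, Fin.mk_one]
                         first
                           | rw [e0] | rw [e1] | rw [e2] | rw [h3] | rw [e4] | rw [h5]
                           | rw [h6] | rw [e7] | rw [e8]
                         decide +kernel)
  have fin : ∀ a ∈ ([3, 4] : List (Fin 9)), ∀ b ∈ ([5, 8] : List (Fin 9)),
      ∀ c ∈ ([6, 7] : List (Fin 9)), Perm.sign (swap 3 a * swap 5 b * swap 6 c) = 1 →
        swap 3 a * swap 5 b * swap 6 c ∈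
          [((1 : K) : P9), (kX : P9), (wK [3, 4, 3, 5, 4, 3] : P9),
            (wK [1, 3, 4, 5, 4, 3] : P9)] := by decide +kernel
  have hm := fin (σ 3) (by simpa using (kk 3).2.1 rfl) (σ 5) (by simpa using (kk 5).2.2.2.1 rfl)
    (σ 6) (by simpa using (kk 6).2.2.2.2.2.1 rfl) (by rw [← hval]; exact hq.1)
  rw [← hval] at hm
  simp only [List.mem_cons, List.not_mem_nil, or_false] at hm
  exact hm.imp Subtype.ext (Or.imp Subtype.ext (Or.imp Subtype.ext Subtype.ext))

variable {G : Type u} [Group G] {S : Data G} (T : Glue S)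

/-- the seven generators -/
def fG (i : Fin 7) : G := if i = 6 then S.g else T.ψ (sK i)

theorem ev_of_lt (w : List (Fin 7)) (hw : ∀ x ∈ w, x ≠ 6) :
    (w.map (fG T)).prod = T.ψ (wK w) := by
  rw [wK, map_list_prod, List.map_map]
  exact congrArg List.prod (List.map_congr_left fun x hx => by simp [fG, hw x hx])

theorem fG_six : fG T 6 = S.g := if_pos rfl

/-- the conjugation by a carrier -/
def labHom (c : K) : K →* G := (MulAut.conj (T.ψ c * S.g)).toMonoidHom.comp T.ψ

theorem labHom_apply (c k : K) : labHom T c k = T.lab c k := by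
  have hg : S.g⁻¹ = S.g := inv_eq_of_mul_eq_one_right S.g_mul_g
  simp [labHom, Glue.lab, MulAut.conj_apply, hg, mul_assoc]

theorem ev_lab (cw w : List (Fin 7)) (hc : ∀ x ∈ cw, x ≠ 6) (hw : ∀ x ∈ w, x ≠ 6)
    (hi : wK cw.reverse = (wK cw)⁻¹) :
    ((cw ++ [6] ++ w ++ [6] ++ cw.reverse).map (fG T)).prod = T.lab (wK cw) (wK w) := by
  simp only [List.map_append, List.prod_append, List.map_cons, List.map_nil, List.prod_cons,
    List.prod_nil, mul_one, ev_of_lt T cw hc, ev_of_lt T w hw, fG_six,
    ev_of_lt T cw.reverse (fun x hx => hc x (List.mem_reverse.1 hx)), hi, map_inv, Glue.lab]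

theorem ev_labA (w : List (Fin 7)) (hw : ∀ x ∈ w, x ≠ 6) :
    ((labA w).map (fG T)).prod = T.lab cK (wK w) := by
  rw [show cK = wK [1, 2, 3] by decide +kernel]
  have := ev_lab T [1, 2, 3] w (by decide) hw (by decide +kernel)
  simpa [labA] using this

theorem ev_labD (w : List (Fin 7)) (hw : ∀ x ∈ w, x ≠ 6) :
    ((labD w).map (fG T)).prod = T.lab ccK (wK w) := by
  have := ev_lab T [4, 3, 2, 5, 4, 3] w (by decide) hw (by decide +kernel)
  simpa [labD, ccK] using this

theorem fG_sq (x : Fin 7) : fG T x * fG T x = 1 := by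
  by_cases h : x = 6
  · simp [fG, h, S.g_mul_g]
  · rw [fG, if_neg h, ← map_mul, show sK x * sK x = 1 by revert x; decide +kernel, map_one]

/-- the product of the last letter and the odd word has order three -/
theorem odd_rel : (S.g * T.ψ (wK oddW)) ^ 3 = 1 := by
  have hq : (wK oddW : P9) ∈ Hm := by decide +kernel
  have he : T.ψ (wK oddW) = S.e ⟨_, hq⟩ := T.agree ⟨_, hq⟩ (wK oddW).2
  rw [he, Data.g, ← map_mul, ← map_pow,
    show (τH * (⟨_, hq⟩ : Hm)) ^ 3 = 1 from Subtype.ext (by
      rw [coe_pow, coe_mul, coe_one]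
      exact (by decide +kernel : (τ * (wK oddW : P9)) ^ 3 = 1)), map_one]

/-- the relators hold -/
theorem base_rels (h1 : Commute T.v7 (T.ψ w1K)) :
    ∀ w ∈ baseRels, (w.map (fG T)).prod = 1 := by
  intro w hw
  simp only [baseRels, List.mem_append, List.mem_map, List.mem_singleton, List.mem_cons,
    List.not_mem_nil, or_false] at hw
  rcases hw with ((hw | rfl) | ⟨p, hp, rfl⟩) | rfl | rfl
  · have hall : ∀ w ∈ rK6, (∀ x ∈ w, x ≠ 6) ∧ wK w = 1 := by decide +kernel
    rw [ev_of_lt T w (hall w hw).1, (hall w hw).2, map_one]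
  · simpa using fG_sq T 6
  · have hall : ∀ p ∈ swapped, (∀ x ∈ p.1, x ≠ 6) ∧ (∀ x ∈ p.2, x ≠ 6) ∧
        wK p.2.reverse = (wK p.2)⁻¹ ∧
        (wK p.2 : P9) = ((1 : K) : P9) * τ * (wK p.1 : P9) * τ * ((1 : K) : P9)⁻¹ := by
      decide +kernel
    obtain ⟨a1, a2, a3, a4⟩ := hall p hp
    have hg : S.g * T.ψ (wK p.1) * S.g = T.ψ (wK p.2) := by
      have := T.lab_eq a4
      simpa [Glue.lab] using this
    simp only [List.map_append, List.prod_append, List.map_cons, List.map_nil, List.prod_cons,
      List.prod_nil, mul_one, ev_of_lt T _ a1,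
      ev_of_lt T p.2.reverse (fun x hx => a2 x (List.mem_reverse.1 hx)), a3, map_inv, fG_six, hg,
      mul_inv_cancel]
  · simp only [List.map_append, List.prod_append, List.map_cons, List.map_nil, List.prod_cons,
      List.prod_nil, mul_one, ev_of_lt T oddW (by decide +kernel), fG_six]
    rw [← odd_rel T, pow_succ, pow_two]
  · rw [List.map_append, List.prod_append, List.map_append, List.prod_append,
      ev_labA T [1, 3] (by decide), ev_of_lt T [2, 4] (by decide)]
    have e1 : T.lab cK (wK [1, 3]) = T.v7 := by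
      rw [Glue.v7, show wK [1, 3] = p7K by decide +kernel]
    have e2 : wK [2, 4] = w1K := by decide +kernel
    rw [e1, e2, h1.eq]
    have s1 : T.ψ w1K * T.ψ w1K = 1 := by
      rw [← map_mul, show w1K * w1K = 1 by decide +kernel, map_one]
    have s7 : T.v7 * T.v7 = 1 := by
      rw [Glue.v7, ← labHom_apply, ← map_mul, show p7K * p7K = 1 by decide +kernel, map_one]
    calc _ = T.ψ w1K * (T.v7 * T.v7) * T.ψ w1K * 1 := by
          nth_rewrite 2 [← h1.eq]; group
      _ = 1 := by rw [s7, mul_one, mul_one, s1]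

theorem no_seven_aux (h1 : Commute T.v7 (T.ψ w1K)) : False := by
  classical
  set a := T.v3 with ha
  -- the relations of the four generators
  have la : ∀ (q : K) (k : K), (q : P9) = cK * τ * k * τ * (cK : P9)⁻¹ →
      T.ψ q = labHom T cK k := fun q k h => by rw [labHom_apply, T.lab_eq h]
  have ld : ∀ (q : K) (k : K), (q : P9) = ccK * τ * k * τ * (ccK : P9)⁻¹ →
      T.ψ q = labHom T ccK k := fun q k h => by rw [labHom_apply, T.lab_eq h]
  have ea : a = labHom T cK p3K := by rw [labHom_apply]; rfl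
  have eb := la qb ⟨swap 3 4 * swap 6 7, by decide +kernel⟩ (by decide +kernel)
  have ec := la qc ⟨swap 3 4 * swap 6 8, by decide +kernel⟩ (by decide +kernel)
  have eX := la qX ⟨swap 0 1 * swap 3 4, by decide +kernel⟩ (by decide +kernel)
  have haX : Commute a (T.ψ qX) := by
    rw [ea, eX]
    exact (show Commute p3K _ by
      unfold Commute SemiconjBy; decide +kernel).map (labHom T cK)
  have hbse : T.ψ qb * T.v7 * T.ψ qb = a := by
    rw [ea, eb, Glue.v7, ← labHom_apply, ← map_mul, ← map_mul]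
    exact congrArg _ (by decide +kernel)
  have hbb : T.ψ qb * T.ψ qb = 1 := by
    rw [← map_mul, show qb * qb = 1 by decide +kernel, map_one]
  have hae : Commute a (T.ψ (qX * qe)) := by
    have e : T.ψ (qX * qe) = T.ψ qb * T.ψ w1K * T.ψ qb := by
      rw [← map_mul, ← map_mul]
      exact congrArg T.ψ (by decide +kernel)
    rw [← hbse, e]
    have key : ∀ x y : G, T.ψ qb * x * T.ψ qb * (T.ψ qb * y * T.ψ qb)
        = T.ψ qb * (x * y) * T.ψ qb := fun x y => by
      simp only [mul_assoc]; rw [← mul_assoc (T.ψ qb) (T.ψ qb), hbb, one_mul]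
    show _ = _
    rw [key, key, h1.eq]
  have hae' : Commute a (T.ψ qe) := by
    have : T.ψ qe = (T.ψ qX)⁻¹ * T.ψ (qX * qe) := by rw [map_mul, inv_mul_cancel_left]
    rw [this]
    exact haX.inv_right.mul_right hae
  have haa : a * a = 1 := by
    rw [ea, ← map_mul, show p3K * p3K = 1 by decide +kernel, map_one]
  -- the Coxeter relations
  let f4 : Fin 4 → G := ![a, T.ψ qb, T.ψ qc, T.ψ qe]
  have hd : ∀ w ∈ dRels, (w.map f4).prod = 1 := by
    intro w hw
    simp only [dRels, List.mem_cons, List.not_mem_nil, or_false] at hw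
    rcases hw with rfl | rfl | rfl | rfl | rfl | rfl | rfl | rfl | rfl | rfl
    all_goals simp only [f4, List.map_cons, List.map_nil, List.prod_cons, List.prod_nil, mul_one,
      Matrix.cons_val_zero, Matrix.cons_val_one, Matrix.cons_val, Fin.isValue]
    · exact haa
    · exact hbb
    iterate 2 (rw [← map_mul]; exact (congrArg T.ψ (by decide +kernel)).trans (map_one _))
    · rw [ea, eb, ← map_mul, ← map_mul, ← map_mul, ← map_mul, ← map_mul]
      exact (congrArg _ (by decide +kernel)).trans (map_one _)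
    iterate 2 (rw [← map_mul, ← map_mul, ← map_mul, ← map_mul, ← map_mul]
               exact (congrArg T.ψ (by decide +kernel)).trans (map_one _))
    · rw [ea, ec, ← map_mul, ← map_mul, ← map_mul]
      exact (congrArg _ (by decide +kernel)).trans (map_one _)
    · calc a * (T.ψ qe * (a * T.ψ qe)) = (a * a) * (T.ψ qe * T.ψ qe) := by
            rw [← mul_assoc (T.ψ qe), ← hae'.eq]; group
        _ = 1 := by
            rw [haa, one_mul, ← map_mul, show qe * qe = 1 by decide +kernel, map_one]
    · rw [← map_mul, ← map_mul, ← map_mul]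
      exact (congrArg T.ψ (by decide +kernel)).trans (map_one _)
  obtain ⟨hkk, hkc⟩ := cox_central f4 hd
  set k := (f4 0 * f4 1 * f4 2 * f4 3) ^ 3 with hk
  have hkb : Commute k (T.ψ qb) := hkc 1
  have hkcc : Commute k (T.ψ qc) := hkc 2
  have hkX : Commute k (T.ψ qX) := by
    have c1 : ∀ q : K, qX * q = q * qX → Commute (T.ψ q) (T.ψ qX) := fun q h =>
      (show Commute q qX from h.symm).map T.ψ
    have : ∀ i, Commute (f4 i) (T.ψ qX) := fun i => by
      fin_cases i
      · exact haX
      · exact c1 qb (by decide +kernel)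
      · exact c1 qc (by decide +kernel)
      · exact c1 qe (by decide +kernel)
    exact ((((this 0).mul_left (this 1)).mul_left (this 2)).mul_left (this 3)).pow_left 3
  have hkd : Commute k (labHom T ccK zK) := by
    rw [← ld (qb * qc) zK (by decide +kernel), map_mul]
    exact hkb.mul_right hkcc
  -- back to the normalizer of the first line
  set n := T.ψ ccK * S.g with hn
  set k' := n⁻¹ * k * n with hk'
  have hback : ∀ q : K, Commute k (labHom T ccK q) → Commute k' (T.ψ q) := by
    intro q h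
    have e : labHom T ccK q = n * T.ψ q * n⁻¹ := rfl
    rw [e] at h
    show n⁻¹ * k * n * T.ψ q = T.ψ q * (n⁻¹ * k * n)
    calc n⁻¹ * k * n * T.ψ q = n⁻¹ * (k * (n * T.ψ q * n⁻¹)) * n := by group
      _ = n⁻¹ * ((n * T.ψ q * n⁻¹) * k) * n := by rw [h.eq]
      _ = T.ψ q * (n⁻¹ * k * n) := by group
  have hz : T.ψ zK = S.e zH := T.agree zH zK.2
  obtain ⟨q, hq⟩ : k' ∈ T.ψ.range := by
    rw [T.range_eq]
    refine centralizer_le_normalizer _ (mem_centralizer_iff.2 fun x hx => ?_)
    obtain ⟨i, rfl⟩ := mem_zpowers_iff.1 hx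
    rw [← hz]
    exact ((hback zK hkd).zpow_right i).eq.symm
  have qc' : ∀ r : K, Commute k (labHom T ccK r) → Commute q r := fun r h =>
    T.inj (by rw [map_mul, map_mul, hq]; exact (hback r h).eq)
  have hcand := cand_of_commute (qc' zK hkd)
    (qc' kb (by rw [← ld qb kb (by decide +kernel)]; exact hkb))
    (qc' kc (by rw [← ld qc kc (by decide +kernel)]; exact hkcc))
    (qc' kX (by rw [← ld qX kX (by decide +kernel)]; exact hkX))
  have hkq : k = T.lab ccK q := by
    rw [← labHom_apply]
    show k = n * T.ψ q * n⁻¹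
    rw [hq, hk']; group
  obtain ⟨cw, hcw, hev, hrev⟩ : ∃ cw ∈ candW, (cw.map (fG T)).prod = k ∧
      ((cw.reverse).map (fG T)).prod = k := by
    have lab_one : T.lab ccK 1 = 1 := by rw [← labHom_apply, map_one]
    rcases hcand with rfl | rfl | rfl | rfl
    · exact ⟨[], by simp [candW], by simp [hkq, lab_one], by simp [hkq, lab_one]⟩
    · refine ⟨[2], by simp [candW], ?_, ?_⟩ <;>
      · try simp only [List.reverse_singleton]
        rw [ev_of_lt T [2] (by decide), hkq]
        exact (T.lab_eq (by decide +kernel)).symm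
    · refine ⟨labD [3, 4, 3, 5, 4, 3], by simp [candW], ?_, ?_⟩
      · rw [ev_labD T _ (by decide), hkq]
      · rw [show (labD [3, 4, 3, 5, 4, 3]).reverse = labD [3, 4, 5, 3, 4, 3] from rfl,
          ev_labD T _ (by decide), hkq,
          show wK [3, 4, 5, 3, 4, 3] = wK [3, 4, 3, 5, 4, 3] by decide +kernel]
    · refine ⟨labD [1, 3, 4, 5, 4, 3], by simp [candW], ?_, ?_⟩
      · rw [ev_labD T _ (by decide), hkq]
      · rw [show (labD [1, 3, 4, 5, 4, 3]).reverse = labD [3, 4, 5, 4, 3, 1] from rfl,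
          ev_labD T _ (by decide), hkq,
          show wK [3, 4, 5, 4, 3, 1] = wK [1, 3, 4, 5, 4, 3] by decide +kernel]
  have hcox : (coxW.map (fG T)).prod = f4 0 * f4 1 * f4 2 * f4 3 := by
    rw [coxW, List.map_append, List.prod_append, List.map_append, List.prod_append,
      List.map_append, List.prod_append, ev_labA T [1, 3, 4, 3] (by decide),
      ev_of_lt T [0, 2, 4, 3, 2, 0, 4] (by decide), ev_of_lt T [5] (by decide),
      ev_of_lt T [0, 3, 2, 0, 3] (by decide),
      show wK [1, 3, 4, 3] = p3K by decide +kernel]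
    rfl
  have hall : ∀ w ∈ allRels cw, (w.map (fG T)).prod = 1 := by
    intro w hw
    rcases List.mem_append.1 hw with hw | hw
    · exact base_rels T h1 w hw
    · rw [List.mem_singleton.1 hw, List.map_append, List.prod_append, List.map_append,
        List.prod_append, List.map_append, List.prod_append, hrev, hcox]
      rw [show ∀ x : G, x * x * x = x ^ 3 from fun x => by rw [pow_succ, pow_two]]
      exact hkk
  have hmem := collapse (fG_sq T) hcw hall
  have hle : wordsGroup [[0], [1], [2], [3], [4], [5]] (fG T) ≤ T.ψ.range := by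
    rw [wordsGroup, Subgroup.closure_le]
    rintro _ ⟨w, hw, rfl⟩
    have : ∀ w ∈ ([[0], [1], [2], [3], [4], [5]] : List (List (Fin 7))), ∀ x ∈ w, x ≠ 6 := by
      decide
    exact ⟨_, (ev_of_lt T w (this w hw)).symm⟩
  have hnorm := hle hmem
  rw [fG_six, T.range_eq] at hnorm
  have hin := ((mem_normalizer_iff.1 hnorm (S.e zH)).1 (mem_zpowers _))
  obtain ⟨i, hi⟩ := mem_zpowers_iff.1 hin
  rw [Data.g, ← map_inv, ← map_mul, ← map_mul, ← map_zpow] at hi
  have := congrArg (fun h : Hm => (h : P9) 3) (S.inj hi)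
  simp only [coe_zpow, coe_mul, coe_inv] at this
  rw [Perm.zpow_apply_eq_self_of_apply_eq_self (by decide +kernel)] at this
  revert this
  decide +kernel

/-- the configuration of the symplectic group does not occur -/
theorem _root_.CfsgLib.ANineThree.no_seven : StmtNoSeven.{u} := by
  intro G _ _ S T _ h7
  refine no_seven_aux T ?_
  have := mem_centralizer_iff.1 h7 (T.ψ w1K) (by simp)
  exact this.symm

end CfsgLib.ANineThree.NoSeven
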