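import Cfsg.Agent.Lib.ANineThree.Basic

/-!
Permutation facts for the proof that the centralizer of the four-group is not small.
-/

set_option autoImplicit false
set_option maxRecDepth 100000

namespace CfsgLib.ANineThree.NoSmall

open Equiv

attribute [local instance 2000] List.decidableBAll List.decidableBEx

/-- the permutations of the first block -/
def sA : List P9 := [1, swap 0 1, swap 1 2, swap 0 2, z, z⁻¹]
/-- the permutations of `{4, 5, 6, 7}` -/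
def sB : List P9 := [1, w1, w2, w1 * w2].flatMap fun u =>
  [1, swap 4 5, swap 5 6, swap 4 6, swap 4 5 * swap 5 6, swap 5 6 * swap 4 5].map fun s => u * s
/-- the permutations of `{3, 8}` -/
def sC : List P9 := [1, swap 3 8]

/-- `(0 1)(4 5)` -/
def X9 : P9 := swap 0 1 * swap 4 5
/-- the dihedral group -/
def dList : List P9 := [1, w1, w2, w1 * w2, X9, X9 * w1, X9 * w2, X9 * (w1 * w2)]
/-- the Sylow two-subgroup -/
def pList : List P9 := dList ++ dList.map fun d => r * d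
/-- its involutions with four transpositions -/
def uList : List P9 := [r * w1, r * w2, r * (w1 * w2)]
/-- the involutions of the four-group -/
def vList : List P9 := [w1, w2, w1 * w2]
/-- `(1 2)(3 6)(4 7)(5 8)` -/
def q0 : P9 := swap 1 2 * swap 3 6 * swap 4 7 * swap 5 8

theorem pList_mul : ∀ a ∈ pList, ∀ b ∈ pList, a * b ∈ pList := by decide +kernel
theorem pList_inv : ∀ a ∈ pList, a⁻¹ ∈ pList := by decide +kernel
theorem dList_mul : ∀ a ∈ dList, ∀ b ∈ dList, a * b ∈ dList := by decide +kernel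
theorem dList_inv : ∀ a ∈ dList, a⁻¹ ∈ dList := by decide +kernel
theorem dList_sub : ∀ a ∈ dList, a ∈ pList := by decide +kernel
theorem pList_K : ∀ a ∈ pList, a ∈ K := by decide +kernel
theorem list_counts : pList.Nodup ∧ pList.length = 16 ∧ dList.Nodup ∧ dList.length = 8 := by
  decide +kernel
theorem pList_pow : ∀ a ∈ pList, a ^ 4 = 1 := by decide +kernel
theorem uList_ne : ∀ a ∈ uList, a * a = 1 ∧ a ≠ 1 ∧ a ∈ pList ∧ a ∉ dList := by decide +kernel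
theorem vList_eq : ∀ w ∈ vList, ∃ a ∈ uList, ∃ b ∈ uList, w = a * b := by decide +kernel
theorem uList_mul : ∀ a ∈ uList, ∀ b ∈ uList, a * b ∈ vList ∨ a * b = 1 := by decide +kernel

/-- conjugators inside the normalizer of the first line -/
def conjs : List P9 :=
  [1, swap 5 7 * swap 7 6, swap 5 6 * swap 6 7, z, swap 0 2 * (swap 4 6 * swap 6 5 * swap 5 7),
   swap 0 2 * (swap 3 4 * swap 4 8 * swap 8 5), z * (swap 4 8 * swap 8 6),
   z * (swap 6 7 * swap 7 8), swap 0 2 * swap 6 8, swap 3 6 * swap 7 8, swap 3 4 * swap 5 8,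
   swap 6 8 * swap 8 7]

theorem conjs_K : ∀ c ∈ conjs, c ∈ K := by decide +kernel

theorem classify : ∀ a ∈ pList, a * a = 1 → a ≠ 1 →
    (a ∈ uList ∧ ∃ c ∈ conjs, c * a * c⁻¹ = q0) ∨
      (a ∉ uList ∧ ∃ c ∈ conjs, c * a * c⁻¹ = w1 ∨ c * a * c⁻¹ = ANineThree.t) := by
  decide +kernel

theorem dList_u : ∀ a ∈ dList, a ∉ uList := by decide +kernel

theorem t_conj : p * ANineThree.t * p⁻¹ ∈ K ∧ ∃ c ∈ conjs,
    c * (p * ANineThree.t * p⁻¹) * c⁻¹ = w1 := by decide +kernel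

/-- `(0 8 2 6)(1 7)` -/
def h0 : P9 := swap 0 8 * swap 8 2 * swap 2 6 * swap 1 7

theorem hm_facts : h0 ∈ Hm ∧ q0 ∈ Hm ∧ q0 ∈ K ∧ h0 * q0 * h0⁻¹ = τ ∧ ANineThree.t ∈ K ∧
    τ * y = y * τ := by decide +kernel

theorem w1_prod : (swap 5 6 * swap 6 7) * (swap 4 7 * swap 7 5) = w1 ∧
    swap 5 6 * swap 6 7 ∈ K ∧ swap 4 7 * swap 7 5 ∈ K ∧
    (swap 5 6 * swap 6 7 : P9) ^ 3 = 1 ∧ (swap 4 7 * swap 7 5 : P9) ^ 3 = 1 := by decide +kernel

theorem z_facts : z * w1 = w1 * z ∧ z * w2 = w2 * z ∧ z ^ 3 = 1 ∧ z ≠ 1 := by decide +kernel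

theorem pA_cover : ∀ a ∈ [(0 : Fin 9), 1, 2], ∀ b ∈ [(0 : Fin 9), 1, 2],
    ∀ c ∈ [(0 : Fin 9), 1, 2], a ≠ b → a ≠ c → b ≠ c →
      ∃ π ∈ sA, π 0 = a ∧ π 1 = b ∧ π 2 = c := by decide +kernel

theorem pB_cover : ∀ a ∈ [(4 : Fin 9), 5, 6, 7], ∀ b ∈ [(4 : Fin 9), 5, 6, 7],
    ∀ c ∈ [(4 : Fin 9), 5, 6, 7], ∀ d ∈ [(4 : Fin 9), 5, 6, 7],
      a ≠ b → a ≠ c → a ≠ d → b ≠ c → b ≠ d → c ≠ d →
      ∃ π ∈ sB, π 4 = a ∧ π 5 = b ∧ π 6 = c ∧ π 7 = d := by decide +kernel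

theorem pC_cover : ∀ a ∈ [(3 : Fin 9), 8], ∀ b ∈ [(3 : Fin 9), 8], a ≠ b →
    ∃ π ∈ sC, π 3 = a ∧ π 8 = b := by decide +kernel

/-- the permutations preserving the three sets -/
def sN : List P9 :=
  sA.flatMap fun π1 => sB.flatMap fun π2 => sC.map fun π3 => π1 * π2 * π3

theorem prod_val : ∀ π1 ∈ sA, ∀ π2 ∈ sB, ∀ π3 ∈ sC,
    (π1 * π2 * π3) 0 = π1 0 ∧ (π1 * π2 * π3) 1 = π1 1 ∧ (π1 * π2 * π3) 2 = π1 2 ∧
    (π1 * π2 * π3) 3 = π3 3 ∧ (π1 * π2 * π3) 8 = π3 8 ∧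
    (π1 * π2 * π3) 4 = π2 4 ∧ (π1 * π2 * π3) 5 = π2 5 ∧ (π1 * π2 * π3) 6 = π2 6 ∧
    (π1 * π2 * π3) 7 = π2 7 := by decide +kernel

theorem mem_sN {σ : P9} (h1 : ∀ i : Fin 9, (σ i).1 < 3 ↔ i.1 < 3)
    (h2 : ∀ i : Fin 9, (4 ≤ (σ i).1 ∧ (σ i).1 ≤ 7) ↔ (4 ≤ i.1 ∧ i.1 ≤ 7)) : σ ∈ sN := by
  have key : ∀ j : Fin 9, (j.1 < 3 → j ∈ [(0 : Fin 9), 1, 2]) ∧
      ((4 ≤ j.1 ∧ j.1 ≤ 7) → j ∈ [(4 : Fin 9), 5, 6, 7]) ∧
      (¬ j.1 < 3 → ¬ (4 ≤ j.1 ∧ j.1 ≤ 7) → j ∈ [(3 : Fin 9), 8]) := by decide +kernel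
  have low : ∀ i : Fin 9, i.1 < 3 → σ i ∈ [(0 : Fin 9), 1, 2] := fun i hi =>
    (key _).1 ((h1 i).2 hi)
  have mid : ∀ i : Fin 9, 4 ≤ i.1 ∧ i.1 ≤ 7 → σ i ∈ [(4 : Fin 9), 5, 6, 7] := fun i hi =>
    (key _).2.1 ((h2 i).2 hi)
  have out : ∀ i : Fin 9, ¬ i.1 < 3 → ¬ (4 ≤ i.1 ∧ i.1 ≤ 7) → σ i ∈ [(3 : Fin 9), 8] :=
    fun i hi hj => (key _).2.2 (fun h => hi ((h1 i).1 h)) (fun h => hj ((h2 i).1 h))
  have ne : ∀ i j : Fin 9, i ≠ j → σ i ≠ σ j := fun i j h e => h (σ.injective e)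
  obtain ⟨π1, m1, a0, a1, a2⟩ := pA_cover _ (low 0 (by decide)) _ (low 1 (by decide)) _
    (low 2 (by decide)) (ne _ _ (by decide)) (ne _ _ (by decide)) (ne _ _ (by decide))
  obtain ⟨π2, m2, b4, b5, b6, b7⟩ := pB_cover _ (mid 4 (by decide)) _ (mid 5 (by decide)) _
    (mid 6 (by decide)) _ (mid 7 (by decide)) (ne _ _ (by decide)) (ne _ _ (by decide))
    (ne _ _ (by decide)) (ne _ _ (by decide)) (ne _ _ (by decide)) (ne _ _ (by decide))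
  obtain ⟨π3, m3, c3, c8⟩ := pC_cover _ (out 3 (by decide) (by decide)) _
    (out 8 (by decide) (by decide)) (ne _ _ (by decide))
  obtain ⟨e0, e1, e2, e3, e8, e4, e5, e6, e7⟩ := prod_val π1 m1 π2 m2 π3 m3
  have hall : ∀ i : Fin 9, i ∈ [(0 : Fin 9), 1, 2, 3, 4, 5, 6, 7, 8] := by decide
  have hσ : σ = π1 * π2 * π3 := by
    refine Equiv.ext fun i => ?_
    have := hall i
    simp only [List.mem_cons, List.not_mem_nil, or_false] at this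
    rcases this with rfl | rfl | rfl | rfl | rfl | rfl | rfl | rfl | rfl
    · exact (e0.trans a0).symm
    · exact (e1.trans a1).symm
    · exact (e2.trans a2).symm
    · exact (e3.trans c3).symm
    · exact (e4.trans b4).symm
    · exact (e5.trans b5).symm
    · exact (e6.trans b6).symm
    · exact (e7.trans b7).symm
    · exact (e8.trans c8).symm
  rw [hσ]
  simp only [sN, List.mem_flatMap, List.mem_map]
  exact ⟨π1, m1, π2, m2, π3, m3, rfl⟩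

theorem sN_pow : ∀ π ∈ sN, π ^ 12 = 1 := by decide +kernel

theorem sN_cube : ∀ π ∈ sN, π ^ 3 = 1 → π * w1 = w1 * π → π * z = z * π →
    π = 1 ∨ π = z ∨ π = z⁻¹ := by decide +kernel

theorem sN_cent : ∀ π ∈ sN, π ^ 3 = 1 → π * w1 = w1 * π → π * w2 = w2 * π →
    π = 1 ∨ π = z ∨ π = z⁻¹ := by decide +kernel

theorem sN_norm : ∀ π ∈ sN, Perm.sign π = 1 → π ^ 4 = 1 →
    (∀ g ∈ [r, w2, X9], π * g * π⁻¹ ∈ pList) → π ∈ pList := by decide +kernel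

theorem mem_supp : ∀ w ∈ vList, ∀ i : Fin 9, w i ≠ i ↔ (4 ≤ i.1 ∧ i.1 ≤ 7) := by decide +kernel

end CfsgLib.ANineThree.NoSmall
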