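import Cfsg.Agent.Lib.ANineThree.Interface
import Cfsg.Agent.Lib.ANineThree.NoSmallData
import Cfsg.Agent.Lib.Transfer.ThompsonTransfer

/-!
The centralizer of the four-group is not small: otherwise the group has Sylow two-subgroups of
order sixteen and a subgroup of index two avoiding an element which it must contain.
-/

set_option autoImplicit false
set_option linter.style.haveILetI false
set_option maxRecDepth 100000
set_option maxHeartbeats 1000000
set_option linter.unusedSectionVars false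

namespace CfsgLib.ANineThree.NoSmall

open Equiv Subgroup

attribute [local instance 2000] List.decidableBAll List.decidableBEx

universe u

/-- a subgroup of `K` given by a list -/
def listSub (l : List P9) (h1 : (1 : P9) ∈ l) (hm : ∀ a ∈ l, ∀ b ∈ l, a * b ∈ l)
    (hi : ∀ a ∈ l, a⁻¹ ∈ l) : Subgroup K where
  carrier := {k | (k : P9) ∈ l}
  one_mem' := h1
  mul_mem' := fun {_ _} ha hb => hm _ ha _ hb
  inv_mem' := fun {_} ha => hi _ ha

/-- the Sylow two-subgroup of `K` -/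
def Pk : Subgroup K := listSub pList (by decide +kernel) pList_mul pList_inv

/-- its maximal subgroup -/
def Dk : Subgroup K := listSub dList (by decide +kernel) dList_mul dList_inv

theorem mem_Pk {k : K} : k ∈ Pk ↔ (k : P9) ∈ pList := Iff.rfl

theorem mem_Dk {k : K} : k ∈ Dk ↔ (k : P9) ∈ dList := Iff.rfl

theorem card_listSub (l : List P9) (h1 : (1 : P9) ∈ l) (hm : ∀ a ∈ l, ∀ b ∈ l, a * b ∈ l)
    (hi : ∀ a ∈ l, a⁻¹ ∈ l) (hK : ∀ a ∈ l, a ∈ K) (hn : l.Nodup) :
    Nat.card (listSub l h1 hm hi) = l.length := by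
  classical
  let e : listSub l h1 hm hi ≃ {a : P9 // a ∈ l.toFinset} :=
    { toFun := fun k => ⟨((k : K) : P9), List.mem_toFinset.2 k.2⟩
      invFun := fun a => ⟨⟨a.1, hK _ (List.mem_toFinset.1 a.2)⟩, List.mem_toFinset.1 a.2⟩
      left_inv := fun _ => rfl
      right_inv := fun _ => rfl }
  rw [Nat.card_congr e, Nat.card_eq_fintype_card, Fintype.card_coe,
    List.toFinset_card_of_nodup hn]

theorem sN_of_comm {σ : P9} (hK : σ ∈ K) {w : P9} (hw : w ∈ vList) (h : σ * w * σ⁻¹ ∈ vList) :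
    σ ∈ sN := by
  refine mem_sN (mem_K.1 hK).2 fun i => ?_
  rw [← mem_supp w hw i, ← mem_supp _ h (σ i)]
  simp [Perm.mul_apply]

variable {G : Type u} [Group G] [Finite G] {S : Data G} (T : Glue S)

theorem conj_of_K {a b c : P9} (ha : a ∈ K) (hb : b ∈ K) (hc : c ∈ K) (h : c * a * c⁻¹ = b) :
    IsConj (T.ψ ⟨a, ha⟩) (T.ψ ⟨b, hb⟩) := by
  refine isConj_iff.2 ⟨T.ψ ⟨c, hc⟩, ?_⟩
  rw [← map_inv, ← map_mul, ← map_mul]
  exact congrArg T.ψ (Subtype.ext h)

theorem conj_of_Hm {a b c : P9} (ha : a ∈ Hm) (hb : b ∈ Hm) (hc : c ∈ Hm)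
    (h : c * a * c⁻¹ = b) : IsConj (S.e ⟨a, ha⟩) (S.e ⟨b, hb⟩) := by
  refine isConj_iff.2 ⟨S.e ⟨c, hc⟩, ?_⟩
  rw [← map_inv, ← map_mul, ← map_mul]
  exact congrArg S.e (Subtype.ext h)

/-- the inner double transposition -/
abbrev i0 : G := T.ψ w1K

theorem t_conj_i0 : IsConj (T.ψ ⟨ANineThree.t, hm_facts.2.2.2.2.1⟩) (i0 T) := by
  obtain ⟨hv, c, hc, h⟩ := t_conj
  have hH : p * ANineThree.t * p⁻¹ ∈ Hm :=
    Hm.mul_mem (Hm.mul_mem pH.2 tH.2) (Hm.inv_mem pH.2)
  have h1 := conj_of_Hm (S := S) tH.2 hH pH.2 rfl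
  rw [← T.agree ⟨_, tH.2⟩ hm_facts.2.2.2.2.1, ← T.agree ⟨_, hH⟩ hv] at h1
  exact h1.trans (conj_of_K T hv w1K.2 (conjs_K c hc) h)

theorem classify_G {a : P9} (ha : a ∈ pList) (h2 : a * a = 1) (hne : a ≠ 1) :
    (a ∈ uList ∧ IsConj (T.ψ ⟨a, pList_K a ha⟩) (S.e τH)) ∨
      (a ∉ uList ∧ IsConj (T.ψ ⟨a, pList_K a ha⟩) (i0 T)) := by
  rcases classify a ha h2 hne with ⟨hu, c, hc, h⟩ | ⟨hu, c, hc, h | h⟩
  · refine Or.inl ⟨hu, (conj_of_K T (pList_K a ha) hm_facts.2.2.1 (conjs_K c hc) h).trans ?_⟩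
    rw [T.agree ⟨_, hm_facts.2.1⟩ hm_facts.2.2.1]
    exact conj_of_Hm hm_facts.2.1 τH.2 hm_facts.1 hm_facts.2.2.2.1
  · exact Or.inr ⟨hu, conj_of_K T (pList_K a ha) w1K.2 (conjs_K c hc) h⟩
  · exact Or.inr ⟨hu, (conj_of_K T (pList_K a ha) hm_facts.2.2.2.2.1 (conjs_K c hc) h).trans
      (t_conj_i0 T)⟩

theorem zK_agree : T.ψ zK = S.e zH := T.agree zH zK.2

theorem range_of_cent {n : G} (h : n * S.e zH = S.e zH * n) : n ∈ T.ψ.range := by
  rw [T.range_eq, Subgroup.mem_normalizer_iff]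
  have hc : MulAut.conj n (S.e zH) = S.e zH := by
    rw [MulAut.conj_apply, h, mul_inv_cancel_right]
  intro x
  constructor
  · rintro ⟨k, rfl⟩
    refine ⟨k, ?_⟩
    show S.e zH ^ k = MulAut.conj n (S.e zH ^ k)
    rw [map_zpow, hc]
  · rintro ⟨k, hk⟩
    refine ⟨k, (MulAut.conj n).injective ?_⟩
    show MulAut.conj n (S.e zH ^ k) = MulAut.conj n x
    rw [map_zpow, hc]; exact hk

/-- the three-elements centralizing `i0` are conjugate to a generator of the first line -/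
theorem three_cent {v : G} (hv : v * i0 T = i0 T * v) (h3 : v ^ 3 = 1) (hne : v ≠ 1) :
    IsConj v (S.e zH) ∨ IsConj v (S.e zH)⁻¹ := by
  classical
  haveI : Fact (Nat.Prime 3) := ⟨Nat.prime_three⟩
  let C : Subgroup G := centralizer ({i0 T} : Set G)
  have hzC : S.e zH ∈ C := by
    rw [Subgroup.mem_centralizer_singleton_iff, ← zK_agree T, i0, ← map_mul, ← map_mul]
    exact congrArg T.ψ (Subtype.ext z_facts.1)
  let zc : C := ⟨S.e zH, hzC⟩
  have hz3 : zc ^ 3 = 1 := Subtype.ext (by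
    show S.e zH ^ 3 = 1
    rw [← map_pow, show zH ^ 3 = 1 from Subtype.ext z_facts.2.2.1, map_one])
  have hzne : zc ≠ 1 := fun h => z_facts.2.2.2 (by
    have h' : S.e zH = S.e 1 := by rw [map_one]; exact congrArg Subtype.val h
    exact congrArg Subtype.val (S.inj h'))
  have ho : orderOf zc = 3 := orderOf_eq_prime hz3 hzne
  have hZ : IsPGroup 3 (Subgroup.zpowers zc) :=
    IsPGroup.of_card (n := 1) (by rw [Nat.card_zpowers, ho, pow_one])
  obtain ⟨Q, hQ⟩ := hZ.exists_le_sylow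
  have hQZ : (Q : Subgroup C) ≤ Subgroup.zpowers zc := by
    by_contra hnot
    haveI := Q.2.isNilpotent
    have hlt : (Subgroup.zpowers zc).subgroupOf Q < ⊤ := lt_top_iff_ne_top.2 fun h =>
      hnot (Subgroup.subgroupOf_eq_top.1 h)
    obtain ⟨n, hn, hn'⟩ := SetLike.exists_of_lt
      (Group.normalizerCondition_of_isNilpotent (G := (Q : Subgroup C)) _ hlt)
    obtain ⟨j, hj⟩ := IsPGroup.iff_orderOf.1 Q.2 n
    have hzq : zc ∈ (Q : Subgroup C) := hQ (Subgroup.mem_zpowers zc)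
    have hcz : (n : C) * zc * (n : C)⁻¹ ∈ Subgroup.zpowers zc := by
      have h := (Subgroup.mem_normalizer_iff.1 hn ⟨zc, hzq⟩).1 (Subgroup.mem_zpowers zc)
      simpa [Subgroup.mem_subgroupOf] using h
    -- conjugation by a three-element fixes `zc`
    have hfix : (n : C) * zc * (n : C)⁻¹ = zc := by
      obtain ⟨i, hi⟩ := mem_powers_iff_mem_zpowers.2 hcz
      have hi' : zc ^ (i % 3) = (n : C) * zc * (n : C)⁻¹ := by
        rw [← pow_eq_pow_mod i hz3]; exact hi
      have hlt : i % 3 < 3 := Nat.mod_lt _ (by omega)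
      interval_cases h : i % 3
      · rw [pow_zero] at hi'
        exact absurd (conj_eq_one_iff.1 hi'.symm) hzne
      · rw [← hi', pow_one]
      · exfalso
        have step : ∀ m : ℕ, (n : C) ^ m * zc * ((n : C) ^ m)⁻¹ = zc ^ (2 ^ m) := by
          intro m
          induction m with
          | zero => simp
          | succ m ih =>
            calc (n : C) ^ (m + 1) * zc * ((n : C) ^ (m + 1))⁻¹
                = (n : C) * ((n : C) ^ m * zc * ((n : C) ^ m)⁻¹) * (n : C)⁻¹ := by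
                  rw [pow_succ']; group
              _ = ((n : C) * zc * (n : C)⁻¹) ^ (2 ^ m) := by rw [ih, conj_pow]
              _ = zc ^ (2 ^ (m + 1)) := by rw [← hi', ← pow_mul, pow_succ']
        have h1 := step (3 ^ j)
        have hn1 : (n : C) ^ (3 ^ j) = 1 := by
          rw [← hj, ← Subgroup.orderOf_coe]; exact pow_orderOf_eq_one _
        rw [hn1, one_mul, inv_one, mul_one] at h1
        have h2 : (2 : ℕ) ^ (3 ^ j) % 3 = 2 := by
          obtain ⟨m, hm⟩ : ∃ m, 3 ^ j = 2 * m + 1 :=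
            ⟨3 ^ j / 2, by have := Nat.odd_iff.1 ((by decide : Odd 3).pow (n := j)); omega⟩
          rw [hm, pow_succ, pow_mul, Nat.mul_mod, Nat.pow_mod]; simp
        rw [pow_eq_pow_mod _ hz3, h2, pow_two] at h1
        exact hzne (mul_left_cancel (a := zc) (by rw [mul_one]; exact h1.symm))
    have hcomm : ((n : C) : G) * S.e zH = S.e zH * ((n : C) : G) :=
      congrArg Subtype.val (mul_inv_eq_iff_eq_mul.1 hfix)
    obtain ⟨k, hk⟩ := range_of_cent T hcomm
    have hkz : (k : P9) * z = z * k :=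
      congrArg Subtype.val (T.inj (by rw [map_mul, map_mul, hk, zK_agree T]; exact hcomm) :
        k * zK = zK * k)
    have hkw : (k : P9) * w1 = w1 * k := by
      refine congrArg Subtype.val (T.inj ?_ : k * w1K = w1K * k)
      rw [map_mul, map_mul, hk]
      exact Subgroup.mem_centralizer_singleton_iff.1 (n : C).2
    have hkN : (k : P9) ∈ sN := sN_of_comm k.2 (w := w1) (by decide +kernel)
      (by rw [hkw, mul_inv_cancel_right]; decide +kernel)
    have hk3 : (k : P9) ^ 3 = 1 := by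
      have e1 : k ^ (3 ^ j) = 1 := T.inj (by
        rw [map_pow, map_one, hk, ← Subgroup.coe_pow, ← hj, ← Subgroup.orderOf_coe,
          pow_orderOf_eq_one, Subgroup.coe_one])
      have e2 : (k : P9) ^ (3 ^ j) = 1 := congrArg Subtype.val e1
      have hd := Nat.dvd_gcd (orderOf_dvd_of_pow_eq_one e2)
        (orderOf_dvd_of_pow_eq_one (sN_pow _ hkN))
      refine orderOf_dvd_iff_pow_eq_one.1 (hd.trans ?_)
      rcases j with _ | j
      · simp
      · rw [pow_succ', show (12 : ℕ) = 3 * 4 from rfl, Nat.gcd_mul_left]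
        have : Nat.Coprime (3 ^ j) 4 := Nat.Coprime.pow_left _ (by norm_num)
        rw [this.gcd_eq_one, mul_one]
    have hin : n ∈ (Subgroup.zpowers zc).subgroupOf Q := by
      rw [Subgroup.mem_subgroupOf]
      rcases sN_cube _ hkN hk3 hkw hkz with h | h | h
      · have : (n : C) = 1 := Subtype.ext (by
          rw [← hk, show k = 1 from Subtype.ext h, map_one]; rfl)
        rw [this]; exact one_mem _
      · have : (n : C) = zc := Subtype.ext (by
          rw [← hk, show k = zK from Subtype.ext h]; exact zK_agree T)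
        rw [this]; exact Subgroup.mem_zpowers _
      · have : (n : C) = zc⁻¹ := Subtype.ext (by
          rw [← hk, show k = zK⁻¹ from Subtype.ext h, map_inv, zK_agree T]; rfl)
        rw [this]; exact inv_mem (Subgroup.mem_zpowers _)
    exact hn' hin
  let vc : C := ⟨v, Subgroup.mem_centralizer_singleton_iff.2 hv⟩
  have hv3 : vc ^ 3 = 1 := Subtype.ext h3
  have hvne : vc ≠ 1 := fun h => hne (congrArg Subtype.val h)
  obtain ⟨R, hR⟩ := (IsPGroup.of_card (p := 3) (G := Subgroup.zpowers vc) (n := 1)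
    (by rw [Nat.card_zpowers, orderOf_eq_prime hv3 hvne, pow_one])).exists_le_sylow
  obtain ⟨c, rfl⟩ := MulAction.exists_smul_eq C R Q
  have hm : c * vc * c⁻¹ ∈ Subgroup.zpowers zc := hQZ (by
    rw [Sylow.coe_subgroup_smul]
    exact Subgroup.smul_mem_pointwise_smul _ (MulAut.conj c) _ (hR (Subgroup.mem_zpowers vc)))
  obtain ⟨i, hi⟩ := mem_powers_iff_mem_zpowers.2 hm
  have hi' : zc ^ (i % 3) = c * vc * c⁻¹ := by rw [← pow_eq_pow_mod i hz3]; exact hi
  have hlt : i % 3 < 3 := Nat.mod_lt _ (by omega)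
  interval_cases h : i % 3
  · rw [pow_zero] at hi'
    exact absurd (conj_eq_one_iff.1 hi'.symm) hvne
  · exact Or.inl (isConj_iff.2 ⟨c, by
      rw [pow_one] at hi'; exact (congrArg Subtype.val hi').symm⟩)
  · refine Or.inr (isConj_iff.2 ⟨c, ?_⟩)
    have e1 : (zc : C)⁻¹ = zc ^ 2 := by
      rw [inv_eq_iff_mul_eq_one, ← pow_succ']; exact hz3
    rw [← e1] at hi'
    exact (congrArg Subtype.val hi').symm

theorem not_conj_τ (L : Local S) : ¬ IsConj (S.e τH) (i0 T) := by
  intro h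
  obtain ⟨g, hg⟩ := isConj_iff.1 h
  have hty : τH * yH = yH * τH := Subtype.ext hm_facts.2.2.2.2.2
  have h3 : S.e yH ^ 3 = 1 := by
    rw [← map_pow, show yH ^ 3 = 1 from Subtype.ext (by show y ^ 3 = 1; decide +kernel), map_one]
  have hne : S.e yH ≠ 1 := fun h => (by decide +kernel : y ≠ 1)
    (congrArg Subtype.val (S.inj (h.trans (map_one _).symm)))
  have hy : InJ yH := by decide +kernel
  have hz : InJ zH := by decide +kernel
  have hz' : InJ zH⁻¹ := by decide +kernel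
  have hc : IsConj (S.e yH) (g * S.e yH * g⁻¹) := isConj_iff.2 ⟨g, rfl⟩
  have hv : g * S.e yH * g⁻¹ * i0 T = i0 T * (g * S.e yH * g⁻¹) := by
    have e : S.e yH * S.e τH = S.e τH * S.e yH := by rw [← map_mul, ← map_mul, hty]
    rw [← hg]
    calc g * S.e yH * g⁻¹ * (g * S.e τH * g⁻¹) = g * (S.e yH * S.e τH) * g⁻¹ := by group
      _ = g * (S.e τH * S.e yH) * g⁻¹ := by rw [e]
      _ = g * S.e τH * g⁻¹ * (g * S.e yH * g⁻¹) := by group
  have hmov : ∀ {b : Hm}, IsConj yH b → (b : P9).support.card = 6 := by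
    intro b hb
    obtain ⟨c, hc⟩ := isConj_iff.1 hb
    have e : (b : P9) = (c : P9) * y * (c : P9)⁻¹ := by rw [← hc]; rfl
    rw [e, Perm.card_support_conj]
    decide +kernel
  rcases three_cent T hv (by rw [conj_pow, h3]; group)
      (fun hx => hne (conj_eq_one_iff.1 hx)) with h1 | h1
  · have := hmov (L.fusion yH zH hy hz (hc.trans h1))
    revert this; decide +kernel
  · rw [← map_inv] at h1
    have := hmov (L.fusion yH zH⁻¹ hy hz' (hc.trans h1))
    revert this; decide +kernel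

theorem conj_i0_of_P (L : Local S) {a : P9} (ha : a ∈ pList) (h2 : a * a = 1) (hne : a ≠ 1) :
    a ∈ uList ↔ ¬ IsConj (T.ψ ⟨a, pList_K a ha⟩) (i0 T) := by
  rcases classify_G T ha h2 hne with ⟨hu, hc⟩ | ⟨hu, hc⟩
  · exact ⟨fun _ h => not_conj_τ T L (hc.symm.trans h), fun _ => hu⟩
  · exact ⟨fun h => absurd h hu, fun h => absurd hc h⟩

/-- the image of the Sylow subgroup -/
abbrev PG : Subgroup G := Pk.map T.ψ

theorem mem_range_of_norm (L : Local S) (hle : T.L ≤ T.ψ.range) {g : G}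
    (hg : ∀ x : G, x ∈ PG T ↔ g * x * g⁻¹ ∈ PG T) :
    g ∈ T.ψ.range := by
  have hv : ∀ {h : G}, (∀ x ∈ PG T, h * x * h⁻¹ ∈ PG T) → ∀ w (hw : w ∈ vList) (hK : w ∈ K),
      ∃ u ∈ vList, ∃ hu : u ∈ K, h * T.ψ ⟨w, hK⟩ * h⁻¹ = T.ψ ⟨u, hu⟩ := by
    intro h hh w hw hK
    have mapU : ∀ a ∈ uList, ∃ b ∈ uList, ∃ (ha : a ∈ K) (hb : b ∈ K),
        h * T.ψ ⟨a, ha⟩ * h⁻¹ = T.ψ ⟨b, hb⟩ := by
      intro a ha
      obtain ⟨h2, hne, hP, -⟩ := uList_ne a ha
      obtain ⟨k, hk, hk'⟩ := Subgroup.mem_map.1 (hh _ (Subgroup.mem_map_of_mem T.ψ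
        (show (⟨a, pList_K a hP⟩ : K) ∈ Pk from hP)))
      have hk2 : k * k = 1 := T.inj (by
        rw [map_mul, map_one, hk',
          show h * T.ψ ⟨a, _⟩ * h⁻¹ * (h * T.ψ ⟨a, _⟩ * h⁻¹) =
            h * (T.ψ ⟨a, pList_K a hP⟩ * T.ψ ⟨a, pList_K a hP⟩) * h⁻¹ by group, ← map_mul,
          show (⟨a, pList_K a hP⟩ : K) * ⟨a, pList_K a hP⟩ = 1 from Subtype.ext h2, map_one]
        group)
      have hk1 : k ≠ 1 := by
        rintro rfl
        rw [map_one] at hk'
        have := conj_eq_one_iff.1 hk'.symm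
        exact hne (congrArg Subtype.val (T.inj (this.trans (map_one _).symm)))
      refine ⟨k, ?_, pList_K a hP, k.2, hk'.symm⟩
      rw [conj_i0_of_P T L hk (congrArg Subtype.val hk2) (fun e => hk1 (Subtype.ext e))]
      intro hc
      refine (conj_i0_of_P T L hP h2 hne).1 ha ((isConj_iff.2 ⟨h, ?_⟩).trans hc)
      rw [← hk']
    obtain ⟨a, ha, b, hb, e⟩ := vList_eq w hw
    obtain ⟨a', ha', haK, haK', ea⟩ := mapU a ha
    obtain ⟨b', hb', hbK, hbK', eb⟩ := mapU b hb
    have e1 : h * T.ψ ⟨w, hK⟩ * h⁻¹ = T.ψ (⟨a', haK'⟩ * ⟨b', hbK'⟩) := by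
      rw [show (⟨w, hK⟩ : K) = ⟨a, haK⟩ * ⟨b, hbK⟩ from Subtype.ext e, map_mul, map_mul,
        ← ea, ← eb]
      group
    rcases uList_mul a' ha' b' hb' with h1 | h1
    · exact ⟨a' * b', h1, K.mul_mem haK' hbK', e1⟩
    · exfalso
      rw [show (⟨a', haK'⟩ : K) * ⟨b', hbK'⟩ = 1 from Subtype.ext h1, map_one,
        conj_eq_one_iff, ← map_one T.ψ] at e1
      exact (by decide +kernel : ∀ w ∈ vList, w ≠ 1) w hw (congrArg Subtype.val (T.inj e1))
  have hinv : ∀ x ∈ PG T, g⁻¹ * x * g⁻¹⁻¹ ∈ PG T := fun x hx => (hg _).2 (by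
    rw [show g * (g⁻¹ * x * g⁻¹⁻¹) * g⁻¹ = x by group]; exact hx)
  have hzv : ∀ u ∈ vList, z * u = u * z := by decide +kernel
  have hcomm : ∀ w (hw : w ∈ vList) (hK : w ∈ K),
      g * S.e zH * g⁻¹ * T.ψ ⟨w, hK⟩ = T.ψ ⟨w, hK⟩ * (g * S.e zH * g⁻¹) := by
    intro w hw hK
    obtain ⟨u, hu, huK, e⟩ := hv hinv w hw hK
    have e' : T.ψ ⟨w, hK⟩ = g * T.ψ ⟨u, huK⟩ * g⁻¹ := by rw [← e]; group
    have c : S.e zH * T.ψ ⟨u, huK⟩ = T.ψ ⟨u, huK⟩ * S.e zH := by
      rw [← zK_agree T, ← map_mul, ← map_mul]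
      exact congrArg T.ψ (Subtype.ext (hzv u hu))
    rw [e']
    calc g * S.e zH * g⁻¹ * (g * T.ψ ⟨u, huK⟩ * g⁻¹)
        = g * (S.e zH * T.ψ ⟨u, huK⟩) * g⁻¹ := by group
      _ = g * (T.ψ ⟨u, huK⟩ * S.e zH) * g⁻¹ := by rw [c]
      _ = g * T.ψ ⟨u, huK⟩ * g⁻¹ * (g * S.e zH * g⁻¹) := by group
  have hw1 : w1 ∈ vList := by decide +kernel
  have hw2 : w2 ∈ vList := by decide +kernel
  have hL : g * S.e zH * g⁻¹ ∈ T.L := by
    rw [Glue.L, Subgroup.mem_centralizer_iff]
    rintro m (rfl | rfl)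
    · exact (hcomm w1 hw1 w1K.2).symm
    · exact (hcomm w2 hw2 w2K.2).symm
  obtain ⟨k, hk⟩ := hle hL
  have hzK : (zK : K) ^ 3 = 1 := Subtype.ext z_facts.2.2.1
  have hk3 : k ^ 3 = 1 := T.inj (by
    rw [map_pow, hk, conj_pow, ← zK_agree T, ← map_pow, hzK, map_one]; group)
  have hkc : ∀ w (hw : w ∈ vList) (hK : w ∈ K), (k : P9) * w = w * k := fun w hw hK =>
    congrArg Subtype.val (T.inj (by rw [map_mul, map_mul, hk]; exact hcomm w hw hK) :
      k * ⟨w, hK⟩ = ⟨w, hK⟩ * k)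
  have hkN : (k : P9) ∈ sN := sN_of_comm k.2 (w := w1) hw1 (by
    rw [hkc w1 hw1 w1K.2, mul_inv_cancel_right]; exact hw1)
  have hin : g * S.e zH * g⁻¹ ∈ Subgroup.zpowers (S.e zH) := by
    rw [← hk]
    rcases sN_cent _ hkN (congrArg Subtype.val hk3) (hkc w1 hw1 w1K.2) (hkc w2 hw2 w2K.2) with
      h | h | h
    · rw [show k = 1 from Subtype.ext h, map_one]; exact one_mem _
    · rw [show k = zK from Subtype.ext h, zK_agree T]; exact Subgroup.mem_zpowers _
    · rw [show k = zK⁻¹ from Subtype.ext h, map_inv, zK_agree T]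
      exact inv_mem (Subgroup.mem_zpowers _)
  rw [T.range_eq, Subgroup.mem_normalizer_iff]
  have hmap : (Subgroup.zpowers (S.e zH)).map (MulAut.conj g).toMonoidHom =
      Subgroup.zpowers (S.e zH) := by
    refine Subgroup.eq_of_le_of_card_ge ?_ (le_of_eq ?_)
    · rw [MonoidHom.map_zpowers, Subgroup.zpowers_le]; exact hin
    · exact (Subgroup.card_map_of_injective (MulAut.conj g).injective).symm
  intro x
  constructor
  · intro hx
    have := Subgroup.mem_map_of_mem (MulAut.conj g).toMonoidHom hx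
    rwa [hmap] at this
  · intro hx
    rw [← hmap, Subgroup.mem_map] at hx
    obtain ⟨x', hx', e⟩ := hx
    exact (MulAut.conj g).injective e ▸ hx'

end CfsgLib.ANineThree.NoSmall

namespace CfsgLib.ANineThree

open Equiv Subgroup NoSmall

attribute [local instance 2000] List.decidableBAll List.decidableBEx

universe u

/-- The centralizer of the four-group is not small. -/
theorem no_small : StmtNoSmall.{u} := by
  intro G _ _ S T L hle
  classical
  haveI : Fact (Nat.Prime 2) := ⟨Nat.prime_two⟩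
  have hcardP : Nat.card (PG T) = 16 := by
    rw [Subgroup.card_map_of_injective T.inj, Pk, card_listSub _ _ _ _ pList_K list_counts.1,
      list_counts.2.1]
  obtain ⟨Q, hQ⟩ := (IsPGroup.of_card (p := 2) (G := PG T) (n := 4) hcardP).exists_le_sylow
  have hQP : (Q : Subgroup G) = PG T := by
    refine le_antisymm ?_ hQ
    by_contra hnot
    haveI := Q.2.isNilpotent
    have hlt : (PG T).subgroupOf Q < ⊤ :=
      lt_top_iff_ne_top.2 fun h => hnot (Subgroup.subgroupOf_eq_top.1 h)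
    obtain ⟨n, hn, hn'⟩ := SetLike.exists_of_lt
      (Group.normalizerCondition_of_isNilpotent (G := (Q : Subgroup G)) _ hlt)
    have hnorm : ∀ x : G, x ∈ PG T ↔ (n : G) * x * (n : G)⁻¹ ∈ PG T := by
      intro x
      constructor
      · intro hx
        have h := (Subgroup.mem_normalizer_iff.1 hn ⟨x, hQ hx⟩).1 hx
        exact h
      · intro hx
        have hxQ : x ∈ (Q : Subgroup G) := by
          have h := mul_mem (mul_mem (inv_mem n.2) (hQ hx)) n.2
          rwa [show (n : G)⁻¹ * ((n : G) * x * (n : G)⁻¹) * n = x by group] at h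
        exact (Subgroup.mem_normalizer_iff.1 hn ⟨x, hxQ⟩).2 hx
    obtain ⟨k, hk⟩ := mem_range_of_norm T L hle hnorm
    have hkP : ∀ a ∈ pList, (k : P9) * a * (k : P9)⁻¹ ∈ pList := by
      intro a ha
      obtain ⟨m, hm, hm'⟩ := Subgroup.mem_map.1 ((hnorm _).1
        (Subgroup.mem_map_of_mem T.ψ (show (⟨a, pList_K a ha⟩ : K) ∈ Pk from ha)))
      have e : m = k * ⟨a, pList_K a ha⟩ * k⁻¹ :=
        T.inj (by rw [map_mul, map_mul, map_inv, hk]; exact hm')
      rw [e] at hm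
      exact hm
    -- the image of the four-group
    have hkw : (k : P9) * w1 * (k : P9)⁻¹ ∈ vList := by
      obtain ⟨a, ha, b, hb, e⟩ := vList_eq w1 (by decide +kernel)
      have mapU : ∀ a ∈ uList, (k : P9) * a * (k : P9)⁻¹ ∈ uList := by
        intro a ha
        obtain ⟨h2, hne, hP, -⟩ := uList_ne a ha
        refine (conj_i0_of_P T L (hkP a hP) ?_ (fun e => hne (conj_eq_one_iff.1 e))).2 ?_
        · calc (k : P9) * a * (k : P9)⁻¹ * ((k : P9) * a * (k : P9)⁻¹)
              = (k : P9) * (a * a) * (k : P9)⁻¹ := by group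
            _ = 1 := by rw [h2]; group
        · intro hc
          refine (conj_i0_of_P T L hP h2 hne).1 ha ((isConj_iff.2 ⟨T.ψ k, ?_⟩).trans hc)
          rw [← map_inv, ← map_mul, ← map_mul]
          exact congrArg T.ψ (Subtype.ext rfl)
      have he : (k : P9) * w1 * (k : P9)⁻¹ =
          (k : P9) * a * (k : P9)⁻¹ * ((k : P9) * b * (k : P9)⁻¹) := by rw [e]; group
      rcases uList_mul _ (mapU a ha) _ (mapU b hb) with h | h
      · rw [he]; exact h
      · rw [← he, conj_eq_one_iff] at h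
        exact absurd h (by decide +kernel)
    have hkN : (k : P9) ∈ sN := sN_of_comm k.2 (w := w1) (by decide +kernel) hkw
    have hk4 : (k : P9) ^ 4 = 1 := by
      obtain ⟨j, hj⟩ := IsPGroup.iff_orderOf.1 Q.2 n
      have e1 : k ^ (2 ^ j) = 1 := T.inj (by
        rw [map_pow, map_one, hk, ← hj, ← Subgroup.orderOf_coe, pow_orderOf_eq_one])
      have e2 : (k : P9) ^ (2 ^ j) = 1 := congrArg Subtype.val e1
      have hd := Nat.dvd_gcd (orderOf_dvd_of_pow_eq_one e2)
        (orderOf_dvd_of_pow_eq_one (sN_pow _ hkN))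
      refine orderOf_dvd_iff_pow_eq_one.1 (hd.trans ?_)
      have h : Nat.Coprime (Nat.gcd (2 ^ j) 12) 3 :=
        Nat.Coprime.coprime_dvd_left (Nat.gcd_dvd_left _ _)
          (Nat.Coprime.pow_left _ (by norm_num))
      exact h.dvd_of_dvd_mul_right (m := 4) (Nat.gcd_dvd_right _ 12)
    have hkin : (k : P9) ∈ pList := sN_norm _ hkN k.2.1 hk4 fun a ha => hkP a
      ((by decide +kernel : ∀ a ∈ [r, w2, X9], a ∈ pList) a ha)
    exact hn' (by
      rw [Subgroup.mem_subgroupOf, ← hk]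
      exact Subgroup.mem_map_of_mem T.ψ hkin)
  have hD : Dk.map T.ψ ≤ (Q : Subgroup G) := by
    rw [hQP]
    exact Subgroup.map_mono fun k hk => dList_sub _ hk
  have hidx : (Dk.map T.ψ).relIndex (Q : Subgroup G) = 2 := by
    have h : Nat.card ((Dk.map T.ψ).subgroupOf (Q : Subgroup G)) = 8 := by
      rw [Nat.card_congr (Subgroup.subgroupOfEquivOfLe hD).toEquiv,
        Subgroup.card_map_of_injective T.inj, Dk, card_listSub _ _ _ _
          (fun a ha => pList_K a (dList_sub a ha)) list_counts.2.2.1, list_counts.2.2.2]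
    have h2 := Subgroup.card_mul_index ((Dk.map T.ψ).subgroupOf (Q : Subgroup G))
    have h16 : Nat.card (Q : Subgroup G) = 16 := by rw [hQP, hcardP]
    rw [h, h16] at h2
    rw [Subgroup.relIndex]
    omega
  have hu0 : r * w1 ∈ uList := by decide +kernel
  obtain ⟨h2, hne, hP, -⟩ := uList_ne _ hu0
  let u : G := T.ψ ⟨r * w1, pList_K _ hP⟩
  have hu : orderOf u = 2 := by
    refine orderOf_eq_prime ?_ ?_
    · rw [sq, ← map_mul, show (⟨r * w1, pList_K _ hP⟩ : K) * ⟨r * w1, pList_K _ hP⟩ = 1 from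
        Subtype.ext h2, map_one]
    · intro h
      exact hne (congrArg Subtype.val (T.inj (h.trans (map_one _).symm)))
  have hu2 : u * u = 1 := by rw [← sq, ← hu]; exact pow_orderOf_eq_one u
  obtain ⟨M, hMn, hMi, huM⟩ :=
    CfsgLib.Transfer.exists_index_two_of_not_conj_mem Q hD hidx hu (fun g hg => by
      obtain ⟨k, hk, hk'⟩ := Subgroup.mem_map.1 hg
      have hk2 : (k : P9) * k = 1 := congrArg Subtype.val (T.inj (by
        rw [map_mul, map_one, hk', show g * u * g⁻¹ * (g * u * g⁻¹) = g * (u * u) * g⁻¹ by group,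
          hu2]
        group) : k * k = 1)
      have hk1 : (k : P9) ≠ 1 := by
        intro h
        rw [show k = 1 from Subtype.ext h, map_one] at hk'
        have h' := conj_eq_one_iff.1 hk'.symm
        rw [h', orderOf_one] at hu
        omega
      have hkP := dList_sub _ hk
      refine dList_u _ hk ((conj_i0_of_P T L hkP hk2 hk1).2 fun hc => ?_)
      exact (conj_i0_of_P T L hP h2 hne).1 hu0 ((isConj_iff.2 ⟨g, hk'.symm⟩).trans hc))
  haveI := hMn
  have hcube : ∀ x : G, x ^ 3 = 1 → x ∈ M := by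
    intro x hx
    have hq : Nat.card (G ⧸ M) = 2 := hMi
    have h2' : (x : G ⧸ M) ^ 2 = 1 := by rw [← hq]; exact pow_card_eq_one'
    have h3' : (x : G ⧸ M) ^ 3 = 1 := by
      rw [← QuotientGroup.mk_pow, hx, QuotientGroup.mk_one]
    rw [pow_succ, h2', one_mul] at h3'
    exact (QuotientGroup.eq_one_iff x).1 h3'
  have hi0 : i0 T ∈ M := by
    obtain ⟨he, ha, hb, ha3, hb3⟩ := w1_prod
    rw [i0, show w1K = ⟨_, ha⟩ * ⟨_, hb⟩ from Subtype.ext he.symm, map_mul]
    refine mul_mem (hcube _ ?_) (hcube _ ?_)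
    · rw [← map_pow, show (⟨_, ha⟩ : K) ^ 3 = 1 from Subtype.ext ha3, map_one]
    · rw [← map_pow, show (⟨_, hb⟩ : K) ^ 3 = 1 from Subtype.ext hb3, map_one]
  have hrP : r ∈ pList := by decide +kernel
  have hrM : T.ψ ⟨r, pList_K r hrP⟩ ∈ M := by
    rcases classify_G T hrP (by decide +kernel) (by decide +kernel) with ⟨h, -⟩ | ⟨-, h⟩
    · exact absurd h (by decide +kernel)
    · obtain ⟨g, hg⟩ := isConj_iff.1 h
      have := hMn.conj_mem _ hi0 g⁻¹
      rw [← hg] at this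
      simpa [mul_assoc] using this
  apply huM
  show T.ψ _ ∈ M
  rw [show (⟨r * w1, pList_K _ hP⟩ : K) = ⟨r, pList_K r hrP⟩ * w1K from Subtype.ext rfl,
    map_mul]
  exact mul_mem hrM hi0

end CfsgLib.ANineThree
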