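import Cfsg.Agent.Lib.ANineThree.Interface
import Cfsg.Agent.Lib.ANineThree.Fusion
import Cfsg.Agent.Lib.AEightThree.Recognise

/-!
Recognition of the alternating group of degree nine from the embedded subgroup.
-/

set_option autoImplicit false
set_option maxRecDepth 100000

namespace CfsgLib.ANineThree

open Subgroup CfsgLib.AEightThree

universe u

/-- A group with such a subgroup is alternating of degree nine. -/
theorem recognise : StmtRecognise.{u} := by
  intro G _ _ S
  obtain ⟨hy3, hy1, -, -, -, -⟩ := y_facts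
  have hy : ∀ g : G, g * S.ι8 yp8 = S.ι8 yp8 * g → g * S.ι8 u8 = S.ι8 u8 * g →
      g ∈ S.ι8.range := by
    intro g h1 h2
    have hk3 : inc yp8 ^ 3 = 1 := by
      rw [← map_pow, pow_succ, pow_two, hy3, map_one]
    have hk1 : inc yp8 ≠ 1 := fun h => hy1 (inc_inj (by rw [h, map_one]))
    obtain ⟨k, rfl⟩ := S.inside hk3 hk1 h1
    obtain ⟨σ, rfl⟩ := fix_of_comm_u (k := k) (S.inj (by rw [map_mul, map_mul]; exact h2))
    exact ⟨σ, rfl⟩
  have hE : centralizer ({S.ι8 t8, S.ι8 v8, S.ι8 e8} : Set G) ≤ S.ι8.range := by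
    intro x hx
    obtain ⟨k, rfl⟩ := S.cent_E hx
    have hc : ∀ g : A8, g ∈ [t8, v8, e8] → S.ι k * S.ι8 g = S.ι8 g * S.ι k := by
      intro g hg
      refine (mem_centralizer_iff.1 hx _ ?_).symm
      simp only [List.mem_cons, List.not_mem_nil, or_false] at hg
      rcases hg with rfl | rfl | rfl <;> simp
    obtain ⟨σ, rfl⟩ := fix_of_comm_u (k := k) (S.inj (by
      rw [map_mul, map_mul]
      show S.ι k * S.ι8 (t8 * v8) = S.ι8 (t8 * v8) * S.ι k
      rw [map_mul]
      exact Commute.mul_right (hc _ (by simp)) (hc _ (by simp))))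
    exact ⟨σ, rfl⟩
  have h181440 : 181440 ∣ Nat.card G := by
    have h := card_subgroup_dvd_card S.ι.range
    rwa [← Nat.card_congr (MonoidHom.ofInjective S.inj).toEquiv, card_A9] at h
  rcases centralizer_cases S.ι8 S.inj8 hy S.not_dvd_two_pow hE with
    ⟨M, hM, -, -, hMc, ⟨eM⟩⟩ | ⟨⟨e8'⟩⟩ | h | ⟨⟨e12⟩⟩
  · exfalso
    have h : Nat.card G = Nat.card (Matrix.ProjectiveSpecialLinearGroup (Fin 3) (ZMod 2)) * 8 := by
      rw [Subgroup.card_eq_card_quotient_mul_card_subgroup M, hMc, Nat.card_congr eM.toEquiv]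
    have h1 : Nat.card (Matrix.ProjectiveSpecialLinearGroup (Fin 3) (ZMod 2)) ≤ 512 := by
      calc _ ≤ Nat.card (Matrix.SpecialLinearGroup (Fin 3) (ZMod 2)) :=
            Nat.card_le_card_of_surjective _ (QuotientGroup.mk'_surjective _)
        _ ≤ Nat.card (Matrix (Fin 3) (Fin 3) (ZMod 2)) :=
            Nat.card_le_card_of_injective (fun A => A.1) Subtype.val_injective
        _ = 512 := by
            rw [show Nat.card (Matrix (Fin 3) (Fin 3) (ZMod 2)) = Nat.card (Fin 3 → Fin 3 → ZMod 2)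
              from rfl, Nat.card_fun, Nat.card_fun, Nat.card_fin, Nat.card_zmod]
            rfl
    have h2 := Nat.le_of_dvd Nat.card_pos h181440
    omega
  · exfalso
    have h := Nat.le_of_dvd Nat.card_pos h181440
    rw [Nat.card_congr e8'.toEquiv, nat_card_alternatingGroup, Nat.card_fin] at h
    norm_num [Nat.factorial] at h
  · exact h
  · exfalso
    rw [Nat.card_congr e12.toEquiv, CfsgLib.MathieuOut.natCard_M12] at h181440
    norm_num at h181440

end CfsgLib.ANineThree
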