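import Cfsg.Agent.Lib.ANineThree.Interface

/-!
The data from the hypotheses on the normalizer of the elementary abelian subgroup of order 27.
-/

set_option autoImplicit false
set_option linter.style.haveILetI false
set_option linter.unusedSectionVars false
set_option maxRecDepth 100000

namespace CfsgLib.ANineThree

open Equiv Subgroup

universe u

namespace SetupAux

/-- The three cycles. -/
def zb : Fin 3 → P9 := ![z, z2, z3]

/-- A point of a block. -/
def pt3 (b : Fin 3) : Fin 9 := ⟨3 * b.1, by omega⟩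

/-- The block of a point. -/
def blk (i : Fin 9) : Fin 3 := ⟨i.1 / 3, by omega⟩

theorem blk_eq_iff {i j : Fin 9} : blk i = blk j ↔ i.1 / 3 = j.1 / 3 := Fin.ext_iff

theorem zb_facts : ∀ b : Fin 3, zb b ≠ 1 ∧ zb b * zb b * zb b = 1 ∧ zb b ≠ (zb b)⁻¹ ∧
    blk (pt3 b) = b ∧ (∀ i : Fin 9, blk i ≠ b → zb b i = i ∧ (zb b)⁻¹ i = i) ∧
    (∀ i : Fin 9, blk i = b → zb b i ≠ i ∧ (zb b)⁻¹ i ≠ i) := by decide +kernel

theorem zb_conj_table : ∀ a b c : Fin 9, blk a = blk b → blk b = blk c → a ≠ b → b ≠ c → a ≠ c →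
    swap a b * swap b c = zb (blk a) ∨ swap a b * swap b c = (zb (blk a))⁻¹ := by decide +kernel

theorem zb_eq : ∀ b : Fin 3, ∃ p q r : Fin 9, blk p = b ∧ blk q = b ∧ blk r = b ∧ p ≠ q ∧ q ≠ r ∧
    p ≠ r ∧ p = pt3 b ∧ zb b = swap p q * swap q r := by decide +kernel

theorem conj_zb {σ : P9} (hσ : σ ∈ Hm) (b : Fin 3) :
    σ * zb b * σ⁻¹ = zb (blk (σ (pt3 b))) ∨ σ * zb b * σ⁻¹ = (zb (blk (σ (pt3 b))))⁻¹ := by
  obtain ⟨p, q, r, hp, hq, hr, hpq, hqr, hpr, rfl, e⟩ := zb_eq b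
  have h2 := (mem_Hm.1 hσ).2
  have hb : ∀ i j, blk i = blk j → blk (σ i) = blk (σ j) := fun i j h =>
    blk_eq_iff.2 ((h2 i j).2 (blk_eq_iff.1 h))
  have e2 : σ * zb b * σ⁻¹ =
      swap (σ (pt3 b)) (σ q) * swap (σ q) (σ r) := by
    rw [swap_apply_apply, swap_apply_apply, e]; group
  rw [e2]
  exact zb_conj_table _ _ _ (hb _ _ (hp.trans hq.symm)) (hb _ _ (hq.trans hr.symm))
    (fun h => hpq (σ.injective h)) (fun h => hqr (σ.injective h)) fun h => hpr (σ.injective h)

/-- The orbit relation of the three cycles. -/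
theorem zb_orbit : ∀ i j : Fin 9, blk i = blk j →
    j = i ∨ j = zb (blk i) i ∨ j = zb (blk i) (zb (blk i) i) := by decide +kernel

/-- The subgroup generated by the three cycles. -/
def J0 : Subgroup P9 := closure {z, z2, z3}

theorem zb_mem (b : Fin 3) : zb b ∈ J0 := by
  refine subset_closure ?_
  fin_cases b <;> simp [zb]

theorem J0_blk {g : P9} (hg : g ∈ J0) : ∀ i, blk (g i) = blk i := by
  induction hg using Subgroup.closure_induction with
  | mem x hx =>
    have key : ∀ i, blk (z i) = blk i ∧ blk (z2 i) = blk i ∧ blk (z3 i) = blk i := by decide +kernel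
    rcases hx with rfl | rfl | rfl
    · exact fun i => (key i).1
    · exact fun i => (key i).2.1
    · exact fun i => (key i).2.2
  | one => simp
  | mul a b _ _ ha hb => exact fun i => by rw [Perm.mul_apply, ha, hb]
  | inv a _ ha =>
      intro i
      have := ha (a⁻¹ i)
      rw [← Perm.mul_apply, mul_inv_cancel, Perm.one_apply] at this
      exact this.symm

theorem Hm_eq : alternatingGroup (Fin 9) ⊓ normalizer (J0 : Set P9) = Hm := by
  ext σ
  constructor
  · rintro ⟨he, hn⟩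
    have key : ∀ τ' ∈ normalizer (J0 : Set P9), ∀ i j, blk i = blk j → blk (τ' i) = blk (τ' j) := by
      intro τ' hτ i j hij
      obtain ⟨g, hg, rfl⟩ : ∃ g ∈ J0, g i = j := by
        rcases zb_orbit i j hij with h | h | h
        · exact ⟨1, one_mem _, h.symm⟩
        · exact ⟨_, zb_mem _, h.symm⟩
        · exact ⟨_, mul_mem (zb_mem (blk i)) (zb_mem (blk i)), h.symm⟩
      have h1 := J0_blk ((mem_normalizer_iff.1 hτ g).1 hg) (τ' i)
      rw [Perm.mul_apply, Perm.mul_apply, show τ'⁻¹ (τ' i) = i from τ'.symm_apply_apply i] at h1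
      exact h1.symm
    refine mem_Hm.2 ⟨Perm.mem_alternatingGroup.1 he, fun i j => ?_⟩
    rw [← blk_eq_iff, ← blk_eq_iff]
    refine ⟨fun h => ?_, key σ hn i j⟩
    have := key σ⁻¹ (inv_mem hn) _ _ h
    simpa using this
  · intro hσ
    refine ⟨Perm.mem_alternatingGroup.2 (mem_Hm.1 hσ).1, mem_normalizer_fintype fun g hg => ?_⟩
    have hle : J0 ≤ J0.comap (MulAut.conj σ).toMonoidHom := by
      conv_lhs => rw [J0]
      rw [closure_le]
      intro g hg
      have hb : ∃ b, g = zb b := by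
        rcases hg with rfl | rfl | rfl
        exacts [⟨0, rfl⟩, ⟨1, rfl⟩, ⟨2, rfl⟩]
      obtain ⟨b, rfl⟩ := hb
      show σ * zb b * σ⁻¹ ∈ J0
      rcases conj_zb hσ b with e | e <;> rw [e]
      exacts [zb_mem _, inv_mem (zb_mem _)]
    exact hle hg

/-- The products of powers of the three cycles. -/
def jel (c : Fin 3 × Fin 3 × Fin 3) : Hm := zH ^ c.1.1 * z2H ^ c.2.1.1 * z3H ^ c.2.2.1

theorem jel_mul : ∀ a b, jel a * jel b = jel (a.1 + b.1, a.2.1 + b.2.1, a.2.2 + b.2.2) := by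
  decide +kernel

theorem jel_facts : jel (0, 0, 0) = 1 ∧ jel (1, 0, 0) = zH ∧ jel (0, 1, 0) = z2H ∧
    jel (0, 0, 1) = z3H := by decide +kernel

theorem jel_inv : ∀ a, (jel a)⁻¹ = jel (-a.1, -a.2.1, -a.2.2) := by decide +kernel

/-- The subgroup of the model. -/
def JH : Subgroup Hm := closure {zH, z2H, z3H}

theorem JH_le {h : Hm} (hh : h ∈ JH) : ∃ c, h = jel c := by
  induction hh using Subgroup.closure_induction with
  | mem x hx =>
    rcases hx with rfl | rfl | rfl
    exacts [⟨_, jel_facts.2.1.symm⟩, ⟨_, jel_facts.2.2.1.symm⟩, ⟨_, jel_facts.2.2.2.symm⟩]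
  | one => exact ⟨_, jel_facts.1.symm⟩
  | mul a b _ _ ha hb =>
    obtain ⟨c, rfl⟩ := ha
    obtain ⟨d, rfl⟩ := hb
    exact ⟨_, jel_mul c d⟩
  | inv a _ ha =>
    obtain ⟨c, rfl⟩ := ha
    exact ⟨_, jel_inv c⟩

theorem card_JH_le : Nat.card JH ≤ 27 := by
  classical
  have hf : Function.Surjective (fun c : Fin 3 × Fin 3 × Fin 3 =>
      if h : jel c ∈ JH then (⟨jel c, h⟩ : JH) else 1) := by
    rintro ⟨h, hh⟩
    obtain ⟨c, rfl⟩ := JH_le hh
    exact ⟨c, dif_pos hh⟩
  exact (Nat.card_le_card_of_surjective _ hf).trans (by simp)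

theorem jel_mem (c : Fin 3 × Fin 3 × Fin 3) : jel c ∈ JH := by
  unfold jel JH
  exact mul_mem (mul_mem (pow_mem (subset_closure (by simp)) _)
    (pow_mem (subset_closure (by simp)) _)) (pow_mem (subset_closure (by simp)) _)

/-- An element of order three normalising each cycle lies in the product of the three lines. -/
theorem mem_JH {a : Hm} (h3 : (a : P9) * a * a = 1) (hb : ∀ i, blk ((a : P9) i) = blk i) :
    a ∈ JH := by
  have hcomm : ∀ b, (a : P9) * zb b = zb b * a := by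
    intro b
    have hbb : blk ((a : P9) (pt3 b)) = b := by rw [hb, (zb_facts b).2.2.2.1]
    rcases conj_zb a.2 b with e | e <;> rw [hbb] at e
    · calc (a : P9) * zb b = (a : P9) * zb b * (a : P9)⁻¹ * a := by group
        _ = zb b * a := by rw [e]
    · exfalso
      refine (zb_facts b).2.2.1 ?_
      have e' : (a : P9) * (zb b)⁻¹ * (a : P9)⁻¹ = zb b := by
        rw [show (a : P9) * (zb b)⁻¹ * (a : P9)⁻¹ = ((a : P9) * zb b * (a : P9)⁻¹)⁻¹ by group, e,
          inv_inv]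
      calc zb b = (a : P9) * a * a * zb b * ((a : P9) * a * a)⁻¹ := by rw [h3]; group
        _ = (a : P9) * ((a : P9) * ((a : P9) * zb b * (a : P9)⁻¹) * (a : P9)⁻¹) * (a : P9)⁻¹ := by
          group
        _ = (zb b)⁻¹ := by rw [e, e', e]
  have hpow : ∀ b : Fin 3, ∀ j : Fin 9, blk j = b → ∃ n : Fin 3, j = (zb b ^ n.1) (pt3 b) := by
    decide +kernel
  have happ : ∀ (b : Fin 3) (n : ℕ), (a : P9) ((zb b ^ n) (pt3 b)) = (zb b ^ n) ((a : P9) (pt3 b)) :=
    fun b n => by
      have h : Commute (a : P9) (zb b ^ n) := (show Commute (a : P9) (zb b) from hcomm b).pow_right n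
      rw [← Perm.mul_apply, h.eq, Perm.mul_apply]
  obtain ⟨i, hi⟩ := hpow 0 _ ((hb (pt3 0)).trans (zb_facts 0).2.2.2.1)
  obtain ⟨j, hj⟩ := hpow 1 _ ((hb (pt3 1)).trans (zb_facts 1).2.2.2.1)
  obtain ⟨k, hk⟩ := hpow 2 _ ((hb (pt3 2)).trans (zb_facts 2).2.2.2.1)
  have key : ∀ (i j k : Fin 3) (m : Fin 3),
      ((jel (i, j, k) : Hm) : P9) ((zb 0 ^ m.1) (pt3 0)) = (zb 0 ^ m.1) ((zb 0 ^ i.1) (pt3 0)) ∧
      ((jel (i, j, k) : Hm) : P9) ((zb 1 ^ m.1) (pt3 1)) = (zb 1 ^ m.1) ((zb 1 ^ j.1) (pt3 1)) ∧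
      ((jel (i, j, k) : Hm) : P9) ((zb 2 ^ m.1) (pt3 2)) = (zb 2 ^ m.1) ((zb 2 ^ k.1) (pt3 2)) := by
    decide +kernel
  have he : a = jel (i, j, k) := by
    refine Subtype.ext (Equiv.ext fun p => ?_)
    obtain ⟨m, hm⟩ := hpow (blk p) p rfl
    generalize blk p = b at hm
    subst hm
    rw [happ]
    rcases (show b = 0 ∨ b = 1 ∨ b = 2 by omega) with rfl | rfl | rfl
    · rw [hi]; exact (key i j k m).1.symm
    · rw [hj]; exact (key i j k m).2.1.symm
    · rw [hk]; exact (key i j k m).2.2.symm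
  rw [he]
  exact jel_mem _

/-- The product of the three lines is the only normal elementary abelian subgroup of order 27. -/
theorem eq_JH (A : Subgroup Hm) (hn : A.Normal) (hc : ∀ a ∈ A, ∀ b ∈ A, a * b = b * a)
    (h3 : ∀ a ∈ A, a ^ 3 = 1) (hcard : Nat.card A = 27) : A = JH := by
  refine eq_of_le_of_card_ge (fun a ha => ?_) (hcard ▸ card_JH_le)
  have hcube : (a : P9) * a * a = 1 := by
    have := congrArg Subtype.val (h3 a ha)
    rw [SubmonoidClass.coe_pow, Subgroup.coe_one] at this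
    rw [← this]; simp only [pow_succ, pow_zero, one_mul, mul_assoc]
  refine mem_JH hcube fun i => ?_
  by_contra hne
  have h2 := (mem_Hm.1 a.2).2
  have hb : ∀ i j, blk i = blk j ↔ blk ((a : P9) i) = blk ((a : P9) j) := fun i j => by
    rw [blk_eq_iff, blk_eq_iff]; exact (h2 i j).symm
  set b₀ := blk i with hb₀
  set b₁ := blk ((a : P9) i) with hb₁
  set b₂ := blk ((a : P9) ((a : P9) i)) with hb₂
  have h02 : b₂ ≠ b₀ := by
    intro h
    refine hne ?_
    have h' := ((hb _ _).1 h).symm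
    rw [← Perm.mul_apply, ← Perm.mul_apply, hcube, Perm.one_apply] at h'
    exact h'
  -- the conjugates of the cycle of the first block
  obtain ⟨c, hc0, hcv⟩ : ∃ c : Hm, (c : P9) = zb b₀ ∧ c * c * c = 1 := by
    have hz : ∀ b : Fin 3, zb b = ((![zH, z2H, z3H] b : Hm) : P9) ∧
        ![zH, z2H, z3H] b * ![zH, z2H, z3H] b * ![zH, z2H, z3H] b = 1 := by decide +kernel
    exact ⟨_, (hz b₀).1.symm, (hz b₀).2⟩
  have hpt : ∀ (j : Fin 9), blk ((a : P9) (pt3 (blk j))) = blk ((a : P9) j) := fun j =>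
    (hb _ _).1 (zb_facts (blk j)).2.2.2.1
  set d := a * c * a⁻¹ with hd
  set e := a * d * a⁻¹ with he
  have hu : d * c⁻¹ ∈ A := by
    have := mul_mem ha (hn.conj_mem _ (inv_mem ha) c)
    rwa [show a * (c * a⁻¹ * c⁻¹) = d * c⁻¹ by rw [hd]; group] at this
  have hfix : e * d⁻¹ = d * c⁻¹ := by
    calc e * d⁻¹ = a * (d * c⁻¹) * a⁻¹ := by rw [he, hd]; group
      _ = d * c⁻¹ * a * a⁻¹ := by rw [hc a ha _ hu]
      _ = _ := by group
  have hdv : (d : P9) = zb b₁ ∨ (d : P9) = (zb b₁)⁻¹ := by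
    have := conj_zb a.2 b₀
    rw [hb₀, hpt i, ← hb₁, ← hb₀, ← hc0] at this
    exact this
  have hev : (e : P9) = zb b₂ ∨ (e : P9) = (zb b₂)⁻¹ := by
    have e' : (e : P9) = (a : P9) * d * (a : P9)⁻¹ := rfl
    have := conj_zb a.2 b₁
    rw [hb₁, hpt ((a : P9) i), ← hb₂, ← hb₁] at this
    rcases hdv with h | h <;> rw [e', h]
    · exact this
    · rw [show (a : P9) * (zb b₁)⁻¹ * (a : P9)⁻¹ = ((a : P9) * zb b₁ * (a : P9)⁻¹)⁻¹ by group]
      rcases this with h' | h' <;> rw [h']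
      · exact Or.inr rfl
      · exact Or.inl (inv_inv _)
  have f1 := ((zb_facts b₁).2.2.2.2.1 i (fun h => hne (hb₁ ▸ h.symm.trans rfl)))
  have f2 := ((zb_facts b₂).2.2.2.2.1 i (Ne.symm h02))
  have f0 := ((zb_facts b₀).2.2.2.2.2 i rfl)
  have hdi : (d : P9) i = i ∧ (d : P9)⁻¹ i = i := by
    rcases hdv with h | h <;> rw [h]
    · exact f1
    · rw [inv_inv]; exact f1.symm
  have hei : (e : P9) i = i := by
    rcases hev with h | h <;> rw [h]
    · exact f2.1
    · exact f2.2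
  have hval := congrArg (fun g : Hm => (g : P9) i) hfix
  simp only [Subgroup.coe_mul, Subgroup.coe_inv, Perm.mul_apply] at hval
  rw [hdi.2, hei, hc0] at hval
  exact f0.2 ((d : P9).injective (hval.symm.trans hdi.1.symm))

end SetupAux

open SetupAux in
/-- The hypotheses of the statement give the data. -/
theorem exists_data {G : Type u} [Group G] [Finite G]
    (J : Subgroup G) (hJcomm : IsMulCommutative J) (hJexp : ∀ a ∈ J, a ^ 3 = 1)
    (hJcard : Nat.card J = 27) (H : Subgroup G) (hH : H = normalizer (J : Set G))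
    (J₀ : Subgroup (Perm (Fin 9)))
    (hJ₀ : J₀ = Subgroup.closure {swap (0 : Fin 9) 1 * swap 1 2, swap (3 : Fin 9) 4 * swap 4 5,
      swap (6 : Fin 9) 7 * swap 7 8})
    (eH : H ≃* ↥(alternatingGroup (Fin 9) ⊓ normalizer (J₀ : Set (Perm (Fin 9)))))
    (hcores : ∀ x ∈ H, orderOf x = 3 → Cfsg.pPrimeCore 3 (centralizer ({x} : Set G)) = ⊥) :
    ∃ S : Data G, S.e.range = H := by
  have hJ0 : J₀ = J0 := hJ₀
  have hm : alternatingGroup (Fin 9) ⊓ normalizer (J₀ : Set (Perm (Fin 9))) = Hm := by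
    rw [hJ0, Hm_eq]
  let f : Hm ≃* H := (eH.trans (MulEquiv.subgroupCongr hm)).symm
  let e : Hm →* G := H.subtype.comp f.toMonoidHom
  have hinj : Function.Injective e := H.subtype_injective.comp f.injective
  have hrange : e.range = H := by
    rw [MonoidHom.range_comp, MonoidHom.range_eq_top.2 f.surjective, ← MonoidHom.range_eq_map,
      Subgroup.range_subtype]
  have hle : J ≤ H := hH ▸ le_normalizer
  have hA : J.comap e = JH := by
    have hn : (J.comap e).Normal := ⟨fun a ha g => by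
      have hg : e g ∈ normalizer (J : Set G) := by rw [← hH, ← hrange]; exact ⟨g, rfl⟩
      show e (g * a * g⁻¹) ∈ J
      rw [map_mul, map_mul, map_inv]
      exact (mem_normalizer_iff.1 hg _).1 ha⟩
    refine eq_JH _ hn (fun a ha b hb => hinj ?_) (fun a ha => hinj ?_) ?_
    · rw [map_mul, map_mul]
      exact congrArg Subtype.val (hJcomm.is_comm.comm ⟨e a, ha⟩ ⟨e b, hb⟩)
    · rw [map_pow, map_one]; exact hJexp _ ha
    · rw [Nat.card_congr (equivMapOfInjective (J.comap e) e hinj).toEquiv,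
        map_comap_eq_self (show J ≤ e.range from hrange ▸ hle), hJcard]
  have hJ : closure {e zH, e z2H, e z3H} = J := by
    rw [← map_comap_eq_self (show J ≤ e.range from hrange ▸ hle), hA, JH, MonoidHom.map_closure]
    congr 1
    simp [Set.image_insert_eq]
  refine ⟨⟨e, hinj, ?_, fun h hh => hcores _ ?_ ?_⟩, hrange⟩
  · rw [hJ, hrange, hH]
  · rw [← hrange]; exact ⟨h, rfl⟩
  · rw [orderOf_injective e hinj, hh]

end CfsgLib.ANineThree
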