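import Cfsg.Agent.Lib.ThreeLocalChars.Tools

/-!
# The virtual character `1 + ε - φ` on a trivial intersection set

`H` has a subgroup `K` of index two and `c : K → ZMod 3` is an epimorphism inverted by an element
of `H`. If the elements of `K` with nonzero image form a trivial intersection set with normalizer
`H`, three times their indicator is a virtual character of norm three. An involution no two
conjugates of which have such a product then lies in a proper normal subgroup missing all of them.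
-/

set_option autoImplicit false
set_option linter.style.haveILetI false
set_option linter.unusedSectionVars false

namespace CfsgLib.ANineThree

open Cfsg CfsgLib.ThreeLocalChars
open scoped ComplexConjugate

universe u

variable {G : Type u} [Group G]

/-- The data of a special trivial intersection set. -/
structure SpecialTI (H K : Subgroup G) (c : G → ZMod 3) : Prop where
  le : K ≤ H
  index : 2 * Nat.card K = Nat.card H
  mul : ∀ a ∈ K, ∀ b ∈ K, c (a * b) = c a + c b
  surj : ∃ k ∈ K, c k = 1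
  inv : ∃ σ ∈ H, ∀ k ∈ K, σ * k * σ⁻¹ ∈ K ∧ c (σ * k * σ⁻¹) = -c k
  conjD : ∀ h ∈ H, ∀ k ∈ K, c k ≠ 0 → h * k * h⁻¹ ∈ K ∧ c (h * k * h⁻¹) ≠ 0
  tiD : ∀ g : G, ∀ k ∈ K, c k ≠ 0 → g * k * g⁻¹ ∈ K → c (g * k * g⁻¹) ≠ 0 → g ∈ H

/-- The special set. -/
def InD (K : Subgroup G) (c : G → ZMod 3) (x : G) : Prop := x ∈ K ∧ c x ≠ 0

variable {H K : Subgroup G} {c : G → ZMod 3}

theorem SpecialTI.one_eq (t : SpecialTI H K c) : c 1 = 0 := by
  simpa using t.mul 1 K.one_mem 1 K.one_mem

open scoped Classical in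
/-- Three times the indicator of the conjugates of the special set. -/
noncomputable def indD (K : Subgroup G) (c : G → ZMod 3) (x : G) : ℂ :=
  if ∃ g, InD K c (g * x * g⁻¹) then 3 else 0

theorem isClassFunction_indD : IsClassFunction G (indD K c) := by
  intro x h
  have : (∃ g, InD K c (g * (h * x * h⁻¹) * g⁻¹)) ↔ ∃ g, InD K c (g * x * g⁻¹) := by
    constructor
    · rintro ⟨g, hg⟩
      exact ⟨g * h, by simpa [mul_assoc] using hg⟩
    · rintro ⟨g, hg⟩
      exact ⟨g * h⁻¹, by simpa [mul_assoc] using hg⟩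
  classical
  simp only [indD, this]

variable [Fintype G]

open scoped Classical in
/-- The special set as a finset. -/
noncomputable def dset (K : Subgroup G) (c : G → ZMod 3) : Finset G :=
  Finset.univ.filter (InD K c)

namespace SpecialTI

variable (t : SpecialTI H K c)
include t

theorem sum_indD {F : G → ℂ} (hF : IsClassFunction G F) :
    (Nat.card H : ℂ) * ∑ x : G, indD K c x * F x =
      3 * (Nat.card G : ℂ) * ∑ s ∈ dset K c, F s := by
  classical
  set X := Finset.univ.filter (fun x : G => ∃ g, InD K c (g * x * g⁻¹)) with hX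
  let π : G × G → G := fun p => p.1 * p.2 * p.1⁻¹
  have h1 : ∑ x : G, indD K c x * F x = 3 * ∑ x ∈ X, F x := by
    rw [Finset.mul_sum, hX, Finset.sum_filter]
    refine Finset.sum_congr rfl fun x _ => ?_
    unfold indD
    split_ifs <;> simp
  have hmap : ∀ p ∈ (Finset.univ : Finset G) ×ˢ dset K c, π p ∈ X := by
    intro p hp
    simp only [Finset.mem_product, dset, Finset.mem_filter, Finset.mem_univ, true_and] at hp
    simp only [hX, Finset.mem_filter, Finset.mem_univ, true_and]
    exact ⟨p.1⁻¹, by simpa [π, mul_assoc] using hp⟩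
  have hfib : ∀ x ∈ X,
      (((Finset.univ : Finset G) ×ˢ dset K c).filter (fun p => π p = x)).card = Nat.card H := by
    intro x hx
    simp only [hX, Finset.mem_filter, Finset.mem_univ, true_and] at hx
    obtain ⟨g, hg⟩ := hx
    rw [Nat.card_eq_fintype_card, ← Finset.card_univ]
    symm
    refine Finset.card_bij (fun (h : H) _ =>
      ((g⁻¹ * (h : G)), (h : G)⁻¹ * (g * x * g⁻¹) * (h : G))) ?_ ?_ ?_
    · intro h _
      simp only [Finset.mem_filter, Finset.mem_product, dset, Finset.mem_univ, true_and]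
      refine ⟨?_, by simp [π, mul_assoc]⟩
      simpa [InD] using t.conjD _ (H.inv_mem h.2) _ hg.1 hg.2
    · intro a _ b _ e
      exact Subtype.ext (mul_left_cancel (Prod.ext_iff.mp e).1)
    · rintro ⟨p, s⟩ hp
      simp only [Finset.mem_filter, Finset.mem_product, dset, Finset.mem_univ, true_and, π] at hp
      obtain ⟨hs, hp⟩ := hp
      have e : g * p * s * (g * p)⁻¹ = g * x * g⁻¹ := by rw [← hp]; group
      have hmem : g * p ∈ H := t.tiD _ s hs.1 hs.2 (e ▸ hg.1) (e ▸ hg.2)
      refine ⟨⟨g * p, hmem⟩, Finset.mem_univ _, Prod.ext ?_ ?_⟩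
      · simp
      · show (g * p)⁻¹ * (g * x * g⁻¹) * (g * p) = s
        rw [← hp]; group
  have h2 : ∑ p ∈ (Finset.univ : Finset G) ×ˢ dset K c, F (π p) =
      (Nat.card H : ℂ) * ∑ x ∈ X, F x := by
    rw [← Finset.sum_fiberwise_of_maps_to hmap, Finset.mul_sum]
    refine Finset.sum_congr rfl fun x hx => ?_
    rw [Finset.sum_congr rfl (fun p hp => congrArg F (Finset.mem_filter.mp hp).2),
      Finset.sum_const, hfib x hx, nsmul_eq_mul]
  have h3 : ∑ p ∈ (Finset.univ : Finset G) ×ˢ dset K c, F (π p) =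
      (Nat.card G : ℂ) * ∑ s ∈ dset K c, F s := by
    rw [Finset.sum_product, Nat.card_eq_fintype_card, ← Finset.card_univ, ← nsmul_eq_mul,
      ← Finset.sum_const]
    exact Finset.sum_congr rfl fun g _ => Finset.sum_congr rfl fun s _ => hF s g
  rw [h1]
  linear_combination 3 * h3 - 3 * h2

theorem inner_indD {F : G → ℂ} (hF : IsClassFunction G F) :
    (Nat.card H : ℂ) * classInner (indD K c) F = 3 * ∑ s ∈ dset K c, conj (F s) := by
  have hc : IsClassFunction G (fun x => conj (F x)) := fun x h => congrArg conj (hF x h)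
  have h := t.sum_indD hc
  rw [Chars.inner_def]
  field_simp [Chars.card_ne_zero G]
  linear_combination h

theorem exists_hom : ∃ l : K →* ℂˣ, ∀ k : K, ((l k : ℂˣ) : ℂ) = zpow3 (c k) := by
  let f : K →* ℂ :=
    { toFun := fun k => zpow3 (c k)
      map_one' := by
        show zpow3 (c ((1 : K) : G)) = 1
        rw [OneMemClass.coe_one, t.one_eq, zpow3_zero]
      map_mul' := fun a b => by
        show zpow3 (c ((a * b : K) : G)) = _
        rw [Subgroup.coe_mul, t.mul _ a.2 _ b.2, zpow3_add] }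
  exact ⟨f.toHomUnits, fun k => rfl⟩

theorem three_sum_dset [Fintype K] (F : G → ℂ) :
    3 * ∑ s ∈ dset K c, F s =
      2 * ∑ k : K, F k - ∑ k : K, F k * zpow3 (c k) - ∑ k : K, F k * zpow3 (-(c k)) := by
  classical
  have h1 : ∑ s ∈ dset K c, F s = ∑ k : K, if c k ≠ 0 then F k else 0 := by
    rw [← Finset.sum_filter]
    symm
    refine Finset.sum_bij (fun k _ => (k : G)) ?_ (fun _ _ _ _ e => Subtype.ext e) ?_
      (fun _ _ => rfl)
    · intro k hk
      simp only [Finset.mem_filter, dset, Finset.mem_univ, true_and] at hk ⊢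
      exact ⟨k.2, hk⟩
    · intro s hs
      simp only [Finset.mem_filter, dset, Finset.mem_univ, true_and] at hs
      exact ⟨⟨s, hs.1⟩, by simpa using hs.2, rfl⟩
  rw [h1, Finset.mul_sum, Finset.mul_sum, ← Finset.sum_sub_distrib, ← Finset.sum_sub_distrib]
  refine Finset.sum_congr rfl fun k _ => ?_
  have h := indicator_zpow3 (c k)
  by_cases hk : c k ≠ 0
  · rw [if_pos hk] at h ⊢
    linear_combination F k * h
  · rw [if_neg hk] at h ⊢
    linear_combination F k * h

theorem sum_char {χ : G → ℂ} (hχ : IsCharacter G χ) :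
    ∃ m : ℤ, 3 * ∑ s ∈ dset K c, χ s = (Nat.card H : ℂ) * m := by
  classical
  obtain ⟨l, hl⟩ := t.exists_hom
  haveI : Fintype K := Fintype.ofFinite K
  obtain ⟨σ, hσH, hσ⟩ := t.inv
  obtain ⟨a, ha⟩ := Chars.inner_char_nat (Chars.isCharacter_restrict K hχ)
    (Chars.isCharacter_one (G := K))
  obtain ⟨m, hm⟩ := Chars.inner_char_nat (Chars.isCharacter_restrict K hχ)
    (Chars.isCharacter_of_irr (Chars.isIrrCharacter_linear l))
  rw [Chars.inner_def, inv_mul_eq_iff_eq_mul₀ (Chars.card_ne_zero K)] at ha hm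
  simp only [map_one, mul_one, hl, conj_zpow3] at ha hm
  let e : K → K := fun k => ⟨σ * k * σ⁻¹, (hσ k k.2).1⟩
  have hbij : Function.Bijective e := Finite.injective_iff_bijective.1 fun a b h =>
    Subtype.ext (mul_left_cancel (mul_right_cancel (congrArg Subtype.val h)))
  have hflip : ∑ k : K, χ k * zpow3 (c k) = ∑ k : K, χ k * zpow3 (-(c k)) := by
    symm
    refine Fintype.sum_bijective e hbij _ _ fun k => ?_
    rw [(hσ k k.2).2, Chars.isClassFunction_of_isCharacter hχ]
  refine ⟨(a : ℤ) - m, ?_⟩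
  rw [t.three_sum_dset, hflip, ha, hm, ← t.index]
  push_cast
  ring

theorem three_card_dset : 3 * ((dset K c).card : ℂ) = (Nat.card H : ℂ) := by
  classical
  obtain ⟨k₁, hk₁, hc₁⟩ := t.surj
  haveI : Fintype K := Fintype.ofFinite K
  obtain ⟨σ, hσH, hσ⟩ := t.inv
  have hw : zpow3 1 = cubeRoot := by simp [zpow3, show (1 : ZMod 3).val = 1 from rfl]
  have hne : cubeRoot ≠ 1 := fun e => cubeRoot_im_ne (by rw [e]; simp)
  have h0 : ∑ k : K, zpow3 (c k) = 0 := by
    have h := Equiv.sum_comp (Equiv.mulLeft (⟨k₁, hk₁⟩ : K)) (fun k : K => zpow3 (c k))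
    simp only [Equiv.coe_mulLeft, Subgroup.coe_mul] at h
    rw [Finset.sum_congr rfl (fun k _ => by rw [t.mul _ hk₁ _ k.2, zpow3_add, hc₁, hw]),
      ← Finset.mul_sum] at h
    exact (mul_left_eq_self₀.1 h).resolve_left hne
  let e : K → K := fun k => ⟨σ * k * σ⁻¹, (hσ k k.2).1⟩
  have hbij : Function.Bijective e := Finite.injective_iff_bijective.1 fun a b h =>
    Subtype.ext (mul_left_cancel (mul_right_cancel (congrArg Subtype.val h)))
  have h0' : ∑ k : K, zpow3 (-(c k)) = 0 := by
    rw [← h0]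
    refine Fintype.sum_bijective e hbij _ _ fun k => ?_
    rw [(hσ k k.2).2]
  have h := t.three_sum_dset (fun _ => (1 : ℂ))
  simp only [Finset.sum_const, Finset.card_univ, nsmul_eq_mul, mul_one, one_mul, h0, h0',
    sub_zero] at h
  rw [h, ← t.index, Nat.card_eq_fintype_card]
  push_cast
  ring

/-- An involution no two conjugates of which multiply into the special set lies in a normal
subgroup missing it. -/
theorem exists_normal {v : G} (hv : v * v = 1) (hD2 : ∀ s, InD K c s → s * s ≠ 1)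
    (hprod : ∀ x y : G, IsConj v x → IsConj v y → ¬ InD K c (x * y)) :
    ∃ N : Subgroup G, N.Normal ∧ v ∈ N ∧ ∀ s, InD K c s → s ∉ N := by
  classical
  have hcl := isClassFunction_indD (K := K) (c := c)
  have hH0 : (Nat.card H : ℂ) ≠ 0 := Chars.card_ne_zero H
  have hon : ∀ s, InD K c s → indD K c s = 3 := fun s hs => by
    rw [indD, if_pos ⟨1, by simpa using hs⟩]
  have hoff : ∀ x : G, x * x = 1 → indD K c x = 0 := fun x hx => by
    rw [indD, if_neg]
    rintro ⟨g, hg⟩
    refine hD2 _ hg ?_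
    calc g * x * g⁻¹ * (g * x * g⁻¹) = g * (x * x) * g⁻¹ := by group
      _ = 1 := by rw [hx, mul_one, mul_inv_cancel]
  have h1 : classInner (indD K c) (fun _ => (1 : ℂ)) = 1 := by
    have h := t.inner_indD (F := fun _ => (1 : ℂ)) (fun _ _ => rfl)
    simp only [map_one, Finset.sum_const, nsmul_eq_mul, mul_one, t.three_card_dset] at h
    exact mul_left_cancel₀ hH0 (h.trans (mul_one _).symm)
  have h3 : classInner (indD K c) (indD K c) = 3 := by
    have h := t.inner_indD hcl
    rw [Finset.sum_congr rfl (fun s hs => show conj (indD K c s) = 3 by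
      rw [hon s (Finset.mem_filter.mp hs).2]; exact map_ofNat _ 3), Finset.sum_const,
      nsmul_eq_mul] at h
    refine mul_left_cancel₀ hH0 ?_
    rw [h, ← t.three_card_dset]
    ring
  have hint : ∀ χ : IrrCharacter G, ∃ m : ℤ, classInner (indD K c) χ = m := by
    intro χ
    obtain ⟨k, hk⟩ := t.sum_char (Chars.isCharacter_of_irr χ.2)
    refine ⟨k, mul_left_cancel₀ hH0 ?_⟩
    rw [t.inner_indD (Chars.isClassFunction_irr χ), ← map_sum]
    have := congrArg conj hk
    rw [map_mul, map_ofNat, map_mul, map_intCast, map_natCast] at this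
    exact this
  obtain ⟨X, Y, a, b, ha, hb, hf⟩ := norm_three hcl hint h3 h1
  have e1 := hf 1
  rw [hoff 1 (mul_one 1)] at e1
  have eU := hf v
  rw [hoff v hv] at eU
  set C := Finset.univ.filter (fun x : G => IsConj v x) with hCdef
  have hC : ∀ x, x ∈ C ↔ IsConj v x := by simp [hCdef]
  have hzero : ∀ x ∈ C, ∀ y ∈ C, indD K c (x * y) = 0 := by
    intro x hx y hy
    rw [hC] at hx hy
    rw [indD, if_neg]
    rintro ⟨g, hg⟩
    rw [show g * (x * y) * g⁻¹ = g * x * g⁻¹ * (g * y * g⁻¹) by group] at hg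
    exact hprod _ _ (hx.trans (isConj_iff.mpr ⟨g, rfl⟩)) (hy.trans (isConj_iff.mpr ⟨g, rfl⟩)) hg
  have hcount : (0 : ℂ) = (C.card : ℂ) ^ 2 + a * ((C.card : ℂ) ^ 2 *
      (X : G → ℂ) v ^ 2 / (X : G → ℂ) 1) + b * ((C.card : ℂ) ^ 2 *
      (Y : G → ℂ) v ^ 2 / (Y : G → ℂ) 1) := by
    rw [← sum_class_mul v X C hC, ← sum_class_mul v Y C hC]
    have h0 : ∑ x ∈ C, ∑ y ∈ C, indD K c (x * y) = 0 :=
      Finset.sum_eq_zero fun x hx => Finset.sum_eq_zero fun y hy => hzero x hx y hy
    rw [← h0]
    simp only [hf, Finset.sum_add_distrib, ← Finset.mul_sum, Finset.sum_const, nsmul_eq_mul,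
      mul_one]
    ring
  have hK0 : (C.card : ℂ) ≠ 0 := Nat.cast_ne_zero.mpr
    (Finset.card_pos.mpr ⟨v, (hC _).mpr (IsConj.refl _)⟩).ne'
  set x := (X : G → ℂ) 1 with hx
  set y := (Y : G → ℂ) 1 with hy
  set p := (X : G → ℂ) v with hp
  set q := (Y : G → ℂ) v with hq
  have hx0 : x ≠ 0 := Chars.irr_degree_ne_zero X.2
  have hy0 : y ≠ 0 := Chars.irr_degree_ne_zero Y.2
  have hmain : (C.card : ℂ) ^ 2 * (x * y + a * p ^ 2 * y + b * q ^ 2 * x) = 0 := by
    field_simp at hcount
    linear_combination -hcount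
  have hm2 : x * y + a * p ^ 2 * y + b * q ^ 2 * x = 0 :=
    (mul_eq_zero.mp hmain).resolve_left (pow_ne_zero 2 hK0)
  have hby : b * y = -(1 + a * x) := by linear_combination -e1
  have hbq : b * q = -(1 + a * p) := by linear_combination -eU
  have hpx : p = x := by
    have h4 : (b * y) * (a * x) + (b * y) * (a * p) ^ 2 + (b * q) ^ 2 * (a * x) = 0 := by
      linear_combination a * b * hm2 + (b * y * p ^ 2 * 0 + a * b * x * q ^ 2 * 0) * ha
    rw [hby, hbq] at h4
    have h5 : (a * x - a * p) ^ 2 = 0 := by linear_combination -h4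
    have h6 : a * (x - p) = 0 := by rw [mul_sub]; exact pow_eq_zero_iff (two_ne_zero) |>.mp h5
    rcases mul_eq_zero.mp h6 with h | h
    · exact absurd ha (by rw [h]; norm_num)
    · linear_combination -h
  have hqy : q = y := by
    have h4 : b * (q - y) = 0 := by linear_combination hbq - hby + (-a) * hpx
    rcases mul_eq_zero.mp h4 with h | h
    · exact absurd hb (by rw [h]; norm_num)
    · linear_combination h
  obtain ⟨N₁, hN₁, hm₁⟩ := exists_kernel X
  obtain ⟨N₂, hN₂, hm₂⟩ := exists_kernel Y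
  refine ⟨N₁ ⊓ N₂, inferInstance,
    ⟨(hm₁ _).mpr (hp ▸ hpx), (hm₂ _).mpr (hq ▸ hqy)⟩, fun s hs hsN => ?_⟩
  have e3 := hf s
  rw [hon s hs, (hm₁ _).mp hsN.1, (hm₂ _).mp hsN.2] at e3
  have : (3 : ℂ) = 0 := by linear_combination e3 - e1
  norm_num at this

end SpecialTI

end CfsgLib.ANineThree
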