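import Cfsg.Agent.Lib.ANineThree.TrichotomyCent
import Cfsg.Agent.S3331
import Cfsg.Agent.Lib.Base.Cores
import Cfsg.Agent.Lib.Small.PSLPrimes

/-!
The three possibilities for the centralizer of the four-group.
-/

set_option autoImplicit false
set_option maxRecDepth 100000
set_option linter.unusedSectionVars false
set_option linter.style.haveILetI false

namespace CfsgLib.ANineThree

namespace Tri

open Subgroup
open scoped Pointwise

universe u

variable {G : Type u} [Group G] [Finite G] {S : Data G}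

theorem card_Vg (T : Glue S) : Nat.card (Vg T) = 4 := by
  rw [← Nat.card_congr (Equiv.ofBijective (fun a => (⟨T.ψ (vk a), a, rfl⟩ : Vg T))
    ⟨fun a b h => vk_inj a b (T.inj (congrArg Subtype.val h)), fun ⟨g, a, h⟩ =>
      ⟨a, Subtype.ext h⟩⟩)]
  simp

theorem Vg_sq (T : Glue S) {w : G} (hw : w ∈ Vg T) : w * w = 1 := by
  obtain ⟨a, rfl⟩ := hw
  rw [← map_mul, vk_sq, map_one]

theorem v3_mem_Fg (T : Glue S) : T.v3 ∈ Fg T 1 := by
  obtain ⟨i, -, hi⟩ := p3K_eq
  exact ⟨i, by rw [hi, labHom_apply]; rfl⟩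

theorem v7_mem_Fg (T : Glue S) : T.v7 ∈ Fg T 0 := by
  obtain ⟨i, -, hi⟩ := p7K_eq
  exact ⟨i, by rw [hi, labHom_apply]; rfl⟩

theorem v3_mem_L_of (T : Glue S) {p : Fin 3} (hp : p ≠ 0) (h : Fg T p ≤ T.L) : T.v3 ∈ T.L := by
  obtain rfl | rfl : p = 1 ∨ p = 2 := by omega
  · exact h (v3_mem_Fg T)
  · obtain ⟨i, -, hi⟩ := p3K_eq
    obtain ⟨j, hj⟩ := rl_onto i
    have e : T.v3 = T.ψ rK * labHom T (fk 2 j) * (T.ψ rK)⁻¹ := by
      rw [← labHom_rl, ← map_inv, ← map_mul, ← map_mul, hj, hi, labHom_apply]; rfl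
    rw [e]
    exact mul_mem (mul_mem (rK_mem_L T) (h ⟨j, rfl⟩)) (inv_mem (rK_mem_L T))

theorem Fg_le_conj_range (T : Glue S) (p : Fin 3) :
    Fg T p ≤ T.ψ.range.map (MulAut.conj (T.ψ cK * S.g)).toMonoidHom := by
  rintro _ ⟨i, rfl⟩
  exact ⟨T.ψ (fk p i), ⟨fk p i, rfl⟩, rfl⟩

theorem Vg_le_range (T : Glue S) : Vg T ≤ T.ψ.range := by
  rintro _ ⟨a, rfl⟩; exact ⟨vk a, rfl⟩

theorem fin_two_perm : ∀ τ : Fin 2 → Fin 2, (∀ q, τ (τ (τ q)) = q) → ∀ q, τ q = q := by
  decide +kernel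

/-- The five-letter four-group as a subgroup. -/
def F5g (q : Fin 2) : Subgroup (alternatingGroup (Fin 5)) where
  carrier := {x | ∃ i, f5 q i = x}
  one_mem' := ⟨0, f5_zero q⟩
  mul_mem' := by
    rintro _ _ ⟨a, rfl⟩ ⟨b, rfl⟩
    obtain ⟨c, hc⟩ := f5_mul q a b
    exact ⟨c, hc.symm⟩
  inv_mem' := by
    rintro _ ⟨a, rfl⟩
    exact ⟨a, by rw [inv_eq_of_mul_eq_one_right (by rw [← pow_two]; exact (f5_conj q a).1)]⟩

/-- The case of a quotient `A₅`. -/
theorem five_case (T : Glue S) (hy : centralizer ({S.e yH} : Set G) ≤ S.e.range)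
    (φ : T.L →* alternatingGroup (Fin 5)) (hsurj : Function.Surjective φ)
    (hker : ∀ x : T.L, φ x = 1 ↔ (x : G) ∈ Vg T) (hz : φ ⟨T.ψ zK, zK_mem_L T⟩ = c5) :
    T.v3 ∈ T.L ∧ T.L ≤ T.ψ.range ⊔ T.ψ.range.map (MulAut.conj (T.ψ cK * S.g)).toMonoidHom := by
  classical
  set Z : T.L := ⟨T.ψ zK, zK_mem_L T⟩
  set b := T.ψ aK with hb
  have hbN : b ∈ normalizer (T.L : Set G) := aK_normalizes_L T
  let α : T.L → T.L := fun x => ⟨b * x * b⁻¹, (mem_normalizer_iff.1 hbN x).1 x.2⟩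
  have αmul : ∀ x y, α (x * y) = α x * α y := fun x y => Subtype.ext (by simp [α, mul_assoc])
  have αker : ∀ x, φ (α x) = 1 ↔ φ x = 1 := fun x => by
    rw [hker, hker]
    refine ⟨fun h => ?_, fun h => (conj_aK_Vg T h).1⟩
    have h' := (conj_aK_Vg T h).2
    rwa [show b⁻¹ * (b * (x : G) * b⁻¹) * b = x by group] at h'
  have αeq : ∀ x y, φ x = φ y → φ (α x) = φ (α y) := fun x y h => by
    have h1 : φ (x * y⁻¹) = 1 := by rw [map_mul, map_inv, h, mul_inv_cancel]
    have h2 : α x = α (x * y⁻¹) * α y := by rw [← αmul, inv_mul_cancel_right]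
    rw [h2, map_mul, (αker _).2 h1, one_mul]
  have αz : α Z = Z := Subtype.ext (by
    show b * T.ψ zK * b⁻¹ = T.ψ zK
    rw [hb, ← map_mul, ← zK_facts.1, map_mul, mul_inv_cancel_right])
  have αone : α 1 = 1 := Subtype.ext (by simp [α])
  have αinv : ∀ x, α x⁻¹ = (α x)⁻¹ := fun x =>
    eq_inv_of_mul_eq_one_left (by rw [← αmul, inv_mul_cancel, αone])
  have αclass : ∀ x, (∃ q i, φ x = f5 q i) → ∃ q i, φ (α x) = f5 q i := by
    rintro x ⟨q, i, hx⟩
    refine f5_char _ ?_ ?_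
    · rw [← map_mul, ← αmul, αker, map_mul, hx, ← pow_two]; exact (f5_conj q i).1
    · have e : c5 * φ (α x) * c5⁻¹ = φ (α (Z * x * Z⁻¹)) := by
        rw [αmul, αmul, αz, αinv, αz, map_mul, map_mul, map_inv, hz]
      rw [e, ← map_mul, ← map_mul, ← αmul, ← αmul]
      refine αeq _ _ ?_
      simp only [map_mul, map_inv, hz, hx]
      exact f5_comm q i
  choose lift hlift using hsurj
  have himg : ∀ q, ∃ q' j, j ≠ 0 ∧ φ (α (lift (f5 q 1))) = f5 q' j := fun q => by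
    obtain ⟨q', j, h⟩ := αclass (lift (f5 q 1)) ⟨q, 1, hlift _⟩
    refine ⟨q', j, fun hj => ?_, h⟩
    rw [hj, f5_zero, αker, hlift] at h
    rw [← f5_zero q] at h
    exact absurd (f5_inj q q 1 0 h).1 (by decide)
  choose τ jj hjj hτ using himg
  have hτall : ∀ q i x, i ≠ 0 → φ x = f5 q i → ∃ l, l ≠ 0 ∧ φ (α x) = f5 (τ q) l := by
    intro q i x hi hx
    obtain ⟨q', l, hl⟩ := αclass x ⟨q, i, hx⟩
    have hl0 : l ≠ 0 := fun h0 => by
      rw [h0, f5_zero, αker, hx, ← f5_zero q] at hl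
      exact hi (f5_inj q q i 0 hl).1
    have hcomm : f5 q' l * f5 (τ q) (jj q) = f5 (τ q) (jj q) * f5 q' l := by
      rw [← hl, ← hτ q, ← map_mul, ← map_mul, ← αmul, ← αmul]
      refine αeq _ _ ?_
      rw [map_mul, map_mul, hx, hlift]
      obtain ⟨l1, h1⟩ := f5_mul q i 1
      have hs : ∀ m, (f5 q m)⁻¹ = f5 q m := fun m =>
        inv_eq_of_mul_eq_one_right (by rw [← pow_two]; exact (f5_conj q m).1)
      calc f5 q i * f5 q 1 = (f5 q i * f5 q 1)⁻¹ := by rw [h1, hs]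
        _ = f5 q 1 * f5 q i := by rw [mul_inv_rev, hs, hs]
    rw [f5_sep q' (τ q) l (jj q) hl0 (hjj q) hcomm] at hl
    exact ⟨l, hl0, hl⟩
  have hb3 : b ^ 3 = 1 := by rw [hb, ← map_pow, zK_facts.2.2.1, map_one]
  have α3 : ∀ x, α (α (α x)) = x := fun x => Subtype.ext (by
    show b * (b * (b * (x : G) * b⁻¹) * b⁻¹) * b⁻¹ = x
    calc b * (b * (b * (x : G) * b⁻¹) * b⁻¹) * b⁻¹ = b ^ 3 * x * (b ^ 3)⁻¹ := by rw [pow_succ, pow_two]; group
      _ = x := by rw [hb3, one_mul, inv_one, mul_one])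
  have hτid : ∀ q, τ q = q := by
    refine fin_two_perm τ fun q => ?_
    have h1 := hτ q
    obtain ⟨l, hl, h2⟩ := hτall _ _ _ (hjj q) h1
    obtain ⟨m, hm, h3⟩ := hτall _ _ _ hl h2
    rw [α3, hlift] at h3
    exact ((f5_inj q (τ (τ (τ q))) 1 m h3).2.resolve_left (by decide)).symm
  let Wf : Fin 2 → Subgroup G := fun q => ((F5g q).comap φ).map T.L.subtype
  have hWf : ∀ q (x : T.L), (x : G) ∈ Wf q ↔ ∃ i, f5 q i = φ x := fun q x =>
    mem_map_iff_mem (K := (F5g q).comap φ) T.L.subtype_injective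
  have hWL : ∀ q, Wf q ≤ T.L := fun q => map_subtype_le _
  have hVW : ∀ q, Vg T ≤ Wf q := fun q w hw =>
    (hWf q ⟨w, Vg_le_L T hw⟩).2 ⟨0, by rw [f5_zero]; exact ((hker _).2 hw).symm⟩
  have hcop : ∀ q, (Nat.card (Wf q)).Coprime 3 := fun q => by
    haveI : Fact (Nat.Prime 2) := ⟨Nat.prime_two⟩
    obtain ⟨n, hn⟩ := IsPGroup.iff_card.1 (show IsPGroup 2 (Wf q) from fun w => ⟨2, Subtype.ext (by
      obtain ⟨i, hi⟩ := (hWf q ⟨w, hWL q w.2⟩).1 w.2
      set x : T.L := ⟨w, hWL q w.2⟩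
      have h : φ (x * x) = 1 := by rw [map_mul, ← hi, ← pow_two]; exact (f5_conj q i).1
      have h' := Vg_sq T ((hker _).1 h)
      rw [SubgroupClass.coe_pow, OneMemClass.coe_one,
        show (2 : ℕ) ^ 2 = 2 * 2 from rfl, pow_mul, pow_two, pow_two]
      exact h')⟩)
    rw [hn]
    exact Nat.Coprime.pow_left n (by norm_num)
  have hzN : ∀ q, T.ψ zK ∈ normalizer (Wf q : Set G) := fun q => by
    refine mem_normalizer_iff.2 fun w => ⟨fun hw => ?_, fun hw => ?_⟩
    · obtain ⟨i, hi⟩ := (hWf q ⟨w, hWL q hw⟩).1 hw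
      obtain ⟨l, hl⟩ := (f5_conj q i).2.1
      exact (hWf q (Z * ⟨w, hWL q hw⟩ * Z⁻¹)).2
        ⟨l, by rw [map_mul, map_mul, map_inv, hz, ← hi, hl]⟩
    · obtain ⟨i, hi⟩ := (hWf q ⟨_, hWL q hw⟩).1 hw
      obtain ⟨l, hl⟩ := (f5_conj q i).2.2
      have h := (hWf q (Z⁻¹ * ⟨_, hWL q hw⟩ * Z)).2
        ⟨l, by rw [map_mul, map_mul, map_inv, hz, ← hi, hl]⟩
      simpa [Z, mul_assoc] using h
  have hbW : ∀ q, b ∈ normalizer (Wf q : Set G) := fun q => by
    have key : ∀ w ∈ Wf q, b * w * b⁻¹ ∈ Wf q := by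
      intro w hw
      obtain ⟨i, hi⟩ := (hWf q ⟨w, hWL q hw⟩).1 hw
      refine (hWf q (α ⟨w, hWL q hw⟩)).2 ?_
      rcases eq_or_ne i 0 with rfl | h0
      · exact ⟨0, by rw [f5_zero, eq_comm, αker, ← hi, f5_zero]⟩
      · obtain ⟨l, -, hl⟩ := hτall q i _ h0 hi.symm
        rw [hτid] at hl
        exact ⟨l, hl.symm⟩
    refine mem_normalizer_iff.2 fun w => ⟨key w, fun hw => ?_⟩
    have h := key _ (key _ hw)
    rwa [show b * (b * (b * w * b⁻¹) * b⁻¹) * b⁻¹ = b ^ 3 * w * (b ^ 3)⁻¹ by rw [pow_succ, pow_two]; group, hb3, one_mul,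
      inv_one, mul_one] at h
  have hnot : ∀ q, ¬ Wf q ≤ Vg T := fun q h => by
    have h1 := (hker _).2 (h ((hWf q (lift (f5 q 1))).2 ⟨1, (hlift _).symm⟩))
    rw [hlift, ← f5_zero q] at h1
    exact absurd (f5_inj q q 1 0 h1).1 (by decide)
  have hsplit := fun q => (split T hy (hWL q) (hcop q) (hzN q) (hbW q)).resolve_left (hnot q)
  choose p hp hpW using hsplit
  have hFW : ∀ q, Fg T (p q) ≤ Wf q := fun q => hp q ▸ inf_le_left
  have hne : p 0 ≠ p 1 := fun h => by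
    have hle : Wf 0 ≤ Wf 1 := (hpW 0).trans (sup_le (hVW 1) (h ▸ hFW 1))
    obtain ⟨i, hi⟩ := (hWf 1 (lift (f5 0 1))).1 (hle ((hWf 0 _).2 ⟨1, (hlift _).symm⟩))
    rw [hlift] at hi
    obtain ⟨rfl, h1⟩ := f5_inj 1 0 i 1 hi
    exact absurd h1 (by decide)
  refine ⟨?_, ?_⟩
  · by_cases h0 : p 0 = 0
    · exact v3_mem_L_of T (fun h1 => hne (h0.trans h1.symm)) ((hFW 1).trans (hWL 1))
    · exact v3_mem_L_of T h0 ((hFW 0).trans (hWL 0))
  · intro g hg
    set R := T.ψ.range ⊔ T.ψ.range.map (MulAut.conj (T.ψ cK * S.g)).toMonoidHom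
    have hWR : ∀ q, Wf q ≤ R := fun q =>
      (hpW q).trans (sup_le ((Vg_le_range T).trans le_sup_left)
        ((Fg_le_conj_range T _).trans le_sup_right))
    obtain ⟨i, j, l, m, hx⟩ := f5_gen (φ ⟨g, hg⟩)
    set y : T.L := lift (f5 0 i) * lift (f5 1 j) * lift (f5 0 l) * Z ^ m.1
    have hy' : φ y = φ ⟨g, hg⟩ := by
      rw [hx, map_mul, map_mul, map_mul, map_pow, hlift, hlift, hlift, hz]
    have hv : ((⟨g, hg⟩ * y⁻¹ : T.L) : G) ∈ Vg T := by
      rw [← hker, map_mul, map_inv, hy', mul_inv_cancel]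
    have e : g = ((⟨g, hg⟩ * y⁻¹ : T.L) : G) * (y : G) := by simp
    rw [e]
    refine mul_mem (le_sup_left (a := T.ψ.range) (Vg_le_range T hv)) ?_
    simp only [y, Subgroup.coe_mul, SubgroupClass.coe_pow]
    exact mul_mem (mul_mem (mul_mem (hWR 0 ((hWf 0 _).2 ⟨i, (hlift _).symm⟩))
      (hWR 1 ((hWf 1 _).2 ⟨j, (hlift _).symm⟩))) (hWR 0 ((hWf 0 _).2 ⟨l, (hlift _).symm⟩)))
      (pow_mem (le_sup_left (a := T.ψ.range) ⟨zK, rfl⟩) _)

/-- No quotient `L₂(7)`. -/
theorem not_card_672 (T : Glue S) (hy : centralizer ({S.e yH} : Set G) ≤ S.e.range) :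
    Nat.card T.L ≠ 672 := by
  intro hc
  haveI : Fact (Nat.Prime 7) := ⟨by norm_num⟩
  haveI : Fact (Nat.Prime 3) := ⟨Nat.prime_three⟩
  have hAN : ∀ k ∈ AK, T.ψ k ∈ normalizer (T.L : Set G) := by
    rintro _ ⟨i, j, rfl⟩
    rw [map_mul, map_pow, map_pow]
    exact mul_mem (pow_mem (le_normalizer (zK_mem_L T)) _) (pow_mem (aK_normalizes_L T) _)
  let φ : AK →* MulAut T.L :=
    T.L.normalizerMonoidHom.comp ((T.ψ.comp AK.subtype).codRestrict _ fun k => hAN k k.2)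
  have hφ : ∀ (k : AK) (x : T.L), ((φ k x : T.L) : G) = T.ψ k * x * (T.ψ k)⁻¹ := fun k x => rfl
  let : MulDistribMulAction AK T.L := MulDistribMulAction.compHom T.L φ
  have hA3 : IsPGroup 3 AK := fun d => ⟨1, Subtype.ext (by
    rw [SubgroupClass.coe_pow, pow_one, AK_three d.2, OneMemClass.coe_one])⟩
  have h3 : ¬ 3 ∣ Nat.card (Sylow 7 T.L) := by
    obtain ⟨P⟩ := (inferInstance : Nonempty (Sylow 7 T.L))
    have hd : Nat.card (Sylow 7 T.L) ∣ 672 :=
      hc ▸ P.card_dvd_index.trans (P : Subgroup T.L).index_dvd_card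
    have hm : Nat.card (Sylow 7 T.L) ∈ Nat.divisors 672 := Nat.mem_divisors.2 ⟨hd, by norm_num⟩
    intro h
    have hbad : ∀ n ∈ Nat.divisors 672, n % 7 = 1 → ¬ 3 ∣ n := by decide +kernel
    exact hbad _ hm (card_sylow_modEq_one 7 T.L) h
  obtain ⟨P, hP⟩ := hA3.nonempty_fixed_point_of_prime_not_dvd_card (Sylow 7 T.L) h3
  set W := (P : Subgroup T.L).map T.L.subtype
  have hinv : ∀ k ∈ AK, ∀ w ∈ W, T.ψ k * w * (T.ψ k)⁻¹ ∈ W := by
    rintro k hk _ ⟨x, hx, rfl⟩
    refine ⟨φ ⟨k, hk⟩ x, ?_, hφ _ x⟩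
    have h1 : (⟨k, hk⟩ : AK) • x ∈ (⟨k, hk⟩ : AK) • (P : Subgroup T.L) :=
      smul_mem_pointwise_smul x _ _ hx
    rw [← Sylow.pointwise_smul_def, hP ⟨k, hk⟩] at h1
    exact h1
  have hN : ∀ k ∈ AK, T.ψ k ∈ normalizer (W : Set G) := fun k hk =>
    mem_normalizer_iff.2 fun w => ⟨hinv k hk w, fun hw => by
      have h := hinv k⁻¹ (inv_mem hk) _ hw
      rwa [map_inv, show (T.ψ k)⁻¹ * (T.ψ k * w * (T.ψ k)⁻¹) * (T.ψ k)⁻¹⁻¹ = w by group] at h⟩
  obtain ⟨n, hn⟩ := IsPGroup.iff_card.1 P.2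
  have hcW : Nat.card W = 7 ^ n := by rw [card_subtype, hn]
  have h7 : 7 ∣ Nat.card W := by
    rw [card_subtype]; exact P.dvd_card_of_dvd_card (by rw [hc]; norm_num)
  rcases split T hy (map_subtype_le _) (by rw [hcW]; exact Nat.Coprime.pow_left n (by norm_num))
    (hN zK zK_mem_AK) (hN aK aK_mem_AK) with h | ⟨p, hp, -⟩
  · have := h7.trans (card_dvd_of_le h)
    rw [card_Vg] at this
    norm_num at this
  · have hu : labHom T (fk p 1) ∈ W := (hp.symm.le ⟨1, rfl⟩).1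
    have h1 := pow_card_mem hu
    rw [hcW] at h1
    have h2 : labHom T (fk p 1) ^ 2 = 1 := by rw [← map_pow, pow_two, fk_sq, map_one]
    have h0 := orderOf_eq_one_iff.1 (Nat.eq_one_of_dvd_coprimes
      (Nat.Coprime.pow_left n (by norm_num : Nat.Coprime 7 2))
      (orderOf_dvd_of_pow_eq_one h1) (orderOf_dvd_of_pow_eq_one h2))
    rw [← map_one (labHom T), ← fk_zero p] at h0
    exact absurd (fk_inj p p 1 0 (labHom_inj T h0)).1 (by decide)

end Tri

open Subgroup Tri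

universe u

/-- The three possibilities for the centralizer of the four-group. -/
theorem trichotomy : StmtTrichotomy.{u} := by
  intro G _ _ S T hloc
  classical
  have hy := hloc.cent_y
  set V' : Subgroup T.L := (Vg T).subgroupOf T.L
  haveI hVn : V'.Normal := ⟨fun v hv g => by
    rw [mem_subgroupOf] at hv ⊢
    rw [coe_mul, coe_mul, coe_inv, comm_Vg T g.2 hv, mul_inv_cancel_right]
    exact hv⟩
  have hV4 : Nat.card V' = 4 := by
    rw [Nat.card_congr (subgroupOfEquivOfLe (Vg_le_L T)).toEquiv, card_Vg]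
  set q := QuotientGroup.mk' V'
  have hq : ∀ x : T.L, q x = 1 ↔ (x : G) ∈ Vg T := fun x => QuotientGroup.eq_one_iff x
  set Z : T.L := ⟨T.ψ zK, zK_mem_L T⟩
  have hZ3 : Z ^ 3 = 1 := Subtype.ext (by
    rw [SubgroupClass.coe_pow, ← map_pow, zK_facts.2.1, map_one, OneMemClass.coe_one])
  have hZV : q Z ≠ 1 := fun h => by
    have h2 := Vg_sq T ((hq Z).1 h)
    have h2' : T.ψ zK * T.ψ zK = 1 := h2
    have h3 := congrArg Subtype.val hZ3
    rw [SubgroupClass.coe_pow, OneMemClass.coe_one, pow_succ, pow_two] at h3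
    rw [h2', one_mul] at h3
    exact zK_facts.2.2.2.2.2.2.1 (T.inj (h3.trans (map_one _).symm))
  have hqZ : orderOf (q Z) = 3 :=
    orderOf_eq_prime (hp := ⟨Nat.prime_three⟩) (by rw [← map_pow, hZ3, map_one]) hZV
  have hcard3 : Nat.card (zpowers (q Z)) = 3 := by rw [Nat.card_zpowers, hqZ]
  have hC : centralizer (zpowers (q Z) : Set (T.L ⧸ V')) = zpowers (q Z) := by
    refine le_antisymm (fun c hc => ?_) fun c hc => mem_centralizer_iff.2 fun d hd => ?_
    · obtain ⟨c, rfl⟩ := QuotientGroup.mk'_surjective V' c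
      have h := mem_centralizer_iff.1 hc _ (mem_zpowers (q Z))
      have hv : ((c * Z * c⁻¹ * Z⁻¹ : T.L) : G) ∈ Vg T := by
        rw [← hq, map_mul, map_mul, map_mul, map_inv, map_inv, ← h, mul_inv_cancel_right,
          mul_inv_cancel]
      set v := c * Z * c⁻¹ * Z⁻¹ with hvdef
      have hvZ : Commute v Z := Subtype.ext (comm_Vg T Z.2 hv).symm
      have h1 : v ^ 3 = 1 := by
        have e : c * Z * c⁻¹ = v * Z := by rw [hvdef]; group
        have := congrArg (· ^ 3) e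
        simp only [conj_pow, hvZ.mul_pow, hZ3, mul_one, mul_inv_cancel] at this
        exact this.symm
      have h2 : v * v = 1 := Subtype.ext (Vg_sq T hv)
      rw [pow_succ, pow_two, h2, one_mul] at h1
      have hcz : (c : G) * T.ψ zK = T.ψ zK * c := by
        refine congrArg Subtype.val (?_ : c * Z = Z * c)
        rw [hvdef, mul_inv_eq_one, mul_inv_eq_iff_eq_mul] at h1
        exact h1
      obtain ⟨i, a, hca⟩ := cent_z_L T c.2 hcz
      have e : q c = q Z ^ i.1 := by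
        rw [← map_pow, ← mul_inv_eq_one, ← map_inv, ← map_mul, hq, coe_mul, coe_inv,
          SubgroupClass.coe_pow, hca]
        have hc' : Commute (T.ψ zK ^ i.1) (T.ψ (vk a)) := by
          refine Commute.pow_left ?_ _
          show T.ψ zK * T.ψ (vk a) = _
          rw [← map_mul, ← (vk_facts a).1, map_mul]
        rw [hc'.eq, mul_inv_cancel_right]
        exact ⟨a, rfl⟩
      rw [e]; exact pow_mem (mem_zpowers _) _
    · obtain ⟨i, rfl⟩ := mem_zpowers_iff.1 hc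
      obtain ⟨j, rfl⟩ := mem_zpowers_iff.1 hd
      exact ((Commute.refl (q Z)).zpow_zpow j i).eq
  have hLc : Nat.card T.L = Nat.card (T.L ⧸ V') * 4 := by
    rw [← hV4]; exact card_eq_card_quotient_mul_card_subgroup V'
  -- the largest normal subgroup of order prime to three
  set W := (Cfsg.pPrimeCore 3 T.L).map T.L.subtype
  have hWc : (Nat.card W).Coprime 3 := by
    rw [card_subtype]; exact CfsgLib.Base.pPrimeCore_coprime 3 T.L
  have hWN : normalizer (T.L : Set G) ≤ normalizer (W : Set G) := by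
    have key : ∀ g ∈ normalizer (T.L : Set G), ∀ w ∈ W, g * w * g⁻¹ ∈ W := by
      rintro g hg _ ⟨x, hx, rfl⟩
      have h := characteristic_iff_map_eq.1
        (inferInstance : (Cfsg.pPrimeCore 3 T.L).Characteristic) (T.L.normalizerMonoidHom ⟨g, hg⟩)
      refine ⟨T.L.normalizerMonoidHom ⟨g, hg⟩ x, ?_, rfl⟩
      rw [← h]
      exact ⟨x, hx, rfl⟩
    refine fun g hg => mem_normalizer_iff.2 fun w => ⟨key g hg w, fun hw => ?_⟩
    have h := key g⁻¹ (inv_mem hg) _ hw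
    rwa [show g⁻¹ * (g * w * g⁻¹) * g⁻¹⁻¹ = w by group] at h
  by_cases hWV : W ≤ Vg T
  swap
  · obtain ⟨p, hp, -⟩ := (split T hy (map_subtype_le _) hWc (hWN (le_normalizer (zK_mem_L T)))
      (hWN (aK_normalizes_L T))).resolve_left hWV
    left
    have hrW : T.ψ rK ∈ normalizer (W : Set G) := hWN (le_normalizer (rK_mem_L T))
    have hra : T.ψ rK * T.ψ aK = T.ψ aK * T.ψ rK := by
      rw [← map_mul, zK_facts.2.2.2.2.2.1, map_mul]
    have hswap : ∀ i, labHom T (rl * fk p i * rl⁻¹) ∈ Fg T p := fun i => by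
      have hmem : labHom T (fk p i) ∈ W ⊓ centralizer ({T.ψ aK} : Set G) := hp.symm ▸ ⟨i, rfl⟩
      rw [← hp, map_mul, map_mul, map_inv, labHom_rl]
      refine ⟨(mem_normalizer_iff.1 hrW _).1 hmem.1, mem_centralizer_singleton_iff.2 ?_⟩
      exact (((show Commute (T.ψ rK) _ from hra).mul_left
        (mem_centralizer_singleton_iff.1 hmem.2)).mul_left
        (show Commute (T.ψ rK) _ from hra).inv_left).eq
    have h0 : p = 0 := by
      by_contra h0
      obtain ⟨j, hj⟩ := hswap 1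
      have hinj := labHom_inj T hj
      obtain rfl | rfl : p = 1 ∨ p = 2 := by omega
      · obtain ⟨l, hl⟩ := (rl_swap 1).1
        rw [hl] at hinj
        obtain ⟨e1, e2 | e2⟩ := fk_inj 1 2 j l hinj
        · exact ((rl_swap 1).2.2 (by decide)).1 (by rw [hl, ← e1, e2, fk_zero])
        · exact absurd e2 (by decide)
      · obtain ⟨l, hl⟩ := (rl_swap 1).2.1
        rw [hl] at hinj
        obtain ⟨e1, e2 | e2⟩ := fk_inj 2 1 j l hinj
        · exact ((rl_swap 1).2.2 (by decide)).2 (by rw [hl, ← e1, e2, fk_zero])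
        · exact absurd e2 (by decide)
    subst h0
    exact map_subtype_le _ (hp.symm.le (v7_mem_Fg T)).1
  -- the core is the four-group
  have hnormal : ∀ N : Subgroup (T.L ⧸ V'), N.Normal → (Nat.card N).Coprime 3 → N = ⊥ := by
    intro N hN hcop
    have hc : Nat.card (N.comap q) = Nat.card N * 4 := by
      have h1 := (N.comap q).card_mul_index
      rw [index_comap_of_surjective _ (QuotientGroup.mk'_surjective V'), hLc,
        ← N.card_mul_index] at h1
      exact mul_right_cancel₀ index_ne_zero_of_finite (by rw [h1]; ring)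
    have hle : N.comap q ≤ Cfsg.pPrimeCore 3 T.L :=
      CfsgLib.Base.le_pPrimeCore (by rw [hc]; exact hcop.mul_left (by norm_num))
    refine (eq_bot_iff_forall N).2 fun n hn => ?_
    obtain ⟨x, rfl⟩ := QuotientGroup.mk'_surjective V' n
    exact (hq x).2 (hWV ⟨x, hle hn, rfl⟩)
  rcases Cfsg.Agent.S3331.result (zpowers (q Z)) hcard3 hC with
    ⟨N, hN, -, hcop, hquot⟩ | ⟨N, hN, -, hN2, ⟨e⟩⟩ | ⟨⟨e⟩⟩
  · right; left
    obtain rfl := hnormal N hN hcop
    have hcard : Nat.card (T.L ⧸ V') = 3 ∨ Nat.card (T.L ⧸ V') = 6 := by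
      rw [← Nat.card_congr (QuotientGroup.quotientBot (G := T.L ⧸ V')).toEquiv]
      rcases hquot with h | ⟨⟨e⟩⟩
      · exact Or.inl h
      · exact Or.inr (by
          rw [Nat.card_congr e.toEquiv, Nat.card_perm, Nat.card_fin]; rfl)
    set R : Subgroup T.L := T.ψ.range.subgroupOf T.L
    have hVR : ∀ x : T.L, q x = 1 → x ∈ R := fun x h => Vg_le_range T ((hq x).1 h)
    have htop : R.map q = ⊤ := by
      have hz : zpowers (q Z) ≤ R.map q := zpowers_le.2 ⟨Z, ⟨zK, rfl⟩, rfl⟩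
      set r : T.L := ⟨T.ψ rK, rK_mem_L T⟩
      have hr : q r ∈ R.map q := ⟨r, ⟨rK, rfl⟩, rfl⟩
      have hrn : q r ∉ zpowers (q Z) := fun h => by
        obtain ⟨i, hi⟩ := mem_zpowers_iff.1 h
        have hc : q r * q Z * (q r)⁻¹ = q Z := by
          rw [← hi, ((Commute.refl (q Z)).zpow_left i).eq, mul_inv_cancel_right]
        have hinv : q r * q Z * (q r)⁻¹ = (q Z)⁻¹ := by
          rw [← map_inv, ← map_inv, ← map_mul, ← map_mul]
          refine congrArg q (Subtype.ext ?_)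
          show T.ψ rK * T.ψ zK * (T.ψ rK)⁻¹ = (T.ψ zK)⁻¹
          rw [← map_inv, ← map_mul, ← map_mul, ← map_inv, zK_facts.2.2.2.2.1]
        rw [hc] at hinv
        have h2 : q Z ^ 2 = 1 := by rw [pow_two, ← eq_inv_iff_mul_eq_one]; exact hinv
        have := orderOf_dvd_of_pow_eq_one h2
        rw [hqZ] at this
        norm_num at this
      refine eq_top_of_card_eq _ ?_
      have h3 := card_dvd_of_le hz
      rw [hcard3] at h3
      have hd := (R.map q).card_subgroup_dvd_card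
      have hlt : Nat.card (zpowers (q Z)) < Nat.card (R.map q) := by
        refine lt_of_le_of_ne (card_le_of_le hz) fun he => hrn ?_
        exact (eq_of_le_of_card_ge hz he.ge).symm ▸ hr
      rw [hcard3] at hlt
      have hle := Nat.le_of_dvd Nat.card_pos hd
      rcases hcard with h | h <;> rw [h] at hle ⊢
      · omega
      · obtain ⟨k, hk⟩ := h3
        omega
    intro g hg
    have hg' : q ⟨g, hg⟩ ∈ R.map q := htop ▸ mem_top _
    obtain ⟨x, hx, hxe⟩ := hg'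
    have h1 : x⁻¹ * ⟨g, hg⟩ ∈ R := hVR _ (by rw [map_mul, map_inv, hxe, inv_mul_cancel])
    have h2 := mul_mem hx h1
    rw [mul_inv_cancel_left] at h2
    exact h2
  · right; right
    have hb : N = ⊥ := hnormal N hN (by
      haveI : Fact (Nat.Prime 2) := ⟨Nat.prime_two⟩
      obtain ⟨j, hj⟩ := IsPGroup.iff_card.1
        (show IsPGroup 2 N from fun n => ⟨1, Subtype.ext (by simpa using hN2 n n.2)⟩)
      rw [hj]; exact Nat.Coprime.pow_left j (by norm_num))
    subst hb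
    set e' := QuotientGroup.quotientBot.symm.trans e
    obtain ⟨g, hg⟩ := order_three_conj (e' (q Z))
      (by rw [← map_pow, ← map_pow q, hZ3, map_one, map_one])
      (fun h => hZV ((EmbeddingLike.map_eq_one_iff).1 h))
    let φ : T.L →* alternatingGroup (Fin 5) :=
      (MulAut.conj g).toMonoidHom.comp (e'.toMonoidHom.comp q)
    refine five_case T hy φ ((MulAut.conj g).surjective.comp
      (e'.surjective.comp (QuotientGroup.mk'_surjective V'))) (fun x => ?_) hg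
    rw [← hq]
    show g * e' (q x) * g⁻¹ = 1 ↔ _
    rw [conj_eq_one_iff, EmbeddingLike.map_eq_one_iff]
  · exfalso
    refine not_card_672 T hy ?_
    haveI : Fact (Nat.Prime 7) := ⟨by norm_num⟩
    have h := CfsgLib.Small.card_PSL_two_prime (F := ZMod 7) (p := 7) (ZMod.card 7) (by decide)
    rw [hLc, Nat.card_congr e.toEquiv]
    omega

end CfsgLib.ANineThree
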