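import Cfsg.Agent.Lib.ANineThree.Basic

/-!
Finite facts about the stabilizer of the first block used for the centralizer of the four-group.
-/

set_option autoImplicit false
set_option maxRecDepth 100000

namespace CfsgLib.ANineThree.Tri

open Equiv

/-- A permutation of the first block times one of the other six letters. -/
def emb : Perm (Fin 3) × Perm (Fin 6) →* P9 :=
  (finSumFinEquiv : Fin 3 ⊕ Fin 6 ≃ Fin 9).permCongrHom.toMonoidHom.comp
    (Perm.sumCongrHom (Fin 3) (Fin 6))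

theorem emb_inj : Function.Injective emb := fun _ _ h =>
  Perm.sumCongrHom_injective
    ((finSumFinEquiv : Fin 3 ⊕ Fin 6 ≃ Fin 9).permCongrHom.injective h)

theorem sign_emb (p : Perm (Fin 3) × Perm (Fin 6)) :
    Perm.sign (emb p) = Perm.sign p.1 * Perm.sign p.2 := by
  show Perm.sign ((finSumFinEquiv : Fin 3 ⊕ Fin 6 ≃ Fin 9).permCongr (Perm.sumCongr p.1 p.2)) = _
  rw [Perm.sign_permCongr, Perm.sign_sumCongr]

/-- `(0 1 2)` on three letters -/
def c3 : Perm (Fin 3) := swap 0 1 * swap 1 2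
/-- `(3 4 5)` seen on six letters -/
def c6 : Perm (Fin 6) := swap 0 1 * swap 1 2

theorem cent_c3 : ∀ s : Perm (Fin 3), s * c3 = c3 * s → ∃ i : Fin 3, s = c3 ^ i.1 := by
  decide +kernel

theorem emb_z : emb (c3, 1) = z := by decide +kernel

/-- Elements of the block stabilizer commuting with `z`. -/
theorem exists_split {k : K} (hk : k * zK = zK * k) :
    ∃ (i : Fin 3) (π : Perm (Fin 6)), Perm.sign π = 1 ∧ (k : P9) = emb (c3 ^ i.1, π) := by
  have hm := mem_K.1 k.2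
  obtain ⟨p, hp⟩ : (finSumFinEquiv : Fin 3 ⊕ Fin 6 ≃ Fin 9).permCongrHom.symm (k : P9) ∈
      (Perm.sumCongrHom (Fin 3) (Fin 6)).range := by
    refine Perm.mem_sumCongrHom_range_of_perm_mapsTo_inl ?_
    rintro x ⟨j, rfl⟩
    set w := (finSumFinEquiv : Fin 3 ⊕ Fin 6 ≃ Fin 9).permCongrHom.symm (k : P9) (Sum.inl j)
      with hw
    have h1 : (finSumFinEquiv w).1 < 3 := by
      have h2 := (hm.2 (finSumFinEquiv (Sum.inl j : Fin 3 ⊕ Fin 6))).2 (by
        rw [finSumFinEquiv_apply_left, Fin.val_castAdd]; exact j.2)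
      have : finSumFinEquiv w = (k : P9) (finSumFinEquiv (Sum.inl j : Fin 3 ⊕ Fin 6)) := by
        rw [hw]; simp [Equiv.permCongr_apply]
      rw [this]; exact h2
    rcases w with a | b
    · exact ⟨a, rfl⟩
    · rw [finSumFinEquiv_apply_right, Fin.val_natAdd] at h1
      omega
  have hkp : (k : P9) = emb p := by
    show _ = (finSumFinEquiv : Fin 3 ⊕ Fin 6 ≃ Fin 9).permCongrHom _
    rw [hp, MulEquiv.apply_symm_apply]
  have hz : (k : P9) * z = z * (k : P9) := congrArg (fun g : K => (g : P9)) hk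
  rw [hkp, ← emb_z, ← map_mul, ← map_mul] at hz
  obtain ⟨i, hi⟩ := cent_c3 p.1 (congrArg Prod.fst (emb_inj hz))
  refine ⟨i, p.2, ?_, ?_⟩
  · have hs := hm.1
    rwa [hkp, sign_emb, hi, map_pow, show Perm.sign c3 = 1 by decide, one_pow, one_mul] at hs
  · rw [hkp, ← hi]

theorem c3_pow_eq_one : ∀ i : Fin 3, c3 ^ i.1 = 1 → i = 0 := by decide +kernel

theorem c3_cube : c3 ^ 3 = 1 := by decide +kernel

/-- An element of order prime to three commuting with `z` acts trivially on the first block. -/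
theorem exists_split_coprime {k : K} (hk : k * zK = zK * k) {n : ℕ} (hn : k ^ n = 1)
    (hcop : n.Coprime 3) :
    ∃ π : Perm (Fin 6), Perm.sign π = 1 ∧ (k : P9) = emb (1, π) ∧ π ^ n = 1 := by
  obtain ⟨i, π, hπ, hkp⟩ := exists_split hk
  have h : (k : P9) ^ n = 1 := by rw [← SubgroupClass.coe_pow, hn, OneMemClass.coe_one]
  rw [hkp, ← map_pow, ← map_one emb] at h
  have h' := emb_inj h
  have h1 : (c3 ^ i.1) ^ n = 1 := congrArg Prod.fst h'
  have h3 : (c3 ^ i.1) ^ 3 = 1 := by rw [← pow_mul, mul_comm, pow_mul, c3_cube, one_pow]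
  have h0 := orderOf_eq_one_iff.1 (Nat.eq_one_of_dvd_coprimes hcop
    (orderOf_dvd_of_pow_eq_one h1) (orderOf_dvd_of_pow_eq_one h3))
  exact ⟨π, hπ, by rw [hkp, h0], congrArg Prod.snd h'⟩

/-- The three four-groups on `3, 4, 5` and one of `6, 7, 8`. -/
def f6 (p : Fin 3) : Fin 4 → Perm (Fin 6) :=
  let q : Fin 6 := ⟨p.1 + 3, by omega⟩
  ![1, swap 0 1 * swap 2 q, swap 1 2 * swap 0 q, swap 2 0 * swap 1 q]

/-- An element of order other than three. -/
def NoThree {M : Type*} [Monoid M] (x : M) : Prop := x * x * x = 1 → x = 1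

theorem noThree_of_pow {M : Type*} [Monoid M] {x : M} {n : ℕ} (hn : x ^ n = 1)
    (hcop : n.Coprime 3) : NoThree x := fun h =>
  orderOf_eq_one_iff.1 (Nat.eq_one_of_dvd_coprimes hcop (orderOf_dvd_of_pow_eq_one hn)
    (orderOf_dvd_of_pow_eq_one (by rw [pow_succ, pow_two, h])))

/-- The values of a permutation of six letters. -/
def vals (π : Perm (Fin 6)) : List ℕ := List.ofFn fun i => (π i).1

/-- Composition of lists of values. -/
def lmul (a b : List ℕ) : List ℕ := b.map fun i => a.getD i 0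

/-- Parity of the number of inversions. -/
def lpar : List ℕ → ℕ
  | [] => 0
  | a :: l => ((l.filter fun b => b < a).length + lpar l) % 2

/-- The six-letter arrangements. -/
def arr : List (List ℕ) := [0, 1, 2, 3, 4, 5].permutations'

theorem vals_mul (a b : Perm (Fin 6)) : vals (a * b) = lmul (vals a) (vals b) := by
  simp only [vals, lmul, List.map_ofFn]
  refine congrArg List.ofFn (funext fun i => ?_)
  have key : ∀ (f : Fin 6 → ℕ) (j : Fin 6), f j = (List.ofFn f).getD j.1 0 := fun f j => by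
    rw [List.getD_eq_getElem _ _ (by rw [List.length_ofFn]; exact j.2), List.getElem_ofFn]
  exact key (fun j => (a j).1) (b i)

theorem vals_inj : Function.Injective vals := fun a b h =>
  Equiv.ext fun i => Fin.ext (congrFun (List.ofFn_injective h) i)

theorem vals_mem (π : Perm (Fin 6)) : vals π ∈ arr := by
  refine List.mem_permutations'.2 ?_
  refine (List.perm_ext_iff_of_nodup ?_ (by decide)).2 fun j => ?_
  · exact List.nodup_ofFn.2 fun a b h => π.injective (Fin.ext h)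
  · simp only [vals, List.mem_ofFn]
    constructor
    · rintro ⟨i, rfl⟩
      exact (show ∀ j : Fin 6, (j : ℕ) ∈ [0, 1, 2, 3, 4, 5] by decide) (π i)
    · intro hj
      obtain ⟨i, rfl⟩ : ∃ i : Fin 6, (i : ℕ) = j := by
        revert hj; revert j
        decide
      exact ⟨π.symm i, by simp⟩

theorem lpar_swap : ∀ l ∈ arr, ∀ a : Fin 5, lpar (lmul (vals (swap a.castSucc a.succ)) l) =
    (lpar l + 1) % 2 := by decide +kernel

theorem lpar_lt : ∀ l ∈ arr, lpar l < 2 := by decide +kernel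

theorem sign_eq_one_iff (π : Perm (Fin 6)) : Perm.sign π = 1 ↔ lpar (vals π) = 0 := by
  have hπ : π ∈ Submonoid.closure (Set.range fun a : Fin 5 => swap a.castSucc a.succ) := by
    rw [Perm.mclosure_swap_castSucc_succ]; trivial
  induction hπ using Submonoid.closure_induction_left with
  | one => exact iff_of_true (map_one _) (by decide +kernel)
  | mul_left g hg π _ ih =>
    obtain ⟨a, rfl⟩ := hg
    simp only at *
    rw [map_mul, Perm.sign_swap a.castSucc_lt_succ.ne, vals_mul, lpar_swap _ (vals_mem π) a]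
    have := lpar_lt _ (vals_mem π)
    rcases Int.units_eq_one_or (Perm.sign π) with h | h
    · have h' := ih.1 h
      rw [h, h']; decide
    · have h' : lpar (vals π) = 1 := by
        have : ¬ lpar (vals π) = 0 := fun e => by
          have := h.symm.trans (ih.2 e)
          exact absurd this (by decide)
        omega
      rw [h, h']; decide

theorem vals_c6 : vals c6 = [1, 2, 0, 3, 4, 5] ∧ vals c6⁻¹ = [2, 0, 1, 3, 4, 5] ∧
    vals (swap 1 2 * swap 3 4) = [0, 2, 1, 4, 3, 5] ∧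
    vals (swap 1 3 * swap 2 4) = [0, 3, 4, 1, 2, 5] := by decide +kernel

/-- The list version of `NoThree`. -/
def lNoThree (l : List ℕ) : Bool :=
  lmul (lmul l l) l != [0, 1, 2, 3, 4, 5] || l == [0, 1, 2, 3, 4, 5]

theorem lNoThree_of {x : Perm (Fin 6)} (h : NoThree x) : lNoThree (vals x) = true := by
  simp only [lNoThree, Bool.or_eq_true, bne_iff_ne, beq_iff_eq]
  by_cases hx : lmul (lmul (vals x) (vals x)) (vals x) = [0, 1, 2, 3, 4, 5]
  · have h1 : vals (1 : Perm (Fin 6)) = [0, 1, 2, 3, 4, 5] := by decide +kernel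
    rw [← vals_mul, ← vals_mul, ← h1] at hx
    exact Or.inr (by rw [h (vals_inj hx), h1])
  · exact Or.inl hx

/-- The condition on the lists. -/
def fourCond (l : List ℕ) : Bool :=
  let v := lmul (lmul [1, 2, 0, 3, 4, 5] l) [2, 0, 1, 3, 4, 5]
  let w := lmul (lmul [1, 2, 0, 3, 4, 5] v) [2, 0, 1, 3, 4, 5]
  lpar l == 0 && lNoThree (lmul (lmul (lmul l v) w) w) && lNoThree (lmul (lmul (lmul v l) w) w) &&
    lNoThree (lmul (lmul (lmul l w) v) w)

theorem fourCond_table : ∀ l ∈ arr, fourCond l = true →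
    ∃ (p : Fin 3) (i : Fin 4), l = vals (f6 p i) := by decide +kernel

/-- An element whose conjugates under `(3 4 5)` generate a group without elements of order
three is in one of the four-groups. -/
theorem four_of_words {π u w : Perm (Fin 6)} (hπ : Perm.sign π = 1) (hu : u = c6 * π * c6⁻¹)
    (hw : w = c6 * u * c6⁻¹) (h1 : NoThree (π * u * w * w)) (h2 : NoThree (u * π * w * w))
    (h3 : NoThree (π * w * u * w)) : ∃ (p : Fin 3) (i : Fin 4), π = f6 p i := by
  obtain ⟨p, i, h⟩ := fourCond_table _ (vals_mem π) (by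
    have e1 := lNoThree_of h1
    have e2 := lNoThree_of h2
    have e3 := lNoThree_of h3
    simp only [hw, hu, vals_mul, vals_c6.1, vals_c6.2.1] at e1 e2 e3
    simp only [fourCond, Bool.and_eq_true, beq_iff_eq]
    exact ⟨⟨⟨(sign_eq_one_iff π).1 hπ, e1⟩, e2⟩, e3⟩)
  exact ⟨p, i, vals_inj h⟩

theorem f6_pair_aux : ∀ p q : Fin 3,
    (f6 p 1 * f6 q 1 * (f6 p 1 * f6 q 1) * (f6 p 1 * f6 q 1) = 1 → f6 p 1 * f6 q 1 = 1) →
    p = q := by decide +kernel

theorem f6_pair {p q : Fin 3} (h : NoThree (f6 p 1 * f6 q 1)) : p = q := f6_pair_aux p q h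

theorem f6_orbit : ∀ (p : Fin 3) (i j : Fin 4), i ≠ 0 → j ≠ 0 →
    ∃ m : Fin 3, c6 ^ m.1 * f6 p i * (c6 ^ m.1)⁻¹ = f6 p j := by decide +kernel

theorem f6_mem : ∀ (p : Fin 3) (i : Fin 4), Perm.sign (f6 p i) = 1 := by decide +kernel

theorem emb_mem_K : ∀ (p : Fin 3) (i : Fin 4), emb (1, f6 p i) ∈ K := by decide +kernel

/-- The three four-groups in the block stabilizer. -/
def fk (p : Fin 3) (i : Fin 4) : K := ⟨emb (1, f6 p i), emb_mem_K p i⟩

theorem fk_zero : ∀ p : Fin 3, fk p 0 = 1 := by decide +kernel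

theorem fk_inj : ∀ (p q : Fin 3) (i j : Fin 4), fk p i = fk q j → i = j ∧ (i = 0 ∨ p = q) := by
  decide +kernel

theorem fk_comm_z : ∀ (p : Fin 3) (i : Fin 4), fk p i * zK = zK * fk p i := by decide +kernel

theorem fk_mul : ∀ (p : Fin 3) (i j : Fin 4), ∃ l, fk p i * fk p j = fk p l := by decide +kernel

theorem fk_sq : ∀ (p : Fin 3) (i : Fin 4), fk p i * fk p i = 1 := by decide +kernel

theorem p3K_eq : ∃ i : Fin 4, i ≠ 0 ∧ fk 1 i = p3K := by decide +kernel

theorem p7K_eq : ∃ i : Fin 4, i ≠ 0 ∧ fk 0 i = p7K := by decide +kernel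

/-- `(3 4 5)⁻¹`, carried by `cA * τ` to `z` -/
def zl : K := ⟨z2⁻¹, by decide +kernel⟩

/-- `(3 4 5)` in the block stabilizer -/
def z2K : K := ⟨z2, by decide +kernel⟩

theorem zl_facts : zl = z2K⁻¹ ∧ (zK : P9) = cA * τ * (zl : P9) * τ * cA⁻¹ ∧
    (z2K : P9) = emb (1, c6) := by decide +kernel

/-- `(4 5 6)` -/
def aK : K := ⟨swap 4 5 * swap 5 6, by decide +kernel⟩

theorem aK_label : (aK : P9) = cA * τ * (zK : P9) * τ * cA⁻¹ := by decide +kernel

/-- `(3 4)(7 8)`, carried by `cA * τ` to `(0 1)(3 8)` -/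
def rl : K := ⟨swap 3 4 * swap 7 8, by decide +kernel⟩

theorem rl_label : (rK : P9) = cA * τ * (rl : P9) * τ * cA⁻¹ := by decide +kernel

theorem rl_swap : ∀ i : Fin 4, (∃ j, rl * fk 1 i * rl⁻¹ = fk 2 j) ∧
    (∃ j, rl * fk 2 i * rl⁻¹ = fk 1 j) ∧ (i ≠ 0 → rl * fk 1 i * rl⁻¹ ≠ 1 ∧
      rl * fk 2 i * rl⁻¹ ≠ 1) := by decide +kernel

theorem rl_onto : ∀ i : Fin 4, ∃ j, rl * fk 2 j * rl⁻¹ = fk 1 i := by decide +kernel

/-- The four-group on `4, 5, 6, 7`. -/
def vk (a : Fin 2 × Fin 2) : K := w1K ^ a.1.1 * w2K ^ a.2.1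

theorem vk_mul : ∀ a b, ∃ c, vk a * vk b = vk c := by decide +kernel

theorem vk_zero : vk (0, 0) = 1 ∧ vk (1, 0) = w1K ∧ vk (0, 1) = w2K := by decide +kernel

theorem vk_sq : ∀ a, vk a * vk a = 1 := by decide +kernel

theorem vk_inj : ∀ a b, vk a = vk b → a = b := by decide +kernel

theorem vk_facts : ∀ a, vk a * zK = zK * vk a ∧ vk a * rK = rK * vk a ∧
    vk a * w1K = w1K * vk a ∧ vk a * w2K = w2K * vk a ∧
    (∃ b, aK * vk a * aK⁻¹ = vk b) ∧ (∃ b, aK⁻¹ * vk a * aK = vk b) ∧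
    (vk a * aK = aK * vk a → vk a = 1) ∧ (vk a * aK⁻¹ = aK⁻¹ * vk a → vk a = 1) := by
  decide +kernel

theorem emb_w : (w1K : P9) = emb (1, swap 1 2 * swap 3 4) ∧
    (w2K : P9) = emb (1, swap 1 3 * swap 2 4) := by decide +kernel

/-- The four-group on six letters. -/
def v6 (a : Fin 2 × Fin 2) : Perm (Fin 6) :=
  (swap 1 2 * swap 3 4) ^ a.1.1 * (swap 1 3 * swap 2 4) ^ a.2.1

theorem v6_table : ∀ l ∈ arr, (lpar l == 0 &&
    lmul l [0, 2, 1, 4, 3, 5] == lmul [0, 2, 1, 4, 3, 5] l &&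
    lmul l [0, 3, 4, 1, 2, 5] == lmul [0, 3, 4, 1, 2, 5] l) = true →
    ∃ a, l = vals (v6 a) := by decide +kernel

theorem emb_v6 : ∀ a, emb (1, v6 a) = (vk a : P9) := by decide +kernel

theorem cent_w6 {π : Perm (Fin 6)} (hs : Perm.sign π = 1)
    (h1 : π * (swap 1 2 * swap 3 4) = swap 1 2 * swap 3 4 * π)
    (h2 : π * (swap 1 3 * swap 2 4) = swap 1 3 * swap 2 4 * π) :
    ∃ a, emb (1, π) = (vk a : P9) := by
  obtain ⟨a, ha⟩ := v6_table _ (vals_mem π) (by
    have e1 := congrArg vals h1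
    have e2 := congrArg vals h2
    rw [vals_mul π, vals_mul _ π, vals_c6.2.2.1] at e1
    rw [vals_mul π, vals_mul _ π, vals_c6.2.2.2] at e2
    simp only [Bool.and_eq_true, beq_iff_eq]
    exact ⟨⟨(sign_eq_one_iff π).1 hs, e1⟩, e2⟩)
  exact ⟨a, by rw [vals_inj ha, emb_v6]⟩

theorem zK_facts : zK * aK = aK * zK ∧ zK ^ 3 = 1 ∧ aK ^ 3 = 1 ∧ rK * rK = 1 ∧
    rK * zK * rK⁻¹ = zK⁻¹ ∧ rK * aK = aK * rK ∧ zK ≠ 1 ∧ aK ∉ [1, zK, zK * zK] ∧
    rK ∉ [1, zK, zK * zK] ∧ w1K * zK = zK * w1K ∧ w2K * zK = zK * w2K ∧ w1K * rK = rK * w1K ∧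
    w2K * rK = rK * w2K := by decide +kernel

/-- `(0 1 2)(3 4 5)` in the block stabilizer -/
def yK : K := ⟨y, by decide +kernel⟩

/-- carries `y` to `z a` -/
def k1 : K := ⟨swap 3 4 * swap 4 5 * swap 5 6 * swap 7 8, by decide +kernel⟩

/-- carries `y` to `z a⁻¹` -/
def k2 : K := ⟨swap 3 4 * swap 4 6, by decide +kernel⟩

theorem k_facts : k1 * yK * k1⁻¹ = zK * aK ∧ k2 * yK * k2⁻¹ = zK * aK⁻¹ ∧
    k1 * zK = zK * k1 ∧ k2 * zK = zK * k2 := by decide +kernel

/-- Elements of the local model commuting with `y` either commute with `z` or exchange the first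
two blocks. -/
theorem cent_yH {h : Hm} (hy : h * yH = yH * h) :
    ((h : P9) 0).1 / 3 < 2 ∧ (((h : P9) 0).1 / 3 = 0 → h * zH = zH * h) ∧
      (((h : P9) 0).1 / 3 = 1 → ∀ i : Fin 9, i.1 / 3 = 1 → ((h : P9) i).1 / 3 = 0) := by
  have hb := (mem_Hm.1 h.2).2
  have hc : ∀ i, (h : P9) (y i) = y ((h : P9) i) := fun i =>
    congrArg (fun g : Hm => (g : P9) i) hy
  have key : ∀ i : Fin 9, ((y i = i ↔ i.1 / 3 = 2) ∧ (i.1 / 3 = 0 → y i = z i) ∧
      (i.1 / 3 ≠ 0 → z i = i) ∧ i.1 / 3 < 3) := by decide +kernel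
  have hmoved : ∀ i : Fin 9, i.1 / 3 ≠ 2 → ((h : P9) i).1 / 3 ≠ 2 := fun i hi e =>
    hi ((key i).1.1 ((h : P9).injective ((hc i).trans ((key _).1.2 e))))
  refine ⟨?_, fun h0 => ?_, fun h1 i hi => ?_⟩
  · have := hmoved 0 (by decide)
    have := (key ((h : P9) 0)).2.2.2
    omega
  · refine Subtype.ext (Equiv.ext fun i => ?_)
    show (h : P9) (z i) = z ((h : P9) i)
    by_cases hi : i.1 / 3 = 0
    · have hh : ((h : P9) i).1 / 3 = 0 := ((hb i 0).2 (by simpa using hi)).trans h0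
      rw [← (key i).2.1 hi, ← (key _).2.1 hh]
      exact hc i
    · have hh : ((h : P9) i).1 / 3 ≠ 0 := fun e => hi (by
        simpa using (hb i 0).1 (e.trans h0.symm))
      rw [(key i).2.2.1 hi, (key _).2.2.1 hh]
  · have := hmoved i (by omega)
    have := (key ((h : P9) i)).2.2.2
    have hne : ((h : P9) i).1 / 3 ≠ ((h : P9) 0).1 / 3 := fun e => by
      have := (hb i 0).1 e
      simp at this
      omega
    omega

theorem cent_yH_two {h h' : Hm} (hy : h * yH = yH * h) (hy' : h' * yH = yH * h')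
    (hz : ¬ h * zH = zH * h) (hz' : ¬ h' * zH = zH * h') : h * h' * zH = zH * (h * h') := by
  obtain ⟨h1, h2, h3⟩ := cent_yH hy
  obtain ⟨h1', h2', -⟩ := cent_yH hy'
  have e : ((h : P9) 0).1 / 3 = 1 := by
    have : ((h : P9) 0).1 / 3 ≠ 0 := fun e => hz (h2 e)
    omega
  have e' : ((h' : P9) 0).1 / 3 = 1 := by
    have : ((h' : P9) 0).1 / 3 ≠ 0 := fun e => hz' (h2' e)
    omega
  refine (cent_yH (h := h * h') ?_).2.1 (h3 e _ e')
  rw [mul_assoc, hy', ← mul_assoc, hy, mul_assoc]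

/-- `(0 1 2)` on five letters -/
def c5 : alternatingGroup (Fin 5) :=
  ⟨swap 0 1 * swap 1 2, Perm.mem_alternatingGroup.2 (by decide)⟩

/-- The two four-groups normalised by `(0 1 2)`. -/
def f5 (q : Fin 2) : Fin 4 → alternatingGroup (Fin 5) :=
  if q = 0 then
    ![1, ⟨swap 0 1 * swap 2 3, Perm.mem_alternatingGroup.2 (by decide)⟩,
      ⟨swap 1 2 * swap 0 3, Perm.mem_alternatingGroup.2 (by decide)⟩,
      ⟨swap 2 0 * swap 1 3, Perm.mem_alternatingGroup.2 (by decide)⟩]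
  else
    ![1, ⟨swap 0 1 * swap 2 4, Perm.mem_alternatingGroup.2 (by decide)⟩,
      ⟨swap 1 2 * swap 0 4, Perm.mem_alternatingGroup.2 (by decide)⟩,
      ⟨swap 2 0 * swap 1 4, Perm.mem_alternatingGroup.2 (by decide)⟩]

theorem order_three_conj : ∀ c : alternatingGroup (Fin 5), c ^ 3 = 1 → c ≠ 1 →
    ∃ g : alternatingGroup (Fin 5), g * c * g⁻¹ = c5 := by decide +kernel

theorem f5_mul : ∀ (q : Fin 2) (i j : Fin 4), ∃ l, f5 q i * f5 q j = f5 q l := by decide +kernel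

theorem f5_zero : ∀ q : Fin 2, f5 q 0 = 1 := by decide +kernel

theorem f5_conj : ∀ (q : Fin 2) (i : Fin 4), f5 q i ^ 2 = 1 ∧ (∃ l, c5 * f5 q i * c5⁻¹ = f5 q l) ∧
    ∃ l, c5⁻¹ * f5 q i * c5 = f5 q l := by
  decide +kernel

theorem f5_comm : ∀ (q : Fin 2) (i : Fin 4),
    f5 q i * (c5 * f5 q i * c5⁻¹) = c5 * f5 q i * c5⁻¹ * f5 q i := by
  decide +kernel

theorem f5_char : ∀ x : alternatingGroup (Fin 5), x * x = 1 →
    x * (c5 * x * c5⁻¹) = c5 * x * c5⁻¹ * x → ∃ (q : Fin 2) (i : Fin 4), x = f5 q i := by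
  decide +kernel

theorem f5_sep : ∀ (q q' : Fin 2) (i j : Fin 4), i ≠ 0 → j ≠ 0 →
    f5 q i * f5 q' j = f5 q' j * f5 q i → q = q' := by decide +kernel

theorem f5_inj : ∀ (q q' : Fin 2) (i j : Fin 4), f5 q i = f5 q' j → i = j ∧ (i = 0 ∨ q = q') := by
  decide +kernel

theorem f5_gen : ∀ x : alternatingGroup (Fin 5), ∃ (i j l : Fin 4) (m : Fin 3),
    x = f5 0 i * f5 1 j * f5 0 l * c5 ^ m.1 := by decide +kernel

end CfsgLib.ANineThree.Tri
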