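import Cfsg.Agent.Lib.ANineThree.Interface
import Cfsg.Agent.Lib.ANineThree.TrichotomyModel
import Cfsg.Agent.Lib.Coprime.Action2

/-!
Subgroups of order prime to three of the centralizer of the four-group normalised by
`⟨(0 1 2), (4 5 6)⟩`.
-/

set_option autoImplicit false
set_option maxRecDepth 100000
set_option linter.unusedSectionVars false

namespace CfsgLib.ANineThree.Tri

open Subgroup

universe u

variable {G : Type u} [Group G] {S : Data G}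

/-- The element carrying the normalizer of `⟨z⟩` to that of `⟨(4 5 6)⟩`. -/
def hh (T : Glue S) : G := T.ψ cK * S.g

/-- The labelling as a homomorphism. -/
noncomputable def labHom (T : Glue S) : K →* G :=
  (MulAut.conj (hh T)).toMonoidHom.comp T.ψ

theorem g_inv (S : Data G) : S.g⁻¹ = S.g := inv_eq_of_mul_eq_one_right S.g_mul_g

theorem labHom_apply (T : Glue S) (k : K) : labHom T k = T.lab cK k := by
  show hh T * T.ψ k * (hh T)⁻¹ = _
  rw [hh, mul_inv_rev, g_inv, Glue.lab]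
  group

theorem labHom_eq (T : Glue S) {k q : K} (h : (q : P9) = cA * τ * k * τ * cA⁻¹) :
    labHom T k = T.ψ q := by
  rw [labHom_apply]; exact T.lab_eq h

theorem labHom_inj (T : Glue S) : Function.Injective (labHom T) := fun _ _ h =>
  T.inj ((MulAut.conj (hh T)).injective h)

theorem labHom_zl (T : Glue S) : labHom T zl = T.ψ zK := labHom_eq T zl_facts.2.1

theorem labHom_zK (T : Glue S) : labHom T zK = T.ψ aK := labHom_eq T aK_label

theorem labHom_rl (T : Glue S) : labHom T rl = T.ψ rK := labHom_eq T rl_label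

theorem psi_zK (T : Glue S) : T.ψ zK = S.e zH := T.agree zH zK.2

theorem psi_yK (T : Glue S) : T.ψ yK = S.e yH := T.agree yH yK.2

/-- An element of the range of `ψ`. -/
theorem exists_of_comm_z (T : Glue S) {u : G} (hu : u * T.ψ zK = T.ψ zK * u) :
    ∃ k : K, k * zK = zK * k ∧ T.ψ k = u := by
  have h : u ∈ T.ψ.range := by
    rw [T.range_eq]
    refine centralizer_le_normalizer _ ?_
    refine mem_centralizer_iff.2 fun w hw => ?_
    obtain ⟨i, rfl⟩ := mem_zpowers_iff.1 hw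
    rw [← psi_zK T]
    exact ((show Commute u (T.ψ zK) from hu).zpow_right i).eq.symm
  obtain ⟨k, rfl⟩ := h
  exact ⟨k, T.inj (by rw [map_mul, map_mul, hu]), rfl⟩

/-- An element commuting with `(4 5 6)` is a label. -/
theorem exists_of_comm_a (T : Glue S) {u : G} (hu : u * T.ψ aK = T.ψ aK * u) :
    ∃ k : K, k * zK = zK * k ∧ labHom T k = u := by
  obtain ⟨k, hk, he⟩ := exists_of_comm_z T (u := (hh T)⁻¹ * u * hh T) (by
    rw [← labHom_zK T] at hu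
    change u * (hh T * T.ψ zK * (hh T)⁻¹) = hh T * T.ψ zK * (hh T)⁻¹ * u at hu
    calc (hh T)⁻¹ * u * hh T * T.ψ zK = (hh T)⁻¹ * (u * (hh T * T.ψ zK * (hh T)⁻¹)) * hh T := by
          group
      _ = (hh T)⁻¹ * (hh T * T.ψ zK * (hh T)⁻¹ * u) * hh T := by rw [hu]
      _ = _ := by group)
  refine ⟨k, hk, ?_⟩
  show hh T * T.ψ k * (hh T)⁻¹ = u
  rw [he]; group

/-- The four-group on `4, …, 7`. -/
def Vg (T : Glue S) : Subgroup G where
  carrier := {g | ∃ a, T.ψ (vk a) = g}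
  one_mem' := ⟨(0, 0), by rw [vk_zero.1, map_one]⟩
  mul_mem' := by
    rintro _ _ ⟨a, rfl⟩ ⟨b, rfl⟩
    obtain ⟨c, hc⟩ := vk_mul a b
    exact ⟨c, by rw [← hc, map_mul]⟩
  inv_mem' := by
    rintro _ ⟨a, rfl⟩
    exact ⟨a, by rw [← map_inv, inv_eq_of_mul_eq_one_right (vk_sq a)]⟩

theorem mem_Vg (T : Glue S) {g : G} : g ∈ Vg T ↔ ∃ a, T.ψ (vk a) = g := Iff.rfl

/-- The four-group with label `p`. -/
noncomputable def Fg (T : Glue S) (p : Fin 3) : Subgroup G where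
  carrier := {g | ∃ i, labHom T (fk p i) = g}
  one_mem' := ⟨0, by rw [fk_zero, map_one]⟩
  mul_mem' := by
    rintro _ _ ⟨a, rfl⟩ ⟨b, rfl⟩
    obtain ⟨c, hc⟩ := fk_mul p a b
    exact ⟨c, by rw [← hc, map_mul]⟩
  inv_mem' := by
    rintro _ ⟨a, rfl⟩
    exact ⟨a, by rw [← map_inv, inv_eq_of_mul_eq_one_right (fk_sq p a)]⟩

theorem mem_Fg (T : Glue S) {p : Fin 3} {g : G} : g ∈ Fg T p ↔ ∃ i, labHom T (fk p i) = g :=
  Iff.rfl

theorem mem_L_iff (T : Glue S) {g : G} :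
    g ∈ T.L ↔ g * T.ψ w1K = T.ψ w1K * g ∧ g * T.ψ w2K = T.ψ w2K * g := by
  rw [Glue.L, mem_centralizer_iff]
  constructor
  · exact fun h => ⟨(h _ (by simp)).symm, (h _ (by simp)).symm⟩
  · rintro ⟨a, b⟩ m (rfl | rfl)
    exacts [a.symm, b.symm]

theorem psi_mem_L (T : Glue S) {k : K} (h1 : k * w1K = w1K * k) (h2 : k * w2K = w2K * k) :
    T.ψ k ∈ T.L :=
  (mem_L_iff T).2 ⟨by rw [← map_mul, h1, map_mul], by rw [← map_mul, h2, map_mul]⟩

theorem Vg_le_L (T : Glue S) : Vg T ≤ T.L := by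
  rintro _ ⟨a, rfl⟩
  exact psi_mem_L T (vk_facts a).2.2.1 (vk_facts a).2.2.2.1

theorem zK_mem_L (T : Glue S) : T.ψ zK ∈ T.L :=
  psi_mem_L T zK_facts.2.2.2.2.2.2.2.2.2.1.symm zK_facts.2.2.2.2.2.2.2.2.2.2.1.symm

theorem rK_mem_L (T : Glue S) : T.ψ rK ∈ T.L :=
  psi_mem_L T zK_facts.2.2.2.2.2.2.2.2.2.2.2.1.symm zK_facts.2.2.2.2.2.2.2.2.2.2.2.2.symm

/-- The four-group is central in its centralizer. -/
theorem comm_Vg (T : Glue S) {g w : G} (hg : g ∈ T.L) (hw : w ∈ Vg T) : g * w = w * g := by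
  obtain ⟨a, rfl⟩ := hw
  obtain ⟨h1, h2⟩ := (mem_L_iff T).1 hg
  rw [vk, map_mul, map_pow, map_pow]
  exact (((show Commute g (T.ψ w1K) from h1).pow_right _).mul_right
    ((show Commute g (T.ψ w2K) from h2).pow_right _)).eq

theorem conj_aK_Vg (T : Glue S) {w : G} (hw : w ∈ Vg T) :
    T.ψ aK * w * (T.ψ aK)⁻¹ ∈ Vg T ∧ (T.ψ aK)⁻¹ * w * T.ψ aK ∈ Vg T := by
  obtain ⟨a, rfl⟩ := hw
  obtain ⟨-, -, -, -, ⟨b, hb⟩, ⟨c, hc⟩, -, -⟩ := vk_facts a
  exact ⟨⟨b, by rw [← hb, map_mul, map_mul, map_inv]⟩, ⟨c, by rw [← hc, map_mul, map_mul, map_inv]⟩⟩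

theorem aK_normalizes_L (T : Glue S) : T.ψ aK ∈ normalizer (T.L : Set G) := by
  have key : ∀ b : G, (∀ w ∈ Vg T, b⁻¹ * w * b ∈ Vg T) → ∀ g ∈ T.L, b * g * b⁻¹ ∈ T.L := by
    intro b hb g hg
    have h : ∀ w ∈ Vg T, b * g * b⁻¹ * w = w * (b * g * b⁻¹) := fun w hw => by
      calc b * g * b⁻¹ * w = b * (g * (b⁻¹ * w * b)) * b⁻¹ := by group
        _ = b * (b⁻¹ * w * b * g) * b⁻¹ := by rw [comm_Vg T hg (hb w hw)]
        _ = _ := by group
    exact (mem_L_iff T).2 ⟨h _ ⟨(1, 0), by rw [vk_zero.2.1]⟩, h _ ⟨(0, 1), by rw [vk_zero.2.2]⟩⟩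
  refine mem_normalizer_iff.2 fun g => ⟨key _ (fun w hw => (conj_aK_Vg T hw).2) g, fun hg => ?_⟩
  have := key (T.ψ aK)⁻¹ (fun w hw => by
    rw [inv_inv]; exact (conj_aK_Vg T hw).1) _ hg
  rwa [show (T.ψ aK)⁻¹ * (T.ψ aK * g * (T.ψ aK)⁻¹) * (T.ψ aK)⁻¹⁻¹ = g by group] at this

/-- `C_L(z) = V × ⟨z⟩`. -/
theorem cent_z_L (T : Glue S) {u : G} (hu : u ∈ T.L) (hz : u * T.ψ zK = T.ψ zK * u) :
    ∃ (i : Fin 3) (a : Fin 2 × Fin 2), u = T.ψ zK ^ i.1 * T.ψ (vk a) := by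
  obtain ⟨k, hk, rfl⟩ := exists_of_comm_z T hz
  obtain ⟨h1, h2⟩ := (mem_L_iff T).1 hu
  obtain ⟨i, π, hπ, hkp⟩ := exists_split hk
  have e : ∀ (w : K) (w' : Equiv.Perm (Fin 6)), (w : P9) = emb (1, w') →
      T.ψ k * T.ψ w = T.ψ w * T.ψ k → π * w' = w' * π := by
    intro w w' hw h
    rw [← map_mul, ← map_mul] at h
    have h' : (k : P9) * (w : P9) = (w : P9) * (k : P9) :=
      congrArg (fun g : K => (g : P9)) (T.inj h)
    rw [hkp, hw, ← map_mul, ← map_mul] at h'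
    exact congrArg Prod.snd (emb_inj h')
  obtain ⟨a, ha⟩ := cent_w6 hπ (e _ _ emb_w.1 h1) (e _ _ emb_w.2 h2)
  refine ⟨i, a, ?_⟩
  rw [← map_pow, ← map_mul]
  congr 1
  refine Subtype.ext ?_
  rw [coe_mul, SubgroupClass.coe_pow, hkp, ← ha, show (zK : P9) = emb (c3, 1) from emb_z.symm,
    ← map_pow, ← map_mul]
  congr 1
  simp [Prod.ext_iff]

theorem mem_Vg_of_coprime (T : Glue S) {u : G} (hu : u ∈ T.L) (hz : u * T.ψ zK = T.ψ zK * u)
    {n : ℕ} (hn : u ^ n = 1) (hcop : n.Coprime 3) : u ∈ Vg T := by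
  obtain ⟨i, a, rfl⟩ := cent_z_L T hu hz
  have hc : Commute (T.ψ zK ^ i.1) (T.ψ (vk a)) := by
    refine Commute.pow_left ?_ _
    show T.ψ zK * T.ψ (vk a) = _
    rw [← map_mul, ← (vk_facts a).1, map_mul]
  have hz3 : T.ψ zK ^ 3 = 1 := by rw [← map_pow, zK_facts.2.1, map_one]
  have h2 : T.ψ (vk a) ^ 2 = 1 := by rw [← map_pow, pow_two, vk_sq, map_one]
  have h : (T.ψ zK ^ i.1) ^ (2 * n) = 1 := by
    have h' : (T.ψ zK ^ i.1 * T.ψ (vk a)) ^ (2 * n) = 1 := by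
      rw [mul_comm 2, pow_mul, hn, one_pow]
    rwa [hc.mul_pow, pow_mul (T.ψ (vk a)), h2, one_pow, mul_one] at h'
  have h3 : (T.ψ zK ^ i.1) ^ 3 = 1 := by rw [← pow_mul, mul_comm, pow_mul, hz3, one_pow]
  rw [orderOf_eq_one_iff.1 (Nat.eq_one_of_dvd_coprimes
    ((show Nat.Coprime 2 3 by norm_num).mul_left hcop)
    (orderOf_dvd_of_pow_eq_one h) (orderOf_dvd_of_pow_eq_one h3)), one_mul]
  exact ⟨a, rfl⟩

variable [Finite G]

theorem pow_card_mem {W : Subgroup G} {u : G} (hu : u ∈ W) : u ^ Nat.card W = 1 := by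
  have := congrArg Subtype.val (pow_card_eq_one' (x := (⟨u, hu⟩ : W)))
  rw [SubgroupClass.coe_pow] at this
  exact this

/-- Subgroups of order prime to three of `C((4 5 6))` normalised by `z`. -/
theorem cent_a_cases (T : Glue S) {U : Subgroup G} (hcop : (Nat.card U).Coprime 3)
    (ha : ∀ u ∈ U, u * T.ψ aK = T.ψ aK * u) (hz : T.ψ zK ∈ normalizer (U : Set G)) :
    U = ⊥ ∨ ∃ p, U = Fg T p := by
  classical
  set U1 : Subgroup K := U.comap (labHom T)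
  have hU1 : ∀ k ∈ U1, k ^ Nat.card U = 1 := fun k hk => labHom_inj T (by
    rw [map_pow, map_one]; exact pow_card_mem hk)
  have hsurj : ∀ u ∈ U, ∃ k ∈ U1, k * zK = zK * k ∧ labHom T k = u := fun u hu => by
    obtain ⟨k, hk, rfl⟩ := exists_of_comm_a T (ha u hu)
    exact ⟨k, hu, hk, rfl⟩
  have hconj : ∀ k ∈ U1, z2K * k * z2K⁻¹ ∈ U1 := fun k hk => by
    have hn : (T.ψ zK)⁻¹ ∈ normalizer (U : Set G) := inv_mem hz
    have h := (mem_normalizer_iff.1 hn (labHom T k)).1 hk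
    show labHom T _ ∈ U
    rw [map_mul, map_mul, map_inv, ← inv_inv z2K, ← zl_facts.1, map_inv, labHom_zl]
    exact h
  have hsplit : ∀ k ∈ U1, ∃ π : Equiv.Perm (Fin 6), Equiv.Perm.sign π = 1 ∧
      (k : P9) = emb (1, π) ∧ π ^ Nat.card U = 1 := fun k hk => by
    obtain ⟨k', -, hk'z, hk'e⟩ := hsurj _ hk
    rw [labHom_inj T hk'e] at hk'z
    exact exists_split_coprime hk'z (hU1 k hk) hcop
  have hclass : ∀ k ∈ U1, ∃ p i, k = fk p i := by
    intro k hk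
    have hk1 := hconj k hk
    have hk2 := hconj _ hk1
    obtain ⟨π, hπ, hkp, -⟩ := hsplit k hk
    have hno : ∀ {x : K} {ρ : Equiv.Perm (Fin 6)}, x ∈ U1 → (x : P9) = emb (1, ρ) → NoThree ρ := by
      intro x ρ hx hxe
      obtain ⟨σ, -, hσ, hσn⟩ := hsplit x hx
      rw [hxe] at hσ
      have e : ρ = σ := congrArg Prod.snd (emb_inj hσ)
      exact noThree_of_pow (e ▸ hσn) hcop
    have hval1 : ((z2K * k * z2K⁻¹ : K) : P9) = emb (1, c6 * π * c6⁻¹) := by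
      rw [coe_mul, coe_mul, coe_inv, hkp, zl_facts.2.2, ← map_inv, ← map_mul, ← map_mul]
      simp
    have hval2 : ((z2K * (z2K * k * z2K⁻¹) * z2K⁻¹ : K) : P9) =
        emb (1, c6 * (c6 * π * c6⁻¹) * c6⁻¹) := by
      rw [coe_mul, coe_mul, coe_inv, hval1, zl_facts.2.2, ← map_inv, ← map_mul, ← map_mul]
      simp
    obtain ⟨p, i, rfl⟩ := four_of_words hπ rfl rfl
      (hno (mul_mem (mul_mem (mul_mem hk hk1) hk2) hk2) (by
        rw [coe_mul, coe_mul, coe_mul, hval2, hval1, hkp, ← map_mul, ← map_mul, ← map_mul]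
        simp))
      (hno (mul_mem (mul_mem (mul_mem hk1 hk) hk2) hk2) (by
        rw [coe_mul, coe_mul, coe_mul, hval2, hval1, hkp, ← map_mul, ← map_mul, ← map_mul]
        simp))
      (hno (mul_mem (mul_mem (mul_mem hk hk2) hk1) hk2) (by
        rw [coe_mul, coe_mul, coe_mul, hval2, hval1, hkp, ← map_mul, ← map_mul, ← map_mul]
        simp))
    exact ⟨p, i, Subtype.ext hkp⟩
  by_cases hU : ∀ u ∈ U, u = 1
  · exact Or.inl ((eq_bot_iff_forall U).2 hU)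
  push Not at hU
  obtain ⟨u, hu, hune⟩ := hU
  obtain ⟨k, hk, -, rfl⟩ := hsurj u hu
  obtain ⟨p, i, rfl⟩ := hclass k hk
  have hine : i ≠ 0 := by rintro rfl; exact hune (by rw [fk_zero, map_one])
  have hconjn : ∀ (k : K) (m : ℕ), k ∈ U1 → z2K ^ m * k * (z2K ^ m)⁻¹ ∈ U1 := fun k m hk => by
    induction m with
    | zero => simpa using hk
    | succ m ih =>
      have := hconj _ ih
      rwa [pow_succ', mul_inv_rev, show z2K * z2K ^ m * k * ((z2K ^ m)⁻¹ * z2K⁻¹) =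
        z2K * (z2K ^ m * k * (z2K ^ m)⁻¹) * z2K⁻¹ by group]
  have horbit : ∀ (q : Fin 3) (a b : Fin 4), a ≠ 0 → fk q a ∈ U1 → fk q b ∈ U1 := by
    intro q a b ha hqa
    rcases eq_or_ne b 0 with rfl | hb
    · rw [fk_zero]; exact one_mem _
    obtain ⟨m, hm⟩ := f6_orbit q a b ha hb
    have e : z2K ^ m.1 * fk q a * (z2K ^ m.1)⁻¹ = fk q b := by
      refine Subtype.ext ?_
      rw [coe_mul, coe_mul, coe_inv, SubgroupClass.coe_pow, zl_facts.2.2,
        show (fk q a : P9) = emb (1, f6 q a) from rfl, ← map_pow, ← map_inv, ← map_mul, ← map_mul,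
        show (fk q b : P9) = emb (1, f6 q b) from rfl, ← hm]
      simp
    rw [← e]
    exact hconjn _ _ hqa
  refine Or.inr ⟨p, le_antisymm (fun v hv => ?_) ?_⟩
  · obtain ⟨k', hk', -, rfl⟩ := hsurj v hv
    obtain ⟨q, j, rfl⟩ := hclass k' hk'
    rcases eq_or_ne j 0 with rfl | hj
    · rw [fk_zero, map_one]; exact one_mem _
    have h1 := mul_mem (horbit p i 1 hine hk) (horbit q j 1 hj hk')
    obtain ⟨σ, -, hσ, hσn⟩ := hsplit _ h1
    have e : f6 p 1 * f6 q 1 = σ := by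
      rw [coe_mul, show (fk p 1 : P9) = emb (1, f6 p 1) from rfl,
        show (fk q 1 : P9) = emb (1, f6 q 1) from rfl, ← map_mul] at hσ
      simpa using congrArg Prod.snd (emb_inj hσ)
    obtain rfl := f6_pair (e ▸ noThree_of_pow hσn hcop)
    exact ⟨j, rfl⟩
  · rintro _ ⟨j, rfl⟩
    exact horbit p i j hine hk

/-- Elements of order prime to three centralising a conjugate of `y` built from `z` and a
normalised subgroup. -/
theorem cent_za_trivial (T : Glue S) (hy : centralizer ({S.e yH} : Set G) ≤ S.e.range)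
    {W : Subgroup G} (hWL : W ≤ T.L) (hcop : (Nat.card W).Coprime 3)
    (hz : T.ψ zK ∈ normalizer (W : Set G)) {a' k : K} (hk : k * yK * k⁻¹ = zK * a')
    (hkz : k * zK = zK * k) (hza : zK * a' = a' * zK)
    (hV : ∀ b, vk b * a' = a' * vk b → vk b = 1) {u : G} (hu : u ∈ W)
    (hc : u * T.ψ (zK * a') = T.ψ (zK * a') * u) : u = 1 := by
  have hfix : ∀ w ∈ W, w * T.ψ (zK * a') = T.ψ (zK * a') * w → w * T.ψ zK = T.ψ zK * w →
      w = 1 := by
    intro w hw h1 h2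
    obtain ⟨b, rfl⟩ := mem_Vg_of_coprime T (hWL hw) h2 (pow_card_mem hw) hcop
    rw [hV b ?_, map_one]
    have e : vk b * (zK * a') = zK * a' * vk b := T.inj (by simpa only [map_mul] using h1)
    rw [← mul_assoc, (vk_facts b).1, mul_assoc, mul_assoc] at e
    exact mul_left_cancel e
  have hpull : ∀ w, w * T.ψ (zK * a') = T.ψ (zK * a') * w →
      ∃ h : Hm, h * yH = yH * h ∧ S.e h = (T.ψ k)⁻¹ * w * T.ψ k := by
    intro w hw
    have hmem : (T.ψ k)⁻¹ * w * T.ψ k ∈ centralizer ({S.e yH} : Set G) := by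
      rw [mem_centralizer_singleton_iff, ← psi_yK T]
      rw [← hk, map_mul, map_mul, map_inv] at hw
      calc (T.ψ k)⁻¹ * w * T.ψ k * T.ψ yK
          = (T.ψ k)⁻¹ * (w * (T.ψ k * T.ψ yK * (T.ψ k)⁻¹)) * T.ψ k := by group
        _ = (T.ψ k)⁻¹ * (T.ψ k * T.ψ yK * (T.ψ k)⁻¹ * w) * T.ψ k := by rw [hw]
        _ = _ := by group
    obtain ⟨h, hh'⟩ := hy hmem
    refine ⟨h, S.inj ?_, hh'⟩
    rw [map_mul, map_mul, hh']
    exact mem_centralizer_singleton_iff.1 hmem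
  have hzk : T.ψ zK = T.ψ k * S.e zH * (T.ψ k)⁻¹ := by
    rw [← psi_zK T, ← map_inv, ← map_mul, ← map_mul, hkz, mul_inv_cancel_right]
  have hflip : ∀ w w', w ∈ W → w' ∈ W → w * T.ψ (zK * a') = T.ψ (zK * a') * w →
      w' * T.ψ (zK * a') = T.ψ (zK * a') * w' → w ≠ 1 → w' ≠ 1 → w * w' = 1 := by
    intro w w' hw hw' hcw hcw' hne hne'
    obtain ⟨h, hh1, hh2⟩ := hpull w hcw
    obtain ⟨h', hh1', hh2'⟩ := hpull w' hcw'
    have hn : ∀ v (m : Hm), v ∈ W → v ≠ 1 → v * T.ψ (zK * a') = T.ψ (zK * a') * v →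
        S.e m = (T.ψ k)⁻¹ * v * T.ψ k → ¬ m * zH = zH * m := by
      intro v m hv hv1 hvc hm hmz
      refine hv1 (hfix v hv hvc ?_)
      have e := congrArg S.e hmz
      rw [map_mul, map_mul, hm] at e
      rw [hzk]
      calc v * (T.ψ k * S.e zH * (T.ψ k)⁻¹)
          = T.ψ k * ((T.ψ k)⁻¹ * v * T.ψ k * S.e zH) * (T.ψ k)⁻¹ := by group
        _ = T.ψ k * (S.e zH * ((T.ψ k)⁻¹ * v * T.ψ k)) * (T.ψ k)⁻¹ := by rw [e]
        _ = _ := by group
    have h2 := cent_yH_two hh1 hh1' (hn w h hw hne hcw hh2) (hn w' h' hw' hne' hcw' hh2')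
    have e := congrArg S.e h2
    simp only [map_mul, hh2, hh2'] at e
    refine hfix _ (mul_mem hw hw') ?_ ?_
    · exact ((show Commute w _ from hcw).mul_left (show Commute w' _ from hcw')).eq
    · rw [hzk]
      calc w * w' * (T.ψ k * S.e zH * (T.ψ k)⁻¹)
          = T.ψ k * ((T.ψ k)⁻¹ * w * T.ψ k * ((T.ψ k)⁻¹ * w' * T.ψ k) * S.e zH) * (T.ψ k)⁻¹ := by
            group
        _ = T.ψ k * (S.e zH * ((T.ψ k)⁻¹ * w * T.ψ k * ((T.ψ k)⁻¹ * w' * T.ψ k))) * (T.ψ k)⁻¹ := by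
            rw [e]
        _ = _ := by group
  by_contra hne
  have hzc : Commute (T.ψ zK) (T.ψ (zK * a')) := by
    show T.ψ zK * T.ψ (zK * a') = _
    rw [← map_mul, ← map_mul]
    congr 1
    rw [mul_assoc, hza]
  set u' := T.ψ zK * u * (T.ψ zK)⁻¹
  have hu' : u' ∈ W := (mem_normalizer_iff.1 hz u).1 hu
  have hcu' : u' * T.ψ (zK * a') = T.ψ (zK * a') * u' :=
    ((hzc.mul_left (show Commute u _ from hc)).mul_left hzc.inv_left).eq
  have hne' : u' ≠ 1 := fun e => hne (conj_eq_one_iff.1 e)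
  have e1 := hflip u u hu hu hc hc hne hne
  have e2 := hflip u u' hu hu' hc hcu' hne hne'
  refine hne (hfix u hu hc ?_)
  have e : u' = u := mul_left_cancel (e2.trans e1.symm)
  exact (mul_inv_eq_iff_eq_mul.1 e).symm

/-- The subgroup `⟨z, (4 5 6)⟩` of the model. -/
theorem AK_mul : ∀ i j i' j' : Fin 3, ∃ i'' j'' : Fin 3,
    (zK ^ i.1 * aK ^ j.1) * (zK ^ i'.1 * aK ^ j'.1) = zK ^ i''.1 * aK ^ j''.1 := by
  decide +kernel

theorem AK_inv : ∀ i j : Fin 3, ∃ i'' j'' : Fin 3,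
    (zK ^ i.1 * aK ^ j.1) * (zK ^ i''.1 * aK ^ j''.1) = 1 := by
  decide +kernel

theorem AK_comm : ∀ i j i' j' : Fin 3,
    (zK ^ i.1 * aK ^ j.1) * (zK ^ i'.1 * aK ^ j'.1) =
      (zK ^ i'.1 * aK ^ j'.1) * (zK ^ i.1 * aK ^ j.1) := by
  decide +kernel

theorem AK_cases : ∀ i j : Fin 3, zK ^ i.1 * aK ^ j.1 = 1 ∨
    (zK ^ i.1 * aK ^ j.1 = zK ∨ zK ^ i.1 * aK ^ j.1 = zK⁻¹) ∨
    (zK ^ i.1 * aK ^ j.1 = aK ∨ zK ^ i.1 * aK ^ j.1 = aK⁻¹) ∨
    (zK ^ i.1 * aK ^ j.1 = zK * aK ∨ zK ^ i.1 * aK ^ j.1 = (zK * aK)⁻¹) ∨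
    (zK ^ i.1 * aK ^ j.1 = zK * aK⁻¹ ∨ zK ^ i.1 * aK ^ j.1 = (zK * aK⁻¹)⁻¹) := by
  decide +kernel

/-- `⟨z, (4 5 6)⟩` -/
def AK : Subgroup K where
  carrier := {k | ∃ i j : Fin 3, k = zK ^ i.1 * aK ^ j.1}
  one_mem' := ⟨0, 0, by simp⟩
  mul_mem' := by
    rintro _ _ ⟨i, j, rfl⟩ ⟨i', j', rfl⟩
    exact AK_mul i j i' j'
  inv_mem' := by
    rintro _ ⟨i, j, rfl⟩
    obtain ⟨i', j', h⟩ := AK_inv i j
    exact ⟨i', j', inv_eq_of_mul_eq_one_right h⟩

theorem zK_mem_AK : zK ∈ AK := ⟨1, 0, by simp⟩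

theorem aK_mem_AK : aK ∈ AK := ⟨0, 1, by simp⟩

theorem AK_three {k : K} (hk : k ∈ AK) : k ^ 3 = 1 := by
  obtain ⟨i, j, rfl⟩ := hk
  rw [((show Commute zK aK from zK_facts.1).pow_pow _ _).mul_pow, ← pow_mul, mul_comm, pow_mul,
    zK_facts.2.1, one_pow, one_mul, ← pow_mul, mul_comm, pow_mul, zK_facts.2.2.1, one_pow]

/-- A subgroup of order prime to three of `L` normalised by `⟨z, (4 5 6)⟩`. -/
theorem split (T : Glue S) (hy : centralizer ({S.e yH} : Set G) ≤ S.e.range) {W : Subgroup G}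
    (hWL : W ≤ T.L) (hcop : (Nat.card W).Coprime 3) (hz : T.ψ zK ∈ normalizer (W : Set G))
    (ha : T.ψ aK ∈ normalizer (W : Set G)) :
    W ≤ Vg T ∨ ∃ p, W ⊓ centralizer ({T.ψ aK} : Set G) = Fg T p ∧ W ≤ Vg T ⊔ Fg T p := by
  classical
  set U := W ⊓ centralizer ({T.ψ aK} : Set G) with hUdef
  set A := AK.map T.ψ
  have hAW : A ≤ normalizer (W : Set G) := by
    rintro _ ⟨_, ⟨i, j, rfl⟩, rfl⟩
    rw [map_mul, map_pow, map_pow]
    exact mul_mem (pow_mem hz _) (pow_mem ha _)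
  haveI : IsMulCommutative A := ⟨⟨by
    rintro ⟨_, k, ⟨i, j, rfl⟩, rfl⟩ ⟨_, l, ⟨i', j', rfl⟩, rfl⟩
    exact Subtype.ext (by rw [coe_mul, coe_mul]; simp only [← map_mul]; rw [AK_comm])⟩⟩
  have hA3 : IsPGroup 3 A := fun d => ⟨1, Subtype.ext (by
    obtain ⟨k, hk, e⟩ := d.2
    rw [SubgroupClass.coe_pow, ← e, ← map_pow, pow_one, AK_three hk, map_one, OneMemClass.coe_one])⟩
  have hAc : ¬ IsCyclic A := by
    intro hc
    obtain ⟨g, hg⟩ := hc.exists_generator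
    obtain ⟨k, hk, e⟩ := g.2
    have hg3 : g ^ 3 = 1 := Subtype.ext (by
      rw [SubgroupClass.coe_pow, ← e, ← map_pow, AK_three hk, map_one, OneMemClass.coe_one])
    have hall : ∀ x ∈ AK, x ∈ [1, k, k * k] := fun x hx => by
      obtain ⟨m, hm⟩ := mem_zpowers_iff.1 (hg ⟨T.ψ x, mem_map_of_mem _ hx⟩)
      have hm' : (g : G) ^ m = T.ψ x := congrArg Subtype.val hm
      rw [← e, ← map_zpow] at hm'
      rw [← T.inj hm', zpow_eq_zpow_emod' m (AK_three hk)]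
      rcases (show m % ((3 : ℕ) : ℤ) = 0 ∨ m % ((3 : ℕ) : ℤ) = 1 ∨ m % ((3 : ℕ) : ℤ) = 2 by omega)
        with h | h | h <;> rw [h]
      · simp
      · simp
      · simp [pow_two]
    have h1 := hall zK zK_mem_AK
    have h2 := hall aK aK_mem_AK
    simp only [List.mem_cons, List.not_mem_nil, or_false] at h1 h2
    have hne := zK_facts.2.2.2.2.2.2.2.1
    simp only [List.mem_cons, List.not_mem_nil, or_false, not_or] at hne
    have hk3 : k * k * k = 1 := by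
      have h3 := AK_three hk
      rwa [pow_succ, pow_two] at h3
    rcases h1 with h | h | h
    · exact zK_facts.2.2.2.2.2.2.1 h
    · rw [h] at hne
      rcases h2 with h' | h' | h'
      exacts [hne.1 h', hne.2.1 h', hne.2.2 h']
    · rw [h] at hne
      rcases h2 with h' | h' | h'
      · exact hne.1 h'
      · exact hne.2.2 (by
          rw [h']
          calc k = k * (k * k * k) := by rw [hk3, mul_one]
            _ = k * k * (k * k) := by group)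
      · exact hne.2.1 h'
  have hcA : (Nat.card A).Coprime (Nat.card W) := by
    obtain ⟨n, hn⟩ := hA3.exists_card_eq
    rw [hn]
    exact hcop.symm.pow_left n
  have hle : W ≤ (W ⊓ Vg T) ⊔ U := by
    refine CfsgLib.Coprime.le_of_centralizer_le_of_not_isCyclic hAc hAW hcA ?_
    rintro _ ⟨_, ⟨i, j, rfl⟩, rfl⟩ hd1 w ⟨hwW, hwd⟩
    have hw := mem_centralizer_singleton_iff.1 hwd
    have hinv : ∀ d : K, w * T.ψ d⁻¹ = T.ψ d⁻¹ * w → w * T.ψ d = T.ψ d * w := fun d h => by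
      rw [map_inv] at h
      have := Commute.inv_right (show Commute w (T.ψ d)⁻¹ from h)
      rwa [inv_inv] at this
    have hzcase : w * T.ψ zK = T.ψ zK * w → w ∈ (W ⊓ Vg T) ⊔ U := fun h =>
      mem_sup_left ⟨hwW, mem_Vg_of_coprime T (hWL hwW) h (pow_card_mem hwW) hcop⟩
    have hacase : w * T.ψ aK = T.ψ aK * w → w ∈ (W ⊓ Vg T) ⊔ U := fun h =>
      mem_sup_right ⟨hwW, mem_centralizer_singleton_iff.2 h⟩
    have hza1 : w * T.ψ (zK * aK) = T.ψ (zK * aK) * w → w ∈ (W ⊓ Vg T) ⊔ U := fun h => by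
      rw [cent_za_trivial T hy hWL hcop hz k_facts.1 k_facts.2.2.1 zK_facts.1
        (fun b => (vk_facts b).2.2.2.2.2.2.1) hwW h]
      exact one_mem _
    have hza2 : w * T.ψ (zK * aK⁻¹) = T.ψ (zK * aK⁻¹) * w → w ∈ (W ⊓ Vg T) ⊔ U := fun h => by
      rw [cent_za_trivial T hy hWL hcop hz k_facts.2.1 k_facts.2.2.2
        ((show Commute zK aK from zK_facts.1).inv_right).eq
        (fun b => (vk_facts b).2.2.2.2.2.2.2) hwW h]
      exact one_mem _
    rcases AK_cases i j with e | (e | e) | (e | e) | (e | e) | (e | e) <;> rw [e] at hw hd1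
    · exact absurd (map_one _) hd1
    exacts [hzcase hw, hzcase (hinv _ hw), hacase hw, hacase (hinv _ hw), hza1 hw,
      hza1 (hinv _ hw), hza2 hw, hza2 (hinv _ hw)]
  have hUz : T.ψ zK ∈ normalizer (U : Set G) := by
    have hc : T.ψ zK ∈ centralizer ({T.ψ aK} : Set G) := by
      rw [mem_centralizer_singleton_iff, ← map_mul, ← map_mul, zK_facts.1]
    refine mem_normalizer_iff.2 fun u => ⟨fun hu => ⟨(mem_normalizer_iff.1 hz u).1 hu.1,
      mul_mem (mul_mem hc hu.2) ((centralizer ({T.ψ aK} : Set G)).inv_mem hc)⟩, fun hu => ⟨(mem_normalizer_iff.1 hz u).2 hu.1, ?_⟩⟩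
    have := mul_mem (mul_mem (inv_mem hc) hu.2) hc
    rwa [show (T.ψ zK)⁻¹ * (T.ψ zK * u * (T.ψ zK)⁻¹) * T.ψ zK = u by group] at this
  rcases cent_a_cases T (hcop.coprime_dvd_left (card_dvd_of_le inf_le_left))
    (fun u hu => mem_centralizer_singleton_iff.1 hu.2) hUz with h | ⟨p, hp⟩
  · rw [show U = ⊥ from h, sup_bot_eq] at hle
    exact Or.inl (hle.trans inf_le_right)
  · rw [show U = Fg T p from hp] at hle
    exact Or.inr ⟨p, hp, hle.trans (sup_le_sup inf_le_right le_rfl)⟩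

end CfsgLib.ANineThree.Tri
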